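import Cfsg.Agent.Lib.SEAbelian.ReduceTools
import Cfsg.Agent.Lib.ZStar.Main
import Cfsg.Agent.Lib.Involutions.Isolated
import Cfsg.Agent.Lib.Components.Basic
import Cfsg.Agent.Lib.Components.Fitting

/-!
# Simple groups with abelian Sylow 2-subgroups, and their automorphisms of 2-power order

* `fixed_eq_one`: the normalizer of the Sylow subgroup fixes none of its elements but the identity;
* `sylow_le_normal`: an abelian Sylow 2-subgroup acts on a simple group by inner automorphisms;
* `oneTwoClass_of_small`: with at most eight elements, the Sylow subgroup has one class of non-identity elements.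
-/

set_option autoImplicit false
set_option linter.style.haveILetI false
set_option linter.unusedSectionVars false

namespace Cfsg.Agent.Walter

open Subgroup
open Cfsg.Agent.SEAbelian

universe u

/-- The normalizer of a Sylow 2-subgroup is transitive on its non-identity elements. -/
def OneTwoClass (L : Type u) [Group L] : Prop :=
  ∀ P : Sylow 2 L, ∀ x ∈ (P : Subgroup L), ∀ y ∈ (P : Subgroup L), x ≠ 1 → y ≠ 1 →
    ∃ n ∈ normalizer ((P : Subgroup L) : Set L), n * x * n⁻¹ = y

variable {X : Type u} [Group X] [Finite X]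

theorem isMulCommutative_sylow (h : AbTwo X) (S : Sylow 2 X) : IsMulCommutative ↥(S : Subgroup X) :=
  ⟨⟨fun a b => Subtype.ext (h _ S.2 a a.2 b b.2).eq⟩⟩

omit [Finite X] in
theorem ne_one_of_orderOf_two {x : X} (h : orderOf x = 2) : x ≠ 1 := fun e => by
  rw [e, orderOf_one] at h
  omega

/-- A non-identity 2-element has an involution among its powers. -/
theorem exists_involution_pow {x : X} {k : ℕ} (hk : x ^ 2 ^ k = 1) (hx : x ≠ 1) :
    ∃ j : ℕ, orderOf (x ^ j) = 2 := by
  obtain ⟨i, -, hi⟩ := (Nat.dvd_prime_pow Nat.prime_two).1 (orderOf_dvd_of_pow_eq_one hk)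
  rcases i with _ | i
  · exact absurd (orderOf_eq_one_iff.1 (by simpa using hi)) hx
  · refine ⟨2 ^ i, ?_⟩
    rw [orderOf_pow, hi, Nat.gcd_eq_right ⟨2, by ring⟩, pow_succ,
      Nat.mul_div_cancel_left _ (pow_pos two_pos i)]

theorem exists_two_pow {S : Sylow 2 X} {x : X} (hx : x ∈ (S : Subgroup X)) : ∃ k : ℕ, x ^ 2 ^ k = 1 := by
  obtain ⟨k, hk⟩ := S.2 ⟨x, hx⟩
  exact ⟨k, by simpa using congrArg Subtype.val hk⟩

/-- A conjugate in an abelian Sylow subgroup is a conjugate under its normalizer. -/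
theorem exists_normalizer_conj (h : AbTwo X) (S : Sylow 2 X) {x g : X} (hx : x ∈ (S : Subgroup X))
    (hy : g * x * g⁻¹ ∈ (S : Subgroup X)) :
    ∃ n ∈ normalizer ((S : Subgroup X) : Set X), n * x * n⁻¹ = g * x * g⁻¹ := by
  haveI : Fact (Nat.Prime 2) := ⟨Nat.prime_two⟩
  haveI := isMulCommutative_sylow h S
  obtain ⟨n, hn, e⟩ := S.conj_eq_normalizer_conj_of_mem x g⁻¹ hx (by rwa [inv_inv])
  rw [inv_inv] at e
  exact ⟨n⁻¹, inv_mem hn, by rw [inv_inv, e]⟩

/-- Without odd core and centre, the normalizer of the Sylow subgroup fixes only the identity in it. -/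
theorem fixed_eq_one (h : AbTwo X) (h0 : Cfsg.oddCore X = ⊥) (hZ : center X = ⊥) (S : Sylow 2 X) {c : X}
    (hc : c ∈ (S : Subgroup X))
    (hfix : ∀ n ∈ normalizer ((S : Subgroup X) : Set X), n * c * n⁻¹ = c) : c = 1 := by
  by_contra hc1
  obtain ⟨k, hk⟩ := exists_two_pow hc
  obtain ⟨j, hj⟩ := exists_involution_pow hk hc1
  have hiso : Cfsg.IsIsolatedInvolution (c ^ j) := by
    refine (Involutions.Isolated.iff_unique_in_sylow S hj (pow_mem hc j)).2 fun g hg => ?_
    obtain ⟨n, hn, e⟩ := exists_normalizer_conj h S (pow_mem hc j) hg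
    rw [← e, ← conj_pow, hfix n hn]
  have hmem := ZStar.Main.mem_center_of_isolated h0 hiso
  rw [hZ, mem_bot] at hmem
  exact ne_one_of_orderOf_two hj hmem

/-- An abelian Sylow 2-subgroup of `L S` lies in the normal subgroup `L` with trivial centralizer. -/
theorem sylow_le_normal (h : AbTwo X) (h0 : Cfsg.oddCore X = ⊥) (hZ : center X = ⊥) (S : Sylow 2 X)
    {L : Subgroup X} [hLn : L.Normal] (htop : L ⊔ (S : Subgroup X) = ⊤) : (S : Subgroup X) ≤ L := by
  classical
  haveI : Fact (Nat.Prime 2) := ⟨Nat.prime_two⟩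
  haveI := isMulCommutative_sylow h S
  letI : CommGroup ↥(S : Subgroup X) :=
    { (inferInstance : Group ↥(S : Subgroup X)) with
      mul_comm := fun a b => Subtype.ext (h _ S.2 a a.2 b b.2).eq }
  set N := normalizer ((S : Subgroup X) : Set X) with hN
  set φ := normalizerMonoidHom (S : Subgroup X) with hφ
  haveI : Finite φ.range := Finite.of_surjective φ.rangeRestrict φ.rangeRestrict_surjective
  letI : Fintype φ.range := Fintype.ofFinite _
  -- the image in the automorphisms has odd order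
  have hodd : Odd (Fintype.card φ.range) := by
    rw [← Nat.card_eq_fintype_card, ← Subgroup.index_ker, Nat.odd_iff, ← Nat.two_dvd_ne_zero]
    intro h2
    refine (S.subtype le_normalizer).not_dvd_index (h2.trans (index_dvd_of_le ?_))
    rw [hφ, normalizerMonoidHom_ker]
    intro x hx
    exact mem_centralizer_iff.2 fun s hs => (h _ S.2 s hs x hx).eq
  intro s hs
  set σ : ↥(S : Subgroup X) := ⟨s, hs⟩
  set c : ↥(S : Subgroup X) := ∏ a : φ.range, (a : MulAut ↥(S : Subgroup X)) σ with hc
  have hfix : ∀ n ∈ N, n * (c : X) * n⁻¹ = c := by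
    intro n hn
    have : φ ⟨n, hn⟩ c = c := by
      rw [hc, map_prod]
      exact Fintype.prod_equiv (Equiv.mulLeft ⟨φ ⟨n, hn⟩, ⟨⟨n, hn⟩, rfl⟩⟩) _ _ fun a => rfl
    exact congrArg Subtype.val this
  have hc1 : c = 1 := Subtype.ext (fixed_eq_one h h0 hZ S c.2 hfix)
  -- every image of `s` is congruent to `s`
  have hcong : ∀ a : φ.range, ((σ * ((a : MulAut ↥(S : Subgroup X)) σ)⁻¹ : ↥(S : Subgroup X)) : X) ∈ L := by
    rintro ⟨_, ⟨n, hn⟩, rfl⟩
    show s * (n * s * n⁻¹)⁻¹ ∈ L
    have hn' : n ∈ L ⊔ (S : Subgroup X) := by rw [htop]; exact mem_top n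
    obtain ⟨l, hl, t, ht, rfl⟩ := mem_sup_of_normal_left.1 hn'
    have : l * t * s * (l * t)⁻¹ = l * s * l⁻¹ := by
      rw [mul_assoc l t s, (h _ S.2 t ht s hs).eq]
      group
    rw [this, show s * (l * s * l⁻¹)⁻¹ = (s * l * s⁻¹) * l⁻¹ by group]
    exact mul_mem (hLn.conj_mem l hl s) (inv_mem hl)
  have hprod : (∏ a : φ.range, σ * ((a : MulAut ↥(S : Subgroup X)) σ)⁻¹) ∈ L.subgroupOf (S : Subgroup X) :=
    prod_mem fun a _ => hcong a
  rw [Finset.prod_mul_distrib, Finset.prod_const, Finset.prod_inv_distrib, ← hc, hc1, inv_one, mul_one,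
    Finset.card_univ] at hprod
  have hpow : s ^ Fintype.card φ.range ∈ L := hprod
  obtain ⟨k, hk⟩ := exists_two_pow hs
  obtain ⟨m, hm⟩ := exists_pow_eq_self_of_coprime (x := s) (n := Fintype.card φ.range)
    (Nat.Coprime.coprime_dvd_right (orderOf_dvd_of_pow_eq_one hk)
      (Nat.Coprime.pow_right k (Nat.coprime_two_right.2 hodd)))
  rw [← hm]
  exact pow_mem hpow m

theorem center_eq_bot_of_simple [IsSimpleGroup X] (hnc : ¬ IsMulCommutative X) : center X = ⊥ :=
  (IsSimpleGroup.eq_bot_or_eq_top_of_normal _ (inferInstance : (center X).Normal)).resolve_right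
    fun e => hnc ⟨⟨fun a b => (mem_center_iff.1 (e ▸ mem_top a) b).symm⟩⟩

theorem oddCore_eq_bot_of_simple [IsSimpleGroup X] (hnc : ¬ IsMulCommutative X) : Cfsg.oddCore X = ⊥ :=
  (IsSimpleGroup.eq_bot_or_eq_top_of_normal _ (inferInstance : (Cfsg.oddCore X).Normal)).resolve_right
    fun e => by
      have hodd : Odd (Nat.card X) := by
        have := InvChar.Core.odd_card_oddCore (G := X)
        rwa [e, Subgroup.card_top] at this
      haveI := S0205.result hodd
      exact hnc ⟨⟨IsSimpleGroup.comm_iff_isSolvable.2 inferInstance⟩⟩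

theorem fixed_eq_one_of_simple [IsSimpleGroup X] (hnc : ¬ IsMulCommutative X) (h : AbTwo X) (S : Sylow 2 X)
    {c : X} (hc : c ∈ (S : Subgroup X))
    (hfix : ∀ n ∈ normalizer ((S : Subgroup X) : Set X), n * c * n⁻¹ = c) : c = 1 :=
  fixed_eq_one h (oddCore_eq_bot_of_simple hnc) (center_eq_bot_of_simple hnc) S hc hfix

/-- The Sylow 2-subgroup has at least four elements. -/
theorem four_le_sylow [IsSimpleGroup X] (hnc : ¬ IsMulCommutative X) (h : AbTwo X) (S : Sylow 2 X) :
    4 ≤ Nat.card ↥(S : Subgroup X) := by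
  obtain ⟨y, hy, -, s, hs, hys⟩ := exists_acting hnc h S
  have hs1 : s ≠ 1 := fun e => hys (e ▸ Commute.one_right y)
  set t := y * s * y⁻¹ with ht
  have htS : t ∈ (S : Subgroup X) := (mem_normalizer_iff.1 hy s).1 hs
  have hts : t ≠ s := fun e => hys (show y * s = s * y from mul_inv_eq_iff_eq_mul.1 e)
  have ht1 : t ≠ 1 := fun e => hs1 (conj_eq_one_iff.1 (ht ▸ e))
  have h3 : 3 ≤ Nat.card ↥(S : Subgroup X) := by
    have hinj : Function.Injective ![(1 : ↥(S : Subgroup X)), ⟨s, hs⟩, ⟨t, htS⟩] := by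
      intro i j hij
      have hv := congrArg Subtype.val hij
      fin_cases i <;> fin_cases j <;>
        first
        | rfl
        | (simp at hv; first
          | exact absurd hv hs1 | exact absurd hv.symm hs1 | exact absurd hv ht1 | exact absurd hv.symm ht1
          | exact absurd hv hts | exact absurd hv.symm hts)
    simpa using Nat.card_le_card_of_injective _ hinj
  obtain ⟨k, hk⟩ := IsPGroup.iff_card.1 S.2
  rw [hk] at h3 ⊢
  rcases k with _ | _ | k
  · simp at h3
  · simp at h3
  · calc 4 = 2 ^ 2 := rfl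
      _ ≤ 2 ^ (k + 2) := Nat.pow_le_pow_right two_pos (by omega)

/-- With at most eight elements the normalizer is transitive on the non-identity elements. -/
theorem oneTwoClass_of_small [IsSimpleGroup X] (hnc : ¬ IsMulCommutative X) (h : AbTwo X)
    (hcard : ∀ S : Sylow 2 X, Nat.card ↥(S : Subgroup X) ≤ 8) : OneTwoClass X := by
  classical
  haveI : Fact (Nat.Prime 2) := ⟨Nat.prime_two⟩
  intro P x hx y hy hx1 hy1
  set N := normalizer ((P : Subgroup X) : Set X)
  set φ := normalizerMonoidHom (P : Subgroup X) with hφ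
  have hodd : Odd (Nat.card φ.range) := by
    rw [← Subgroup.index_ker, Nat.odd_iff, ← Nat.two_dvd_ne_zero]
    intro h2
    refine (P.subtype le_normalizer).not_dvd_index (h2.trans (index_dvd_of_le ?_))
    rw [hφ, normalizerMonoidHom_ker]
    intro z hz
    exact mem_centralizer_iff.2 fun s hs => (h _ P.2 s hs z hz).eq
  -- orbits of the automisers on the Sylow subgroup
  set O : ↥(P : Subgroup X) → Set ↥(P : Subgroup X) := fun z => MulAction.orbit φ.range z with hO
  have hoddO : ∀ z, Odd (O z).ncard := fun z => by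
    rw [← Nat.card_coe_set_eq, Nat.card_congr (MulAction.orbitEquivQuotientStabilizer φ.range z)]
    exact hodd.of_dvd_nat (Subgroup.index_dvd_card _)
  have hbig : ∀ z, z ≠ 1 → 3 ≤ (O z).ncard := fun z hz => by
    by_contra hlt
    obtain ⟨k, hk⟩ := hoddO z
    have h1 : (O z).ncard = 1 := by omega
    obtain ⟨w, hw⟩ := Set.ncard_eq_one.1 h1
    refine hz (Subtype.ext (fixed_eq_one_of_simple hnc h P z.2 fun n hn => ?_))
    have e1 : (⟨φ ⟨n, hn⟩, ⟨⟨n, hn⟩, rfl⟩⟩ : φ.range) • z ∈ O z := MulAction.mem_orbit _ _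
    have e2 : z ∈ O z := MulAction.mem_orbit_self _
    rw [hw, Set.mem_singleton_iff] at e1 e2
    exact congrArg Subtype.val (e1.trans e2.symm)
  have hone : ∀ z, (1 : ↥(P : Subgroup X)) ∈ O z → z = 1 := fun z hz => by
    obtain ⟨a, ha⟩ := hz
    have ha' : (a : MulAut ↥(P : Subgroup X)) z = 1 := ha
    exact (MulEquiv.map_eq_one_iff _).1 ha'
  suffices hmem : (⟨y, hy⟩ : ↥(P : Subgroup X)) ∈ O ⟨x, hx⟩ by
    obtain ⟨⟨_, ⟨n, hn⟩, rfl⟩, ha⟩ := hmem
    exact ⟨n, hn, congrArg Subtype.val ha⟩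
  by_contra hnot
  set a : ↥(P : Subgroup X) := ⟨x, hx⟩
  set b : ↥(P : Subgroup X) := ⟨y, hy⟩
  have ha1 : a ≠ 1 := fun e => hx1 (congrArg Subtype.val e)
  have hb1 : b ≠ 1 := fun e => hy1 (congrArg Subtype.val e)
  have hdis : Disjoint (O a) (O b) := by
    refine Set.disjoint_left.2 fun z hza hzb => hnot ?_
    have e1 := MulAction.orbit_eq_iff.2 hza
    have e2 := MulAction.orbit_eq_iff.2 hzb
    have : MulAction.orbit φ.range a = MulAction.orbit φ.range b := e1.symm.trans e2
    show b ∈ MulAction.orbit φ.range a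
    rw [this]
    exact MulAction.mem_orbit_self _
  -- three orbits do not fit, two leave one element over
  have hsub : O a ∪ O b ⊆ ({1} : Set ↥(P : Subgroup X))ᶜ := by
    rintro z (hz | hz) (rfl : z = 1)
    · exact ha1 (hone a hz)
    · exact hb1 (hone b hz)
  have hcompl : (({1} : Set ↥(P : Subgroup X))ᶜ).ncard = Nat.card ↥(P : Subgroup X) - 1 := by
    rw [Set.ncard_compl, Set.ncard_singleton]
  have hle := Set.ncard_le_ncard hsub
  rw [Set.ncard_union_eq hdis, hcompl] at hle
  have h3a := hbig a ha1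
  have h3b := hbig b hb1
  have h8 := hcard P
  obtain ⟨i, hi⟩ := hoddO a
  obtain ⟨j, hj⟩ := hoddO b
  -- an element outside both orbits starts a third one
  have hlt : (O a ∪ O b).ncard < (({1} : Set ↥(P : Subgroup X))ᶜ).ncard := by
    rw [Set.ncard_union_eq hdis, hcompl]
    obtain ⟨k, hk⟩ := IsPGroup.iff_card.1 P.2
    have h4 := four_le_sylow hnc h P
    have heven : 2 ∣ Nat.card ↥(P : Subgroup X) := by
      rw [hk] at h4 ⊢
      rcases k with _ | k
      · simp at h4
      · exact dvd_pow_self 2 (Nat.succ_ne_zero k)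
    omega
  obtain ⟨z, hz, hzn⟩ := Set.exists_mem_notMem_of_ncard_lt_ncard hlt
  have hz1 : z ≠ 1 := hz
  have h3z := hbig z hz1
  have hdz : Disjoint (O a ∪ O b) (O z) := by
    refine Set.disjoint_left.2 fun w hw hwz => hzn ?_
    have ez : MulAction.orbit φ.range w = MulAction.orbit φ.range z := MulAction.orbit_eq_iff.2 hwz
    rcases hw with hw | hw
    · left
      show z ∈ MulAction.orbit φ.range a
      rw [← MulAction.orbit_eq_iff.2 hw, ez]
      exact MulAction.mem_orbit_self _
    · right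
      show z ∈ MulAction.orbit φ.range b
      rw [← MulAction.orbit_eq_iff.2 hw, ez]
      exact MulAction.mem_orbit_self _
  have hsub' : O a ∪ O b ∪ O z ⊆ ({1} : Set ↥(P : Subgroup X))ᶜ := by
    rintro w (hw | hw) (rfl : w = 1)
    · exact hsub hw rfl
    · exact hz1 (hone z hw)
  have hle' := Set.ncard_le_ncard hsub'
  rw [Set.ncard_union_eq hdz, Set.ncard_union_eq hdis, hcompl] at hle'
  omega

end Cfsg.Agent.Walter
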