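import Mathlib

/-!
# The arithmetic of the small Ree order
-/

set_option autoImplicit false

namespace Cfsg.Agent.Walter.Ree

/-- `q² - q + 1`. -/
def nq (q : ℕ) : ℕ := q * (q - 1) + 1

theorem cube_add_one (q : ℕ) (hq : 1 ≤ q) : q ^ 3 + 1 = (q + 1) * nq q := by
  obtain ⟨k, rfl⟩ : ∃ k, q = k + 1 := ⟨q - 1, by omega⟩
  rw [nq, Nat.add_sub_cancel]
  ring

section

variable {q : ℕ} (hq8 : q % 8 = 3) (h3q : 3 ∣ q)
include hq8

theorem nat_parts : q - 1 = 2 * ((q - 1) / 2) ∧ q + 1 = 4 * ((q + 1) / 4) ∧ Odd ((q - 1) / 2) ∧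
    Odd ((q + 1) / 4) := by
  refine ⟨by omega, by omega, Nat.odd_iff.2 (by omega), Nat.odd_iff.2 (by omega)⟩

theorem nq_odd : Odd (nq q) := by
  rw [nq]
  exact Even.add_one (Even.mul_left (Nat.even_iff.2 (by omega)) _)

include h3q

theorem three_nq : ¬ 3 ∣ nq q := by
  rw [nq]
  intro h
  have h1 : 3 ∣ q * (q - 1) := Dvd.dvd.mul_right h3q _
  exact absurd ((Nat.dvd_add_right h1).1 h) (by norm_num)

/-- The primes of `q² - q + 1` are not primes of the involution centraliser. -/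
theorem not_dvd_of_dvd_nq {p : ℕ} (hp : p.Prime) (hN : p ∣ nq q) : ¬ p ∣ q * ((q - 1) * (q + 1)) := by
  have hq1 : 1 ≤ q := by omega
  intro h
  rcases (Nat.Prime.dvd_mul hp).1 h with h | h
  · exact hp.ne_one (Nat.dvd_one.1 ((Nat.dvd_add_right (Dvd.dvd.mul_right h _)).1 hN))
  rcases (Nat.Prime.dvd_mul hp).1 h with h | h
  · exact hp.ne_one (Nat.dvd_one.1 ((Nat.dvd_add_right (Dvd.dvd.mul_left h _)).1 hN))
  · obtain ⟨k, rfl⟩ : ∃ k, q = k + 1 := ⟨q - 1, by omega⟩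
    rw [nq, Nat.add_sub_cancel] at hN
    have h1 : p ∣ (k + 1) * k + 1 + 0 := by rwa [add_zero]
    have h2 : (k + 1) * k + 1 + 2 * (k + 2) = (k + 2) * (k + 1) + 3 := by ring
    have h3 : p ∣ (k + 2) * (k + 1) + 3 := h2 ▸ Nat.dvd_add hN (Dvd.dvd.mul_left h _)
    have h4 : p ∣ 3 := (Nat.dvd_add_right (Dvd.dvd.mul_right h _)).1 h3
    have h5 := (Nat.prime_dvd_prime_iff_eq hp Nat.prime_three).1 h4
    rw [h5] at h
    omega

theorem coprime_nq : Nat.Coprime (nq q) (q * ((q - 1) * (q + 1))) :=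
  Nat.coprime_of_dvd' fun p hp h1 h2 => absurd h2 (not_dvd_of_dvd_nq hq8 h3q hp h1)

end

theorem primes_cases {q n : ℕ} (hn : q = 3 ^ n) (hq8 : q % 8 = 3) {p : ℕ} (hp : p.Prime)
    (h : p ∣ q ^ 3 * (q ^ 3 + 1) * (q - 1)) :
    p = 2 ∨ p = 3 ∨ p ∣ (q - 1) / 2 ∨ p ∣ (q + 1) / 4 ∨ p ∣ nq q := by
  obtain ⟨e1, e2, -, -⟩ := nat_parts hq8
  have two : ∀ {k : ℕ}, p ∣ 2 ^ k → p = 2 := fun {k} h =>
    (Nat.prime_dvd_prime_iff_eq hp Nat.prime_two).1 (hp.dvd_of_dvd_pow h)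
  rcases (Nat.Prime.dvd_mul hp).1 h with h | h
  · rcases (Nat.Prime.dvd_mul hp).1 h with h | h
    · rw [hn] at h
      exact Or.inr (Or.inl ((Nat.prime_dvd_prime_iff_eq hp Nat.prime_three).1
        (hp.dvd_of_dvd_pow (hp.dvd_of_dvd_pow h))))
    · rw [cube_add_one q (by omega), e2] at h
      rcases (Nat.Prime.dvd_mul hp).1 h with h | h
      · rcases (Nat.Prime.dvd_mul hp).1 h with h | h
        · exact Or.inl (two (k := 2) h)
        · exact Or.inr (Or.inr (Or.inr (Or.inl h)))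
      · exact Or.inr (Or.inr (Or.inr (Or.inr h)))
  · rw [e1] at h
    rcases (Nat.Prime.dvd_mul hp).1 h with h | h
    · exact Or.inl (two (k := 1) h)
    · exact Or.inr (Or.inr (Or.inl h))

/-- The full part of the order at a prime of `(q - 1) / 2`. -/
theorem split_part {q : ℕ} (hq8 : q % 8 = 3) {p : ℕ} (hp : p.Prime) (hpd : p ∣ (q - 1) / 2) :
    ∃ m, q ^ 3 * (q ^ 3 + 1) * (q - 1) = (q - 1) / 2 * m ∧ ¬ p ∣ m := by
  obtain ⟨e1, -, ho, -⟩ := nat_parts hq8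
  refine ⟨2 * (q ^ 3 * (q ^ 3 + 1)), by conv_lhs => rw [e1]
                                        ring, fun h => ?_⟩
  have hp2 : p ≠ 2 := fun e => by
    rw [e] at hpd
    exact Nat.not_even_iff_odd.2 ho (even_iff_two_dvd.2 hpd)
  obtain ⟨k, hk⟩ : ∃ k, q = k + 1 := ⟨q - 1, by omega⟩
  have hk' : p ∣ k := by
    have h1 : p ∣ q - 1 := e1 ▸ Dvd.dvd.mul_left hpd 2
    rwa [hk, Nat.add_sub_cancel] at h1
  rcases (Nat.Prime.dvd_mul hp).1 h with h | h
  · exact hp2 ((Nat.prime_dvd_prime_iff_eq hp Nat.prime_two).1 h)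
  rcases (Nat.Prime.dvd_mul hp).1 h with h | h
  · have h1 := hp.dvd_of_dvd_pow h
    rw [hk] at h1
    exact hp.ne_one (Nat.dvd_one.1 ((Nat.dvd_add_right hk').1 h1))
  · rw [hk, show (k + 1) ^ 3 + 1 = k * (k ^ 2 + 3 * k + 3) + 2 by ring] at h
    exact hp2 ((Nat.prime_dvd_prime_iff_eq hp Nat.prime_two).1
      ((Nat.dvd_add_right (Dvd.dvd.mul_right hk' _)).1 h))

/-- The full part of the order at a prime of `(q + 1) / 4`. -/
theorem nonsplit_part {q : ℕ} (hq8 : q % 8 = 3) (h3q : 3 ∣ q) {p : ℕ} (hp : p.Prime)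
    (hpd : p ∣ (q + 1) / 4) :
    ∃ m, q ^ 3 * (q ^ 3 + 1) * (q - 1) = (q + 1) / 4 * m ∧ ¬ p ∣ m := by
  obtain ⟨e1, e2, -, ho⟩ := nat_parts hq8
  refine ⟨4 * (q ^ 3 * (nq q * (q - 1))), by rw [cube_add_one q (by omega)]
                                             conv_lhs => rw [e2]
                                             ring, fun h => ?_⟩
  have hp2 : p ≠ 2 := fun e => by
    rw [e] at hpd
    exact Nat.not_even_iff_odd.2 ho (even_iff_two_dvd.2 hpd)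
  have hq1 : p ∣ q + 1 := e2 ▸ Dvd.dvd.mul_left hpd 4
  have two : ∀ {k : ℕ}, p ∣ 2 ^ k → False := fun {k} h =>
    hp2 ((Nat.prime_dvd_prime_iff_eq hp Nat.prime_two).1 (hp.dvd_of_dvd_pow h))
  rcases (Nat.Prime.dvd_mul hp).1 h with h | h
  · exact two (k := 2) h
  rcases (Nat.Prime.dvd_mul hp).1 h with h | h
  · exact hp.ne_one (Nat.dvd_one.1 ((Nat.dvd_add_right (hp.dvd_of_dvd_pow h)).1 hq1))
  rcases (Nat.Prime.dvd_mul hp).1 h with h | h
  · exact not_dvd_of_dvd_nq hq8 h3q hp h (Dvd.dvd.mul_left (Dvd.dvd.mul_left hq1 _) _)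
  · have h1 : p ∣ (q - 1) + 2 := by rwa [show q - 1 + 2 = q + 1 by omega]
    exact two (k := 1) ((Nat.dvd_add_right h).1 h1)

/-- A divisor of `q² - q + 1` congruent to one modulo `q - 1` is trivial or everything. -/
theorem dvd_nq_eq {q d : ℕ} (hq : 3 < q) (hd : d ∣ nq q) (hmod : d % (q - 1) = 1) : d = 1 ∨ d = nq q := by
  obtain ⟨e, he⟩ := hd
  by_contra hne
  push Not at hne
  have hN : nq q % (q - 1) = 1 := by
    rw [nq, add_comm, Nat.add_mul_mod_self_right]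
    exact Nat.mod_eq_of_lt (by omega)
  have he1 : e % (q - 1) = 1 := by
    rw [he, Nat.mul_mod, hmod, one_mul, Nat.mod_mod] at hN
    exact hN
  have hd2 : q ≤ d := by
    have h1 := Nat.div_add_mod d (q - 1)
    rw [hmod] at h1
    rcases Nat.eq_zero_or_pos (d / (q - 1)) with h0 | h0
    · rw [h0, mul_zero, zero_add] at h1
      exact absurd h1.symm hne.1
    · have := Nat.mul_le_mul_left (q - 1) h0
      simp only [Nat.succ_eq_add_one, Nat.zero_add, mul_one] at this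
      omega
  have he2 : q ≤ e := by
    have h1 := Nat.div_add_mod e (q - 1)
    rw [he1] at h1
    rcases Nat.eq_zero_or_pos (e / (q - 1)) with h0 | h0
    · rw [h0, mul_zero, zero_add] at h1
      rw [← h1, mul_one] at he
      exact absurd he.symm hne.2
    · have := Nat.mul_le_mul_left (q - 1) h0
      simp only [Nat.succ_eq_add_one, Nat.zero_add, mul_one] at this
      omega
  have h3 := Nat.mul_le_mul hd2 he2
  rw [← he, nq] at h3
  obtain ⟨k, rfl⟩ : ∃ k, q = k + 1 := ⟨q - 1, by omega⟩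
  rw [Nat.add_sub_cancel] at h3
  nlinarith

end Cfsg.Agent.Walter.Ree
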