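import Cfsg.Agent.Lib.PSLBinary.Borel
import Cfsg.Agent.Lib.PSLBinary.Exceptional
import Cfsg.Agent.Lib.Classical.SmallIso
import Cfsg.Agent.S0806

/-!
# `PSL₂(3ⁿ)`, `n` odd, as used for the Ree configuration with abelian Sylow 3-subgroup
-/

set_option autoImplicit false
set_option linter.unusedSectionVars false
set_option linter.style.haveILetI false

namespace Cfsg.Agent.Walter.Ree

open Matrix
open scoped MatrixGroups

universe v

/-- What is used of the component `L ≅ PSL₂(q)`. -/
structure Line (L : Type v) [Group L] (q : ℕ) where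
  U : Subgroup L
  H : Subgroup L
  w : L
  U_card : Nat.card U = q
  U_cent : ∀ u ∈ U, u ≠ 1 → ∀ g : L, g * u = u * g ↔ g ∈ U
  U_invert : ∀ u ∈ U, u ≠ 1 → ∀ g : L, g * u * g⁻¹ ≠ u⁻¹
  U_pow : ∀ u ∈ U, u ^ 3 = 1
  H_card : 2 * Nat.card H + 1 = q
  H_cent : ∀ h ∈ H, h ≠ 1 → ∀ g : L, g * h = h * g ↔ g ∈ H
  H_norm : ∀ h ∈ H, ∀ u ∈ U, h * u * h⁻¹ ∈ U
  w_two : orderOf w = 2
  w_inv : ∀ h ∈ H, w * h * w⁻¹ = h⁻¹
  card : 2 * Nat.card L = q * ((q - 1) * (q + 1))
  min_index : ∀ K : Subgroup L, K ≠ ⊤ → q + 1 ≤ K.index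
  simple : IsSimpleGroup L

variable {F : Type v} [Field F] [Fintype F]

local notation "M2" => Matrix (Fin 2) (Fin 2) F
local notation "π" => Forms.KleinPSL.pi F
local notation "PG" => Matrix.ProjectiveSpecialLinearGroup (Fin 2) F

open Cfsg.Agent.Classical.GL2 (uniSL coe_uniSL)
open Cfsg.Agent.PSLBinary (diag coe_diag weyl coe_weyl)

theorem coe_neg_entry (X : SL(2, F)) (i j : Fin 2) : ((-X : SL(2, F)) : M2) i j = -(X : M2) i j := by
  rw [Matrix.SpecialLinearGroup.coe_neg]; rfl

theorem pi_commute_iff {X Y Z : SL(2, F)} : π X * π Y = π Z * π X ↔ X * Y = Z * X ∨ X * Y = -(Z * X) := by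
  rw [← map_mul, ← map_mul, Forms.KleinPSL.pi_eq_iff]

theorem two_ne (hodd : Fintype.card F % 4 = 3) : (2 : F) ≠ 0 := fun h => by
  have hc : ringChar F = 2 := CharP.ringChar_of_prime_eq_zero Nat.prime_two h
  have := FiniteField.even_card_iff_char_two.1 hc
  omega

theorem no_sqrt (hodd : Fintype.card F % 4 = 3) (a : F) : a * a ≠ -1 := fun h => by
  have := (FiniteField.isSquare_neg_one_iff (F := F)).1 ⟨a, h.symm⟩
  omega

theorem diag_mul (a b : Fˣ) : diag a * diag b = diag (a * b) := by
  apply PSLBinary.sl2_ext <;> simp [coe_diag, Matrix.mul_apply, Fin.sum_univ_two, mul_comm]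

theorem diag_one : diag (1 : Fˣ) = 1 := by
  apply PSLBinary.sl2_ext <;> simp [coe_diag]

/-- The diagonal elements of `PSL₂`. -/
def torusHom (F : Type v) [Field F] [Fintype F] :
    Fˣ →* Matrix.ProjectiveSpecialLinearGroup (Fin 2) F :=
  (Forms.KleinPSL.pi F).comp
    { toFun := diag, map_one' := diag_one, map_mul' := fun a b => (diag_mul a b).symm }

theorem pi_diag_eq_one {a : Fˣ} : π (diag a) = 1 ↔ a = 1 ∨ a = -1 := by
  rw [Forms.KleinPSL.pi_eq_one]
  constructor
  · rintro (h | h)
    · left
      ext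
      simpa [coe_diag] using congrArg (fun Z : SL(2, F) => (Z : M2) 0 0) h
    · right
      ext
      simpa [coe_diag, coe_neg_entry] using congrArg (fun Z : SL(2, F) => (Z : M2) 0 0) h
  · rintro (rfl | rfl)
    · exact Or.inl diag_one
    · right
      apply PSLBinary.sl2_ext <;> simp [coe_diag, coe_neg_entry]

theorem pi_uni_eq_one {b : F} : π (uniSL b) = 1 ↔ b = 0 := by
  refine ⟨fun h => ?_, fun h => by rw [h, Classical.GL2.uniSL_zero, map_one]⟩
  rcases (Forms.KleinPSL.pi_eq_one).1 h with e | e <;>
    simpa [coe_uniSL, coe_neg_entry] using congrArg (fun Z : SL(2, F) => (Z : M2) 0 1) e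

/-- The facts for `PSL₂(q)`, `q = 3 (mod 4)`, `q ≥ 27`. -/
theorem exists_line (hodd : Fintype.card F % 4 = 3) (hbig : 27 ≤ Fintype.card F) (h3 : (3 : F) = 0) :
    Nonempty (Line PG (Fintype.card F)) := by
  classical
  have h2 := two_ne hodd
  have h22 : ∀ a : F, a = -a → a = 0 := fun a h => by
    have : (2 : F) * a = 0 := by linear_combination h
    exact (mul_eq_zero.1 this).resolve_left h2
  refine ⟨{
    U := PSLBinary.unip F
    H := (torusHom F).range
    w := π weyl
    U_card := ?_
    U_cent := ?_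
    U_invert := ?_
    U_pow := ?_
    H_card := ?_
    H_cent := ?_
    H_norm := ?_
    w_two := ?_
    w_inv := ?_
    card := ?_
    min_index := ?_
    simple := ?_ }⟩
  · rw [PSLBinary.unip, ← Nat.card_congr (MonoidHom.ofInjective
      (f := (π).comp (Classical.GL2.uniHom F)) ?_).toEquiv, Nat.card_congr Multiplicative.toAdd,
      Nat.card_eq_fintype_card]
    refine (injective_iff_map_eq_one _).2 fun b hb => ?_
    exact (toAdd_eq_zero).1 (pi_uni_eq_one.1 hb)
  · intro u hu hu1 g
    obtain ⟨b, rfl⟩ := PSLBinary.mem_unip.1 hu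
    have hb : b ≠ 0 := fun e => hu1 (pi_uni_eq_one.2 e)
    obtain ⟨X, rfl⟩ := Forms.KleinPSL.pi_surjective g
    constructor
    · intro h
      rcases pi_commute_iff.1 h with e | e
      · have e00 := congrArg (fun Z : SL(2, F) => (Z : M2) 0 0) e
        have e01 := congrArg (fun Z : SL(2, F) => (Z : M2) 0 1) e
        simp [coe_uniSL, Matrix.mul_apply, Fin.sum_univ_two] at e00 e01
        have hc : (X : M2) 1 0 = 0 := by
          rcases e00 with h | h
          · exact absurd h hb
          · exact h
        have had : (X : M2) 0 0 = (X : M2) 1 1 := by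
          refine mul_left_cancel₀ hb ?_
          linear_combination e01
        have hd := PSLBinary.sl2_det X
        rw [hc, mul_zero, sub_zero, ← had] at hd
        refine PSLBinary.mem_unip.2 ⟨(X : M2) 0 0 * (X : M2) 0 1, Forms.KleinPSL.pi_eq_iff.2 ?_⟩
        rcases mul_self_eq_one_iff.1 hd with ha | ha
        · left
          apply PSLBinary.sl2_ext <;> simp [coe_uniSL, ha, ← had, hc]
        · right
          apply PSLBinary.sl2_ext <;> simp [coe_uniSL, coe_neg_entry, ha, ← had, hc]
      · exfalso
        have e00 := congrArg (fun Z : SL(2, F) => (Z : M2) 0 0) e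
        have e10 := congrArg (fun Z : SL(2, F) => (Z : M2) 1 0) e
        simp [coe_uniSL, coe_neg_entry, Matrix.mul_apply, Fin.sum_univ_two] at e00 e10
        have hc := h22 _ e10
        rw [hc, mul_zero, neg_zero, zero_add] at e00
        have ha := h22 _ e00
        have hd := PSLBinary.sl2_det X
        rw [ha, hc, zero_mul, mul_zero, sub_zero] at hd
        exact zero_ne_one hd
    · intro hg
      obtain ⟨b', hb'⟩ := PSLBinary.mem_unip.1 hg
      rw [← hb', ← map_mul, ← map_mul, Classical.GL2.uniSL_mul, Classical.GL2.uniSL_mul, add_comm]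
  · intro u hu hu1 g h
    obtain ⟨b, rfl⟩ := PSLBinary.mem_unip.1 hu
    have hb : b ≠ 0 := fun e => hu1 (pi_uni_eq_one.2 e)
    obtain ⟨X, rfl⟩ := Forms.KleinPSL.pi_surjective g
    rw [mul_inv_eq_iff_eq_mul, ← map_inv, Classical.GL2.uniSL_inv] at h
    rcases pi_commute_iff.1 h with e | e
    · have e00 := congrArg (fun Z : SL(2, F) => (Z : M2) 0 0) e
      have e01 := congrArg (fun Z : SL(2, F) => (Z : M2) 0 1) e
      simp [coe_uniSL, Matrix.mul_apply, Fin.sum_univ_two] at e00 e01
      have hc : (X : M2) 1 0 = 0 := by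
        rcases e00 with h | h
        · exact absurd h hb
        · exact h
      have had : (X : M2) 1 1 = -(X : M2) 0 0 := by
        refine mul_left_cancel₀ hb ?_
        linear_combination e01
      have hd := PSLBinary.sl2_det X
      rw [hc, mul_zero, sub_zero, had] at hd
      exact no_sqrt hodd ((X : M2) 0 0) (by linear_combination -hd)
    · have e00 := congrArg (fun Z : SL(2, F) => (Z : M2) 0 0) e
      have e10 := congrArg (fun Z : SL(2, F) => (Z : M2) 1 0) e
      simp [coe_uniSL, coe_neg_entry, Matrix.mul_apply, Fin.sum_univ_two] at e00 e10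
      have hc := h22 _ e10
      rw [hc] at e00
      have ha := h22 ((X : M2) 0 0) (by linear_combination e00)
      have hd := PSLBinary.sl2_det X
      rw [ha, hc, zero_mul, mul_zero, sub_zero] at hd
      exact zero_ne_one hd
  · intro u hu
    obtain ⟨b, rfl⟩ := PSLBinary.mem_unip.1 hu
    rw [← map_pow, show uniSL b ^ 3 = uniSL (3 * b) by
      rw [pow_succ, pow_two, Classical.GL2.uniSL_mul, Classical.GL2.uniSL_mul]; congr 1; ring,
      h3, zero_mul, Classical.GL2.uniSL_zero, map_one]
  · have h1 := (torusHom F).ker.card_mul_index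
    rw [Subgroup.index_ker] at h1
    have hne : (1 : Fˣ) ≠ -1 := fun e => by
      have := congrArg (fun a : Fˣ => (a : F)) e
      simp at this
      exact h2 (by linear_combination this)
    have hk : Nat.card (torusHom F).ker = 2 := by
      rw [show Nat.card (torusHom F).ker = Nat.card ({1, -1} : Set Fˣ) from
        Nat.card_congr (Equiv.subtypeEquivRight fun a => by
          rw [MonoidHom.mem_ker]; exact pi_diag_eq_one), Nat.card_coe_set_eq, Set.ncard_pair hne]
    rw [hk, Nat.card_units, Nat.card_eq_fintype_card (α := F)] at h1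
    omega
  · intro h hh hh1 g
    obtain ⟨k, rfl⟩ := hh
    constructor
    · intro hc
      obtain ⟨X, rfl⟩ := Forms.KleinPSL.pi_surjective g
      have hk : k ≠ 1 ∧ k ≠ -1 := ⟨fun e => hh1 (pi_diag_eq_one.2 (Or.inl e)),
        fun e => hh1 (pi_diag_eq_one.2 (Or.inr e))⟩
      have hk0 : (k : F) ≠ 0 := k.ne_zero
      have hne : (k : F) ≠ ((k⁻¹ : Fˣ) : F) := fun e => by
        have h1 : (k : F) * k = 1 := by nth_rewrite 2 [e]; simp
        rcases mul_self_eq_one_iff.1 h1 with e' | e'
        · exact hk.1 (Units.ext (by simpa using e'))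
        · exact hk.2 (Units.ext (by simpa using e'))
      rcases pi_commute_iff.1 hc with e | e
      · have e01 := congrArg (fun Z : SL(2, F) => (Z : M2) 0 1) e
        have e10 := congrArg (fun Z : SL(2, F) => (Z : M2) 1 0) e
        simp [coe_diag, Matrix.mul_apply, Fin.sum_univ_two] at e01 e10
        have hb : (X : M2) 0 1 = 0 := by
          by_contra h
          exact hne (mul_left_cancel₀ h (by push_cast; linear_combination -e01))
        have hc' : (X : M2) 1 0 = 0 := by
          by_contra h
          exact hne (mul_left_cancel₀ h (by push_cast; linear_combination e10))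
        have hd := PSLBinary.sl2_det X
        rw [hb, hc', mul_zero, sub_zero] at hd
        refine ⟨Units.mkOfMulEqOne _ _ hd, ?_⟩
        show π (diag _) = π X
        refine congrArg _ ?_
        apply PSLBinary.sl2_ext <;> simp [coe_diag, hb, hc']
        exact inv_eq_of_mul_eq_one_right hd
      · exfalso
        have e00 := congrArg (fun Z : SL(2, F) => (Z : M2) 0 0) e
        have e01 := congrArg (fun Z : SL(2, F) => (Z : M2) 0 1) e
        simp [coe_diag, coe_neg_entry, Matrix.mul_apply, Fin.sum_univ_two] at e00 e01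
        have ha : (X : M2) 0 0 = 0 :=
          (mul_eq_zero.1 (h22 ((X : M2) 0 0 * k) (by linear_combination e00))).resolve_right hk0
        have hd := PSLBinary.sl2_det X
        rw [ha, zero_mul, zero_sub] at hd
        have hb : (X : M2) 0 1 ≠ 0 := fun h => by
          rw [h, zero_mul, neg_zero] at hd
          exact zero_ne_one hd
        have h1 : (k : F)⁻¹ = -(k : F) := mul_left_cancel₀ hb (by linear_combination e01)
        exact no_sqrt hodd (k : F) (by
          have h3 := congrArg (fun z => (k : F) * z) h1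
          simp only [mul_inv_cancel₀ hk0] at h3
          linear_combination h3)
    · rintro ⟨k', rfl⟩
      rw [← map_mul, ← map_mul, mul_comm]
  · intro h hh u hu
    obtain ⟨k, rfl⟩ := hh
    obtain ⟨b, rfl⟩ := PSLBinary.mem_unip.1 hu
    refine PSLBinary.mem_unip.2 ⟨(k : F) * k * b, ?_⟩
    rw [← map_inv]
    show π (uniSL _) = π (diag k) * π (uniSL b) * π (diag k⁻¹)
    rw [← map_mul, ← map_mul]
    refine congrArg _ ?_
    apply PSLBinary.sl2_ext <;>
      simp [coe_diag, coe_uniSL, Matrix.mul_apply, Fin.sum_univ_two]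
    ring
  · refine orderOf_eq_prime (hp := ⟨Nat.prime_two⟩) ?_ ?_
    · rw [← map_pow, Forms.KleinPSL.pi_eq_one]
      right
      apply PSLBinary.sl2_ext <;> simp [pow_two, coe_weyl, coe_neg_entry, Matrix.mul_apply, Fin.sum_univ_two]
    · exact PSLBinary.pi_ne_one.2 (by simp [coe_weyl])
  · rintro h ⟨k, rfl⟩
    rw [mul_inv_eq_iff_eq_mul, ← map_inv]
    show π weyl * π (diag k) = π (diag k⁻¹) * π weyl
    rw [← map_mul, ← map_mul]
    refine congrArg _ ?_
    apply PSLBinary.sl2_ext <;> simp [coe_diag, coe_weyl, Matrix.mul_apply, Fin.sum_univ_two]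
  · have h := Classical.SmallIso.natCard_pslTwo F
    rw [Nat.gcd_eq_left (by omega), Classical.GL2.natCard_SL_two] at h
    exact h
  · exact (S0806.result rfl (by simp; omega)).1
  · exact Classical.Linear.isSimpleGroup_PSL_fin le_rfl fun _ => by omega

end Cfsg.Agent.Walter.Ree
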