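import Cfsg.Agent.Lib.Walter.ReeTools
import Cfsg.Agent.Lib.Walter.ReeArith
import Cfsg.Agent.Lib.Walter.ReeLine
import Cfsg.Agent.Lib.JT.Defs

/-!
# The Ree configuration: the centraliser of the involution, and which primes commute with 3-elements
-/

set_option autoImplicit false
set_option linter.unusedSectionVars false
set_option linter.style.haveILetI false

namespace Cfsg.Agent.Walter.Ree

open Subgroup

universe u v

local notation "Z2" => Multiplicative (ZMod 2)

/-- A group with the order and involution centraliser of a small Ree group and abelian Sylow subgroups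
for the primes two and three. -/
structure Cfg (G : Type u) [Group G] [Finite G] (L : Type v) [Group L] [Finite L] (q : ℕ) where
  S : JT.Setup G L
  LN : Line L q
  n : ℕ
  q_eq : q = 3 ^ n
  q_mod : q % 8 = 3
  q_big : 27 ≤ q
  hab : ∀ P : Sylow 2 G, ∀ a b : P, a * b = b * a
  hab3 : ∀ P : Sylow 3 G, ∀ a b : P, a * b = b * a
  card_G : Nat.card G = q ^ 3 * (q ^ 3 + 1) * (q - 1)
  emb_t : S.emb (Multiplicative.ofAdd 1, 1) = S.t
  fused : ∀ y : G, orderOf y = 2 → IsConj S.t y
  torus : ∀ b : G, (orderOf b).Prime → orderOf b ∣ (q + 1) / 4 →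
    ¬ 9 ∣ Nat.card (centralizer ({b} : Set G))

theorem z2_sq : ∀ e : Z2, e * e = 1 := by decide
theorem z2_cases : ∀ e : Z2, e = 1 ∨ e = Multiplicative.ofAdd 1 := by decide

/-- An element whose order is a power of `p` is conjugate into a subgroup with the full `p`-part. -/
theorem exists_conj_mem_of_part {G : Type*} [Group G] [Finite G] {p : ℕ} (hp : p.Prime) {A : Subgroup G}
    {m : ℕ} (hG : Nat.card G = Nat.card A * m) (hm : ¬ p ∣ m) {b : G} {k : ℕ} (hb : orderOf b = p ^ k) :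
    ∃ g : G, g * b * g⁻¹ ∈ A := by
  haveI := Fact.mk hp
  obtain ⟨Q⟩ : Nonempty (Sylow p A) := inferInstance
  have hm0 : m ≠ 0 := fun e => hm (e ▸ dvd_zero p)
  let S : Sylow p G := Sylow.ofCard ((Q : Subgroup A).map A.subtype) (by
    rw [card_subtype, Q.card_eq_multiplicity, hG, Nat.factorization_mul Nat.card_pos.ne' hm0,
      Finsupp.add_apply, Nat.factorization_eq_zero_of_not_dvd hm, add_zero])
  obtain ⟨R, hR⟩ := (IsPGroup.of_card (G := zpowers b) (n := k) (by rw [Nat.card_zpowers, hb])).exists_le_sylow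
  obtain ⟨g, hg⟩ := MulAction.exists_smul_eq G R S
  refine ⟨g, ?_⟩
  have h1 : g * b * g⁻¹ ∈ (S : Subgroup G) := by
    rw [← hg, Sylow.coe_subgroup_smul]
    exact ⟨b, hR (mem_zpowers b), rfl⟩
  rw [show (S : Subgroup G) = (Q : Subgroup A).map A.subtype from Sylow.coe_ofCard _ _] at h1
  exact map_subtype_le _ h1

theorem mem_normalizer_of_invol {G : Type*} [Group G] {K : Subgroup G} {c : G} (hc : c * c = 1)
    (h : ∀ g ∈ K, c * g * c⁻¹ ∈ K) : c ∈ normalizer (K : Set G) := by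
  rw [mem_normalizer_iff]
  refine fun g => ⟨h g, fun hg => ?_⟩
  have h1 := h _ hg
  have hci : c⁻¹ = c := inv_eq_of_mul_eq_one_right hc
  rwa [show c * (c * g * c⁻¹) * c⁻¹ = (c * c) * g * (c * c)⁻¹ by group, hc, one_mul, inv_one,
    mul_one] at h1

namespace Cfg

variable {G : Type u} [Group G] [Finite G] {L : Type v} [Group L] [Finite L] {q : ℕ} (c : Cfg G L q)
include c

/-- The involution. -/
abbrev t : G := c.S.t

/-- The isomorphism onto the centraliser. -/
abbrev E : Z2 × L →* G := c.S.emb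

/-- The component. -/
def ofL : L →* G := c.E.comp (MonoidHom.inr Z2 L)

theorem ofL_apply (l : L) : c.ofL l = c.E (1, l) := rfl

theorem three_q : 3 ∣ q := by
  rw [c.q_eq]
  refine dvd_pow_self 3 fun e => ?_
  have := c.q_big
  rw [c.q_eq, e] at this
  norm_num at this

theorem t_mul_t : c.t * c.t = 1 := by
  rw [← pow_two]
  simpa [c.S.ht] using pow_orderOf_eq_one c.t

theorem t_inv : c.t⁻¹ = c.t := inv_eq_of_mul_eq_one_right c.t_mul_t

theorem t_ne_one : c.t ≠ 1 := fun e => by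
  have := c.S.ht
  rw [show c.S.t = 1 from e, orderOf_one] at this
  exact absurd this (by norm_num)

theorem E_injective : Function.Injective c.E := fun _ _ h => c.S.e.symm.injective (Subtype.ext h)

theorem E_commute (x : Z2 × L) : c.E x * c.t = c.t * c.E x :=
  mem_centralizer_singleton_iff.1 (c.S.e.symm x).2

theorem exists_E {g : G} (hg : g * c.t = c.t * g) : ∃ x, c.E x = g :=
  ⟨c.S.e ⟨g, mem_centralizer_singleton_iff.2 hg⟩, by
    show ((c.S.e.symm (c.S.e _) : c.S.C) : G) = g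
    rw [MulEquiv.symm_apply_apply]⟩

theorem ofL_injective : Function.Injective c.ofL := fun _ _ h => congrArg Prod.snd (c.E_injective h)

theorem ofL_commute_t (l : L) : c.ofL l * c.t = c.t * c.ofL l := c.E_commute _

theorem orderOf_E (x : Z2 × L) : orderOf (c.E x) = orderOf x := orderOf_injective _ c.E_injective x

theorem orderOf_ofL (l : L) : orderOf (c.ofL l) = orderOf l := orderOf_injective _ c.ofL_injective l

theorem E_commute_ofL {e : Z2} {l m : L} (h : c.E (e, l) * c.ofL m = c.ofL m * c.E (e, l)) :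
    l * m = m * l := by
  rw [c.ofL_apply, ← map_mul, ← map_mul] at h
  exact congrArg Prod.snd (c.E_injective h)

/-- An element of odd order commuting with `t` lies in the component. -/
theorem exists_ofL {g : G} (hg : g * c.t = c.t * g) (ho : Odd (orderOf g)) :
    ∃ l, c.ofL l = g := by
  obtain ⟨⟨e, l⟩, rfl⟩ := c.exists_E hg
  rcases z2_cases e with rfl | rfl
  · exact ⟨l, rfl⟩
  · exfalso
    rw [c.orderOf_E, Prod.orderOf_mk] at ho
    have h2 : orderOf (Multiplicative.ofAdd (1 : ZMod 2)) = 2 :=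
      orderOf_eq_prime (hp := ⟨Nat.prime_two⟩) (by decide) (by decide)
    have h3 : 2 ∣ (orderOf (Multiplicative.ofAdd (1 : ZMod 2))).lcm (orderOf l) := by
      conv_lhs => rw [← h2]
      exact Nat.dvd_lcm_left _ _
    exact Nat.not_even_iff_odd.2 ho (even_iff_two_dvd.2 h3)

theorem card_C : Nat.card (centralizer ({c.t} : Set G)) = q * ((q - 1) * (q + 1)) := by
  rw [Nat.card_congr c.S.e.toEquiv, Nat.card_prod, show Nat.card Z2 = Nat.card (ZMod 2) from rfl,
    Nat.card_zmod, c.LN.card]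

/-- The order of an element commuting with an involution. -/
theorem fused_dvd {s y : G} (hs : orderOf s = 2) (hc : y * s = s * y) :
    orderOf y ∣ q * ((q - 1) * (q + 1)) := by
  obtain ⟨g, hg⟩ := isConj_iff.1 (c.fused s hs)
  have hy : g⁻¹ * y * g ∈ centralizer ({c.t} : Set G) := by
    rw [mem_centralizer_singleton_iff]
    rw [← hg] at hc
    calc g⁻¹ * y * g * c.t = g⁻¹ * (y * (g * c.t * g⁻¹)) * g := by group
      _ = g⁻¹ * (g * c.t * g⁻¹ * y) * g := by rw [hc]
      _ = c.t * (g⁻¹ * y * g) := by group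
  have h1 := orderOf_dvd_natCard _ hy
  rw [c.card_C, show g⁻¹ * y * g = g⁻¹ * y * g⁻¹⁻¹ by rw [inv_inv], orderOf_conj'] at h1
  exact h1

/-- The subgroup `U`. -/
def U : Subgroup G := c.LN.U.map c.ofL

/-- The subgroup `D = ⟨t⟩ × H`. -/
def D : Subgroup G := ((⊤ : Subgroup Z2).prod c.LN.H).map c.E

theorem card_U : Nat.card c.U = q := by
  rw [U, card_map_of_injective c.ofL_injective, c.LN.U_card]

theorem card_D : Nat.card c.D = q - 1 := by
  have e : Nat.card ((⊤ : Subgroup Z2).prod c.LN.H) = 2 * Nat.card c.LN.H := by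
    rw [Nat.card_congr (Subgroup.prodEquiv _ _).toEquiv, Nat.card_prod, card_top,
      show Nat.card Z2 = Nat.card (ZMod 2) from rfl, Nat.card_zmod]
  have h := c.LN.H_card
  rw [D, card_map_of_injective c.E_injective, e]
  omega

theorem mem_D {g : G} : g ∈ c.D ↔ ∃ e l, l ∈ c.LN.H ∧ c.E (e, l) = g := by
  constructor
  · rintro ⟨⟨e, l⟩, hx, rfl⟩
    exact ⟨e, l, hx.2, rfl⟩
  · rintro ⟨e, l, hl, rfl⟩
    exact ⟨(e, l), ⟨mem_top _, hl⟩, rfl⟩

theorem t_mem_D : c.t ∈ c.D := c.mem_D.2 ⟨_, 1, one_mem _, c.emb_t⟩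

theorem U_odd : Odd (Nat.card c.U) := by
  rw [c.card_U]
  exact Nat.odd_iff.2 (by have := c.q_mod; omega)

/-- An element centralising `t` and a non-trivial element of `U`. -/
theorem cent_t_U {g : G} {u : L} (hu : u ∈ c.LN.U) (hu1 : u ≠ 1) (ht : g * c.t = c.t * g)
    (hg : g * c.ofL u = c.ofL u * g) : ∃ e l, l ∈ c.LN.U ∧ c.E (e, l) = g := by
  obtain ⟨⟨e, l⟩, rfl⟩ := c.exists_E ht
  exact ⟨e, l, (c.LN.U_cent u hu hu1 l).1 (c.E_commute_ofL hg), rfl⟩

theorem cent_t_H {g : G} {h : L} (hh : h ∈ c.LN.H) (hh1 : h ≠ 1) (ht : g * c.t = c.t * g)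
    (hg : g * c.ofL h = c.ofL h * g) : ∃ e l, l ∈ c.LN.H ∧ c.E (e, l) = g := by
  obtain ⟨⟨e, l⟩, rfl⟩ := c.exists_E ht
  exact ⟨e, l, (c.LN.H_cent h hh hh1 l).1 (c.E_commute_ofL hg), rfl⟩

/-- The 2-elements `E (e, l)` with `l` in a subgroup of odd order. -/
theorem eq_one_or_t {A : Subgroup L} (hA : Odd (Nat.card A)) {e : Z2} {l : L} (hl : l ∈ A) {k : ℕ}
    (hk : orderOf (c.E (e, l)) = 2 ^ k) : c.E (e, l) = 1 ∨ c.E (e, l) = c.t := by
  have h1 : orderOf l ∣ 2 ^ k := by
    rw [← hk, c.orderOf_E]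
    exact orderOf_map_dvd (MonoidHom.snd Z2 L) (e, l)
  have h2 : (orderOf l).Coprime (2 ^ k) :=
    Nat.Coprime.pow_right k (hA.of_dvd_nat (A.orderOf_dvd_natCard hl)).coprime_two_right
  obtain rfl : l = 1 := orderOf_eq_one_iff.1 (Nat.eq_one_of_dvd_coprimes h2 dvd_rfl h1)
  rcases z2_cases e with rfl | rfl
  · exact Or.inl (map_one _)
  · exact Or.inr c.emb_t

theorem H_odd : Odd (Nat.card c.LN.H) := by
  have h := c.LN.H_card
  exact Nat.odd_iff.2 (by have := c.q_mod; omega)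

theorem LU_odd : Odd (Nat.card c.LN.U) := by
  rw [c.LN.U_card]
  exact Nat.odd_iff.2 (by have := c.q_mod; omega)

/-- The order is `2 |U|` times a number prime to three. -/
theorem card_L_eq : ∃ m, Nat.card L = Nat.card c.LN.U * m ∧ ¬ 3 ∣ m := by
  have h := c.LN.card
  have h8 := c.q_mod
  obtain ⟨j, hj⟩ := c.three_q
  refine ⟨(q - 1) / 2 * (q + 1), ?_, fun h3 => ?_⟩
  · rw [c.LN.U_card]
    refine Nat.eq_of_mul_eq_mul_left two_pos (h.trans ?_)
    rw [show q * ((q - 1) * (q + 1)) = q * ((2 * ((q - 1) / 2)) * (q + 1)) by rw [← (nat_parts h8).1]]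
    ring
  · rcases (Nat.Prime.dvd_mul Nat.prime_three).1 h3 with h3 | h3 <;> omega

/-- Elements of three-power order of `L` are conjugate into `U`. -/
theorem exists_conj_U {l : L} {k : ℕ} (hl : orderOf l = 3 ^ k) : ∃ g : L, g * l * g⁻¹ ∈ c.LN.U := by
  obtain ⟨m, hm, h3⟩ := c.card_L_eq
  exact exists_conj_mem_of_part Nat.prime_three hm h3 hl

/-- In the centraliser of an involution no element inverts an element of order three. -/
theorem not_inverted {v y s : G} (hv : orderOf v = 2) (hy : orderOf y = 3) (hyv : y * v = v * y)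
    (hsv : s * v = v * s) (hinv : s * y * s⁻¹ = y⁻¹) : False := by
  obtain ⟨g, hg⟩ := isConj_iff.1 (c.fused v hv)
  set φ := MulAut.conj g⁻¹
  have hφv : φ v = c.t := by rw [← hg, MulAut.conj_apply]; group
  have hcomm : ∀ z, z * v = v * z → φ z * c.t = c.t * φ z := fun z hz => by
    rw [← hφv, ← map_mul, ← map_mul, hz]
  obtain ⟨⟨e, ly⟩, hly⟩ := c.exists_E (hcomm y hyv)
  obtain ⟨⟨f, ls⟩, hls⟩ := c.exists_E (hcomm s hsv)
  have hord : orderOf (e, ly) = 3 := by rw [← c.orderOf_E, hly, MulEquiv.orderOf_eq]; exact hy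
  have hconj : (f, ls) * (e, ly) * (f, ls)⁻¹ = (e, ly)⁻¹ := by
    apply c.E_injective
    rw [map_mul, map_mul, map_inv, map_inv, hls, hly, ← map_inv φ, ← map_mul, ← map_mul, ← map_inv φ,
      hinv]
  have hl : ls * ly * ls⁻¹ = ly⁻¹ := congrArg Prod.snd hconj
  have hly3 : orderOf ly ∣ 3 := hord ▸ orderOf_map_dvd (MonoidHom.snd Z2 L) (e, ly)
  have hlyne : ly ≠ 1 := by
    rintro rfl
    rw [Prod.orderOf_mk, orderOf_one, Nat.lcm_one_right] at hord
    have := orderOf_dvd_of_pow_eq_one (show e ^ 2 = 1 by rw [pow_two]; exact z2_sq e)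
    rw [hord] at this
    norm_num at this
  obtain ⟨j, -, hj⟩ := (Nat.dvd_prime_pow Nat.prime_three).1 (show orderOf ly ∣ 3 ^ 1 by simpa using hly3)
  obtain ⟨a, ha⟩ := c.exists_conj_U hj
  refine c.LN.U_invert _ ha (fun e1 => hlyne ?_) (a * ls * a⁻¹) ?_
  · simpa [mul_inv_eq_one] using e1
  · calc a * ls * a⁻¹ * (a * ly * a⁻¹) * (a * ls * a⁻¹)⁻¹ = a * (ls * ly * ls⁻¹) * a⁻¹ := by group
      _ = a * ly⁻¹ * a⁻¹ := by rw [hl]
      _ = (a * ly * a⁻¹)⁻¹ := by group

theorem H_no_commute {h : L} (hh : h ∈ c.LN.H) (hh1 : h ≠ 1) {y : G} (hyh : y * c.ofL h = c.ofL h * y)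
    (hp : (orderOf y).Prime) (hcase : orderOf y = 3 ∨ orderOf y ∣ nq q) : False := by
  set X := centralizer ({c.ofL h} : Set G)
  have htX : c.t ∈ X := mem_centralizer_singleton_iff.2 (c.ofL_commute_t h).symm
  have hcond : ∀ g ∈ X, g * c.t = c.t * g → (∃ k, orderOf g = 2 ^ k) → g = 1 ∨ g = c.t := by
    rintro g hgX hgt ⟨k, hk⟩
    obtain ⟨e, l, hl, rfl⟩ := c.cent_t_H hh hh1 hgt (mem_centralizer_singleton_iff.1 hgX)
    exact c.eq_one_or_t c.H_odd hl hk
  obtain ⟨K, hKX, -, hKodd, hK⟩ := exists_odd_part c.hab c.S.ht htX hcond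
  -- the second involution
  set w := c.ofL c.LN.w
  have hw : orderOf w = 2 := by rw [c.orderOf_ofL]; exact c.LN.w_two
  have hw2 : w * w = 1 := by rw [← pow_two, ← hw, pow_orderOf_eq_one]
  have htw : c.t * w = w * c.t := (c.ofL_commute_t _).symm
  have htne : c.t ≠ w := fun e => by
    have h1 : c.E (Multiplicative.ofAdd 1, 1) = c.E (1, c.LN.w) := c.emb_t.trans e
    have h2 := congrArg Prod.fst (c.E_injective h1)
    exact absurd h2 (show Multiplicative.ofAdd (1 : ZMod 2) ≠ 1 by decide)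
  have hwh : w * c.ofL h * w⁻¹ = (c.ofL h)⁻¹ := by rw [← map_inv, ← map_mul, ← map_mul, c.LN.w_inv h hh, map_inv]
  have hwX : ∀ g ∈ X, w * g * w⁻¹ ∈ X := fun g hg => by
    rw [mem_centralizer_singleton_iff] at hg ⊢
    have h1 : (w * g * w⁻¹) * (w * c.ofL h * w⁻¹) = (w * c.ofL h * w⁻¹) * (w * g * w⁻¹) := by
      rw [show (w * g * w⁻¹) * (w * c.ofL h * w⁻¹) = w * (g * c.ofL h) * w⁻¹ by group, hg]; group
    rw [hwh] at h1
    exact (Commute.inv_right_iff.1 (show Commute (w * g * w⁻¹) (c.ofL h)⁻¹ from h1)).eq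
  have hwK : w ∈ normalizer (K : Set G) := mem_normalizer_of_invol hw2 fun g hg =>
    (hK _).2 ⟨hwX g ((hK g).1 hg).1, by rw [orderOf_conj']; exact ((hK g).1 hg).2⟩
  have htK : c.t ∈ normalizer (K : Set G) := mem_normalizer_of_invol c.t_mul_t fun g hg =>
    (hK _).2 ⟨mul_mem (mul_mem htX ((hK g).1 hg).1) (inv_mem htX),
      by rw [orderOf_conj']; exact ((hK g).1 hg).2⟩
  -- `y` gives a prime of `K`
  haveI := Fact.mk hp
  have hodd : Odd (orderOf y) := by
    rcases hcase with e | e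
    · rw [e]; decide
    · exact (nq_odd c.q_mod).of_dvd_nat e
  have hyK : y ∈ K := (hK y).2 ⟨mem_centralizer_singleton_iff.2 hyh, hodd⟩
  obtain ⟨T, hTK, hTp, htT, -, v, hv, z, hzT, hz1, hzv⟩ :=
    exists_fixed_prime c.S.ht hw htw htne hKodd htK hwK (K.orderOf_dvd_natCard hyK)
  obtain ⟨k, hk⟩ := IsPGroup.iff_orderOf.1 hTp ⟨z, hzT⟩
  rw [← Subgroup.orderOf_coe] at hk
  simp only at hk
  have hk0 : k ≠ 0 := fun e => hz1 (orderOf_eq_one_iff.1 (by rw [hk, e, pow_zero]))
  have hv2 : orderOf v = 2 := by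
    rcases hv with rfl | rfl | rfl
    · exact c.S.ht
    · exact hw
    · refine orderOf_eq_prime (hp := ⟨Nat.prime_two⟩) ?_ fun e => htne ?_
      · rw [(show Commute c.t w from htw).mul_pow, pow_two, pow_two, c.t_mul_t, hw2, one_mul]
      · exact (eq_inv_of_mul_eq_one_left e).trans (inv_eq_of_mul_eq_one_right hw2)
  rcases hcase with e3 | e3
  · have h3T : ∀ g ∈ T, g * c.t = c.t * g → g = 1 := by
      intro g hgT hgt
      obtain ⟨j, hj⟩ := IsPGroup.iff_orderOf.1 hTp ⟨g, hgT⟩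
      rw [← Subgroup.orderOf_coe] at hj
      simp only at hj
      rw [e3] at hj
      obtain ⟨l, rfl⟩ := c.exists_ofL hgt (by rw [hj]; exact Odd.pow (by decide))
      have hl : l ∈ c.LN.H := (c.LN.H_cent h hh hh1 l).1 (c.E_commute_ofL
        (mem_centralizer_singleton_iff.1 ((hK _).1 (hTK hgT)).1))
      rw [c.orderOf_ofL] at hj
      have h3H : ¬ 3 ∣ Nat.card c.LN.H := fun hd => by
        have := c.LN.H_card
        have := c.three_q
        omega
      rw [orderOf_eq_one_iff.1 (Nat.eq_one_of_dvd_coprimes ((Nat.Prime.coprime_iff_not_dvd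
        Nat.prime_three).2 h3H |>.pow_left j) (hj ▸ dvd_rfl) (c.LN.H.orderOf_dvd_natCard hl)), map_one]
    have hinv := inverts_of_fixed_trivial c.t_mul_t
      (fun g hg => (mem_normalizer_iff.1 htT g).1 hg) (fun g hg hgt => h3T g hg hgt.symm)
    have htv : c.t * v = v * c.t := by
      rcases hv with rfl | rfl | rfl
      · rfl
      · exact htw
      · exact ((Commute.refl c.t).mul_right htw).eq
    rw [e3] at hk
    obtain ⟨j, rfl⟩ : ∃ j, k = j + 1 := ⟨k - 1, by omega⟩
    refine c.not_inverted hv2 (y := z ^ 3 ^ j) ?_ ((show Commute z v from hzv).pow_left _).eq htv ?_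
    · rw [orderOf_pow_of_dvd (by positivity) (hk ▸ pow_dvd_pow 3 (Nat.le_succ j)), hk, pow_succ,
        Nat.mul_div_cancel_left 3 (by positivity)]
    · rw [← conj_pow, hinv z hzT, inv_pow]
  · refine not_dvd_of_dvd_nq c.q_mod c.three_q hp e3 ?_
    refine (dvd_trans ?_ (c.fused_dvd hv2 hzv))
    rw [hk]
    exact dvd_pow_self _ hk0

/-- An element of prime order dividing `(q - 1) / 2` commutes with no element of order three. -/
theorem split_no_commute {b y : G} (hbp : (orderOf b).Prime) (hbd : orderOf b ∣ (q - 1) / 2)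
    (hy : orderOf y = 3) (hby : y * b = b * y) : False := by
  obtain ⟨m, hm, hpm⟩ := split_part c.q_mod hbp hbd
  have hcard : Nat.card (c.LN.H.map c.ofL) = (q - 1) / 2 := by
    rw [card_map_of_injective c.ofL_injective]
    have := c.LN.H_card
    omega
  obtain ⟨g, h, hh, hgh⟩ := exists_conj_mem_of_part hbp (A := c.LN.H.map c.ofL) (b := b) (k := 1)
    (by rw [c.card_G, hcard, hm]) hpm (pow_one _).symm
  have hh1 : h ≠ 1 := fun e => hbp.ne_one (by rw [← orderOf_conj' g b, ← hgh, e, map_one, orderOf_one])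
  refine c.H_no_commute hh hh1 (y := g * y * g⁻¹) ?_ (by rw [orderOf_conj', hy]; exact Nat.prime_three)
    (Or.inl (by rw [orderOf_conj', hy]))
  rw [hgh, show g * y * g⁻¹ * (g * b * g⁻¹) = g * (y * b) * g⁻¹ by group, hby]
  group

/-- A prime other than two and three commuting with a 3-group of order at least nine divides
`q² - q + 1`. -/
theorem pi_of_nine {R : Subgroup G} (hR : IsPGroup 3 R) (h9 : 9 ≤ Nat.card R) {b : G}
    (hb : ∀ r ∈ R, r * b = b * r) (hp : (orderOf b).Prime) (h2 : orderOf b ≠ 2) (h3 : orderOf b ≠ 3) :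
    orderOf b ∣ nq q := by
  haveI : Fact (Nat.Prime 3) := ⟨Nat.prime_three⟩
  obtain ⟨k, hk⟩ := IsPGroup.iff_card.1 hR
  have h9d : 9 ∣ Nat.card R := by
    rw [hk] at h9 ⊢
    have : 2 ≤ k := by
      by_contra hlt
      interval_cases k <;> omega
    exact pow_dvd_pow 3 this
  rcases primes_cases c.q_eq c.q_mod hp (c.card_G ▸ orderOf_dvd_natCard b) with h | h | h | h | h
  · exact absurd h h2
  · exact absurd h h3
  · exfalso
    obtain ⟨y, hy⟩ := exists_prime_orderOf_dvd_card' (G := R) 3 (dvd_trans (by norm_num) h9d)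
    exact c.split_no_commute hp h (y := y) (by rw [Subgroup.orderOf_coe, hy]) (hb y y.2)
  · exfalso
    exact c.torus b hp h (h9d.trans (card_dvd_of_le fun r hr => mem_centralizer_singleton_iff.2 (hb r hr)))
  · exact h

/-- A 3-subgroup of the centraliser of an involution has order at most `q`. -/
theorem card_three {R : Subgroup G} (hR : IsPGroup 3 R) {s : G} (hs : orderOf s = 2)
    (hRs : ∀ r ∈ R, r * s = s * r) : Nat.card R ≤ q := by
  haveI : Fact (Nat.Prime 3) := ⟨Nat.prime_three⟩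
  obtain ⟨g, hg⟩ := isConj_iff.1 (c.fused s hs)
  have hle : R.map (MulAut.conj g⁻¹).toMonoidHom ≤ centralizer ({c.t} : Set G) := by
    rintro _ ⟨r, hr, rfl⟩
    rw [mem_centralizer_singleton_iff, show c.t = MulAut.conj g⁻¹ s by rw [← hg, MulAut.conj_apply]; group]
    show MulAut.conj g⁻¹ r * MulAut.conj g⁻¹ s = MulAut.conj g⁻¹ s * MulAut.conj g⁻¹ r
    rw [← map_mul, ← map_mul, hRs r hr]
  have h1 := card_dvd_of_le hle
  rw [card_map_of_injective (MulEquiv.injective _), c.card_C] at h1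
  obtain ⟨k, hk⟩ := IsPGroup.iff_card.1 hR
  rw [hk] at h1 ⊢
  obtain ⟨j, hj⟩ := c.three_q
  have h8 := c.q_mod
  have hcop : (3 ^ k).Coprime ((q - 1) * (q + 1)) :=
    Nat.Coprime.pow_left k ((Nat.Prime.coprime_iff_not_dvd Nat.prime_three).2 fun hd => by
      rcases (Nat.Prime.dvd_mul Nat.prime_three).1 hd with hd | hd <;> omega)
  exact Nat.le_of_dvd (by omega) (hcop.dvd_of_dvd_mul_right h1)

end Cfg

end Cfsg.Agent.Walter.Ree
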