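import Cfsg.Agent.Lib.Walter.ComponentsSimple
import Cfsg.Agent.Lib.Forms.DicksonCor
import Cfsg.Agent.Lib.Classical.Linear
import Cfsg.Agent.S0276
import Cfsg.Agent.S2507

/-!
# One class of non-identity 2-elements

Transport along isomorphisms, and the linear groups: in `PSL(2, 2^n)` the centralizer of a non-identity element of
a Sylow 2-subgroup `P` is `P`, so `P` acts freely on the rest of a class of size `q ^ 2 - 1`, and that class
contains all of `P` but the identity.
-/

set_option autoImplicit false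
set_option linter.style.haveILetI false
set_option linter.unusedSectionVars false

namespace Cfsg.Agent.Walter

open Subgroup

universe u

theorem OneTwoClass.of_equiv {X : Type u} [Group X] [Finite X] {Y : Type*} [Group Y] (e : X ≃* Y)
    (h : ∀ P : Sylow 2 Y, ∀ x ∈ (P : Subgroup Y), ∀ y ∈ (P : Subgroup Y), x ≠ 1 → y ≠ 1 →
      ∃ n ∈ normalizer ((P : Subgroup Y) : Set Y), n * x * n⁻¹ = y) : OneTwoClass X := by
  intro P x hx y hy hx1 hy1
  set Q := P.comapOfInjective e.symm.toMonoidHom e.symm.injective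
    (by rw [MonoidHom.range_eq_top.2 e.symm.surjective]; exact le_top) with hQ
  have hQm : ∀ z : Y, z ∈ (Q : Subgroup Y) ↔ e.symm z ∈ (P : Subgroup X) := fun z => Iff.rfl
  obtain ⟨n, hn, hnx⟩ := h Q (e x) ((hQm _).2 (by rwa [MulEquiv.symm_apply_apply])) (e y)
    ((hQm _).2 (by rwa [MulEquiv.symm_apply_apply]))
    (fun e1 => hx1 ((MulEquiv.map_eq_one_iff e).1 e1)) (fun e1 => hy1 ((MulEquiv.map_eq_one_iff e).1 e1))
  refine ⟨e.symm n, mem_normalizer_iff.2 fun z => ?_, e.injective (by simp [hnx])⟩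
  have := (mem_normalizer_iff.1 hn (e z))
  rw [hQm, hQm] at this
  simpa using this

section Linear

variable {F : Type} [Field F] [Fintype F]

local notation "PG" => Matrix.ProjectiveSpecialLinearGroup (Fin 2) F

/-- The order of a Sylow 2-subgroup in characteristic two. -/
theorem card_sylow_psl_even (h2 : 2 ∣ Fintype.card F) (S : Sylow 2 PG) :
    Nat.card ↥(S : Subgroup PG) = Fintype.card F := by
  haveI : Fact (Nat.Prime 2) := ⟨Nat.prime_two⟩
  obtain ⟨p, hp⟩ := CharP.exists F
  obtain ⟨n, hpp, hn⟩ := FiniteField.card F p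
  have hp2 : p = 2 := ((Nat.prime_dvd_prime_iff_eq Nat.prime_two hpp).1
    (Nat.prime_two.dvd_of_dvd_pow (hn ▸ h2))).symm
  subst hp2
  set q := Fintype.card F with hq
  have h1 := Fintype.one_lt_card (α := F)
  have hgcd : Nat.gcd 2 (q - 1) = 1 := by
    refine (Nat.prime_two.coprime_iff_not_dvd.2 fun h => ?_)
    omega
  have hG := Forms.DicksonCor.gcd_mul_natCard (F := F)
  rw [← hq, hgcd, one_mul] at hG
  have hodd : ¬ 2 ∣ (q - 1) * (q + 1) := fun h => by
    rcases Nat.prime_two.dvd_mul.1 h with h | h <;> omega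
  rw [S.card_eq_multiplicity, hG, Nat.factorization_mul (by omega)
      (Nat.mul_ne_zero (by omega) (by omega)), Finsupp.add_apply, Nat.factorization_eq_zero_of_not_dvd hodd,
    add_zero, hn, Nat.Prime.factorization_pow Nat.prime_two, Finsupp.single_eq_same]

/-- One class of non-identity 2-elements in `PSL(2, 2^n)`. -/
theorem psl_even_trans (h2 : 2 ∣ Fintype.card F) (h4 : 4 ≤ Fintype.card F) (h : SEAbelian.AbTwo PG) :
    OneTwoClass PG := by
  classical
  haveI : Fact (Nat.Prime 2) := ⟨Nat.prime_two⟩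
  haveI : IsSimpleGroup PG := Classical.Linear.isSimpleGroup_PSL_fin le_rfl fun _ => h4
  intro P x hx y hy hx1 hy1
  set q := Fintype.card F with hq
  haveI := isMulCommutative_sylow h P
  have hP : Nat.card ↥(P : Subgroup PG) = q := card_sylow_psl_even h2 P
  have hS := S2507.result (F := F) h2 h4
  rw [← hq] at hS
  have hgcd : Nat.gcd 2 (q - 1) = 1 := by
    refine (Nat.prime_two.coprime_iff_not_dvd.2 fun h => ?_)
    omega
  have hG := Forms.DicksonCor.gcd_mul_natCard (F := F)
  rw [← hq, hgcd, one_mul, show (q - 1) * (q + 1) = q ^ 2 - 1 by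
    rw [mul_comm, ← Nat.sq_sub_sq, one_pow]] at hG
  have hq2 : 16 ≤ q ^ 2 := by nlinarith
  have hnc : ¬ IsMulCommutative PG := fun hc => by
    obtain ⟨g, hg⟩ : q ^ 2 - 1 ∈ Set.range (fun g : PG => (centralizer ({g} : Set PG)).index) := by
      rw [hS]; simp
    simp only at hg
    have : centralizer ({g} : Set PG) = ⊤ := (eq_top_iff' _).2 fun z =>
      mem_centralizer_singleton_iff.2 (hc.is_comm.comm z g)
    rw [this, Subgroup.index_top] at hg
    omega
  -- the centralizer of a non-identity element of the Sylow subgroup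
  have hC : ∀ u ∈ (P : Subgroup PG), u ≠ 1 → centralizer ({u} : Set PG) = (P : Subgroup PG) ∧
      (centralizer ({u} : Set PG)).index = q ^ 2 - 1 := by
    intro u hu hu1
    have hle : (P : Subgroup PG) ≤ centralizer ({u} : Set PG) := fun z hz =>
      mem_centralizer_singleton_iff.2 (h _ P.2 z hz u hu).eq
    have hidx : (P : Subgroup PG).index = q ^ 2 - 1 := by
      have := (P : Subgroup PG).card_mul_index
      rw [hP, hG] at this
      exact Nat.eq_of_mul_eq_mul_left (by omega) this
    have hdvd : (centralizer ({u} : Set PG)).index ∣ q ^ 2 - 1 := hidx ▸ index_dvd_of_le hle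
    have hmem : (centralizer ({u} : Set PG)).index ∈
        ({1, q * (q - 1), q ^ 2 - 1, q * (q + 1)} : Set ℕ) := hS ▸ ⟨_, rfl⟩
    have hqodd : ¬ 2 ∣ q ^ 2 - 1 := by
      obtain ⟨c, hc⟩ := dvd_pow h2 two_ne_zero
      omega
    simp only [Set.mem_insert_iff, Set.mem_singleton_iff] at hmem
    rcases hmem with e | e | e | e
    · exfalso
      rw [Subgroup.index_eq_one, Subgroup.centralizer_eq_top_iff_subset, Set.singleton_subset_iff] at e
      rw [center_eq_bot_of_simple hnc, SetLike.mem_coe, mem_bot] at e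
      exact hu1 e
    · exact absurd ((h2.mul_right _).trans (e ▸ hdvd)) hqodd
    · refine ⟨(eq_of_le_of_card_ge hle ?_).symm, e⟩
      have := (centralizer ({u} : Set PG)).card_mul_index
      rw [e, hG] at this
      rw [hP]
      exact (Nat.eq_of_mul_eq_mul_right (by omega) this).le
    · exact absurd ((h2.mul_right _).trans (e ▸ hdvd)) hqodd
  obtain ⟨hCx, hidx⟩ := hC x hx hx1
  set K : Set PG := MulAction.orbit (ConjAct PG) x with hK
  have hKcard : K.ncard = q ^ 2 - 1 := by
    rw [← Nat.card_coe_set_eq, Nat.card_congr (MulAction.orbitEquivQuotientStabilizer (ConjAct PG) x), ← hidx]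
    show (MulAction.stabilizer (ConjAct PG) x).index = _
    rw [ConjAct.stabilizer_eq_centralizer]
    rfl
  suffices hy' : y ∈ K by
    obtain ⟨g, hg⟩ := hy'
    have hg' : ConjAct.ofConjAct g * x * (ConjAct.ofConjAct g)⁻¹ = y := by
      rw [← ConjAct.smul_def]; exact hg
    obtain ⟨n, hn, e⟩ := exists_normalizer_conj h P hx (g := ConjAct.ofConjAct g) (hg' ▸ hy)
    exact ⟨n, hn, e.trans hg'⟩
  by_contra hyK
  -- the Sylow subgroup acts freely on the rest of the class
  set Y := {z : PG // z ∈ K ∧ z ∉ (P : Subgroup PG)}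
  letI : MulAction ↥(P : Subgroup PG) Y :=
    { smul := fun p z => ⟨(p : PG) * z.1 * (p : PG)⁻¹, by
        obtain ⟨⟨g, hg⟩, hzP⟩ := z.2
        refine ⟨⟨ConjAct.toConjAct (p : PG) * g, ?_⟩, fun hc => hzP ?_⟩
        · show (ConjAct.toConjAct (p : PG) * g) • x = _
          rw [mul_smul, show g • x = z.1 from hg, ConjAct.toConjAct_smul]
        · have := mul_mem (mul_mem (inv_mem p.2) hc) p.2
          simpa [mul_assoc] using this⟩
      one_smul := fun z => Subtype.ext (show ((1 : ↥(P : Subgroup PG)) : PG) * z.1 * _ = z.1 by simp)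
      mul_smul := fun a b z => Subtype.ext (show ((a * b : ↥(P : Subgroup PG)) : PG) * z.1 * _ =
        (a : PG) * ((b : PG) * z.1 * (b : PG)⁻¹) * (a : PG)⁻¹ by simp [mul_assoc]) }
  have hfree : ∀ z : Y, MulAction.stabilizer ↥(P : Subgroup PG) z = ⊥ := by
    refine fun z => eq_bot_iff.2 fun p hp => ?_
    rw [mem_bot]
    by_contra hp1
    have h1 : (p : PG) * z.1 * (p : PG)⁻¹ = z.1 := congrArg Subtype.val (MulAction.mem_stabilizer_iff.1 hp)
    have h2 : z.1 ∈ centralizer ({(p : PG)} : Set PG) :=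
      mem_centralizer_singleton_iff.2 (mul_inv_eq_iff_eq_mul.1 h1).symm
    rw [(hC p p.2 fun e => hp1 (Subtype.ext e)).1] at h2
    exact z.2.2 h2
  have hdvd : q ∣ Nat.card Y := by
    rw [Nat.card_congr (MulAction.selfEquivOrbitsQuotientProd hfree), Nat.card_prod, hP]
    exact dvd_mul_left _ _
  have hY : Nat.card Y = (K \ ((P : Subgroup PG) : Set PG)).ncard := Nat.card_coe_set_eq _
  set c := (K ∩ ((P : Subgroup PG) : Set PG)).ncard with hc
  have hsum : c + Nat.card Y = q ^ 2 - 1 := by
    rw [hY, hc, Set.ncard_inter_add_ncard_diff_eq_ncard K _ (Set.toFinite K), hKcard]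
  have hclt : c + 2 ≤ q := by
    have hsub : K ∩ ((P : Subgroup PG) : Set PG) ⊆ (((P : Subgroup PG) : Set PG) \ {1, y}) := by
      rintro z ⟨hz, hzP⟩
      refine ⟨hzP, ?_⟩
      rintro (rfl | rfl)
      · obtain ⟨g, hg⟩ := hz
        have : g • x = g • (1 : PG) := by rw [smul_one]; exact hg
        exact hx1 (MulAction.injective g this)
      · exact hyK hz
    have := Set.ncard_le_ncard hsub (Set.toFinite _)
    rw [Set.ncard_diff (by
      rintro z (rfl | rfl)
      · exact one_mem _
      · exact hy) (Set.toFinite _), Set.ncard_pair (Ne.symm hy1), ← hc] at this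
    have hPn : (((P : Subgroup PG) : Set PG)).ncard = q := by rw [← Nat.card_coe_set_eq]; exact hP
    omega
  -- `c` is congruent to `-1` modulo `q`
  obtain ⟨d, hd⟩ := hdvd
  have hqc : q ∣ c + 1 := by
    have h1 : q ∣ q ^ 2 := dvd_pow_self q two_ne_zero
    have h2' : c + 1 + q * d = q ^ 2 := by omega
    exact (Nat.dvd_add_left (Dvd.intro d rfl)).1 (h2' ▸ h1)
  have := Nat.le_of_dvd (by omega) hqc
  omega

theorem oneTwoClass_of_psl_even {X : Type u} [Group X] [Finite X] (h : SEAbelian.AbTwo X) {n : ℕ} (hn : 2 ≤ n)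
    (hF : Fintype.card F = 2 ^ n) (e : X ≃* PG) : OneTwoClass X := by
  have h4 : 4 ≤ Fintype.card F := by
    rw [hF]
    calc 4 = 2 ^ 2 := rfl
      _ ≤ 2 ^ n := Nat.pow_le_pow_right two_pos hn
  refine OneTwoClass.of_equiv e (psl_even_trans (hF ▸ dvd_pow_self 2 (by omega)) h4 ?_)
  · intro P hP a ha b hb
    have := h _ (hP.map e.symm.toMonoidHom) _ (mem_map_of_mem _ ha) _ (mem_map_of_mem _ hb)
    have h1 := this.map e.toMonoidHom
    simpa using h1

theorem oneTwoClass_of_psl_odd {X : Type u} [Group X] [Finite X] (h : SEAbelian.AbTwo X) [IsSimpleGroup X]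
    (hnc : ¬ IsMulCommutative X) (hF : Fintype.card F % 8 = 3 ∨ Fintype.card F % 8 = 5) (e : X ≃* PG) :
    OneTwoClass X := by
  haveI : Fact (Nat.Prime 2) := ⟨Nat.prime_two⟩
  refine oneTwoClass_of_small hnc h fun S => ?_
  obtain ⟨P, hP⟩ := (S.2.map e.toMonoidHom).exists_le_sylow
  have h1 := card_le_of_le hP
  rw [Subgroup.card_map_of_injective e.injective] at h1
  have h4 : Nat.card ↥(P : Subgroup PG) = 4 := (S0276.result rfl hF P).1
  omega

end Linear

end Cfsg.Agent.Walter
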