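import Cfsg.Agent.Lib.Walter.Components
import Cfsg.Agent.Lib.Walter.ComponentsClasses
import Cfsg.Prelude.Def_Sporadic
import Cfsg.Prelude.Def_Exceptional

/-!
# The component system of a minimal counterexample

`Listed` is the conclusion of Walter's theorem.  If the simple groups of smaller order with abelian Sylow
2-subgroups are listed, the components of the involution centralisers have one class of non-identity 2-elements.
-/

set_option autoImplicit false
set_option linter.style.haveILetI false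
set_option linter.unusedSectionVars false

namespace Cfsg.Agent.Walter

open Subgroup
open Cfsg.Agent.SEAbelian

universe u

/-- The conclusion of Walter's theorem. -/
def Listed (T : Type u) [Group T] : Prop :=
  (∃ a : ℕ, 2 ≤ a ∧ ∃ (F : Type) (_ : Field F) (_ : Fintype F), Fintype.card F = 2 ^ a ∧
      Nonempty (T ≃* Matrix.ProjectiveSpecialLinearGroup (Fin 2) F)) ∨
    (∃ (F : Type) (_ : Field F) (_ : Fintype F), (Fintype.card F % 8 = 3 ∨ Fintype.card F % 8 = 5) ∧
      Nonempty (T ≃* Matrix.ProjectiveSpecialLinearGroup (Fin 2) F)) ∨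
    Cfsg.IsRee T ∨ Cfsg.IsJ1 T

variable {T : Type u} [Group T] [Finite T]

/-- A group whose order is eight times an odd number. -/
theorem card_sylow_le_eight {m : ℕ} (hc : Nat.card T = 8 * m) (hm : Odd m) (S : Sylow 2 T) :
    Nat.card ↥(S : Subgroup T) ≤ 8 := by
  haveI : Fact (Nat.Prime 2) := ⟨Nat.prime_two⟩
  rw [S.card_eq_multiplicity, hc, Nat.factorization_mul (by norm_num) (Nat.ne_of_odd_add (by simpa using hm)),
    Finsupp.add_apply, Nat.factorization_eq_zero_of_not_dvd
      (fun h => Nat.not_even_iff_odd.2 hm (even_iff_two_dvd.2 h)), add_zero,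
    show (8 : ℕ) = 2 ^ 3 from rfl, Nat.Prime.factorization_pow Nat.prime_two, Finsupp.single_eq_same]

theorem card_sylow_ree (h : Cfsg.IsRee T) (S : Sylow 2 T) : Nat.card ↥(S : Subgroup T) ≤ 8 := by
  obtain ⟨-, m, -, hc⟩ := h
  set q := 3 ^ (2 * m + 1) with hq
  have hq8 : q % 8 = 3 := by
    rw [hq, pow_succ, pow_mul, Nat.mul_mod, Nat.pow_mod]
    norm_num
  obtain ⟨k, hk⟩ : ∃ k, q = 8 * k + 3 := ⟨q / 8, by omega⟩
  have hq3 : ∃ j, q ^ 3 + 1 = 4 * (2 * j + 1) := by
    refine ⟨64 * k ^ 3 + 72 * k ^ 2 + 27 * k + 3, ?_⟩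
    rw [hk]
    ring
  obtain ⟨j, hj⟩ := hq3
  have hq1 : q - 1 = 2 * (4 * k + 1) := by omega
  refine card_sylow_le_eight (m := q ^ 3 * (2 * j + 1) * (4 * k + 1)) ?_ ?_ S
  · rw [hc, hj, hq1]
    ring
  · exact ((Odd.pow (by exact ⟨4 * k + 1, by omega⟩)).mul ⟨j, rfl⟩).mul ⟨2 * k, by ring⟩

theorem card_sylow_j1 (h : Cfsg.IsJ1 T) (S : Sylow 2 T) : Nat.card ↥(S : Subgroup T) ≤ 8 :=
  card_sylow_le_eight (m := 21945) (by rw [h.2]) ⟨10972, rfl⟩ S

theorem oneTwoClass_of_listed [IsSimpleGroup T] (hnc : ¬ IsMulCommutative T) (hab : AbTwo T) (h : Listed T) :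
    OneTwoClass T := by
  rcases h with ⟨a, ha, F, _, _, hF, ⟨e⟩⟩ | ⟨F, _, _, hF, ⟨e⟩⟩ | h | h
  · exact oneTwoClass_of_psl_even hab ha hF e
  · exact oneTwoClass_of_psl_odd hab hnc hF e
  · exact oneTwoClass_of_small hnc hab (card_sylow_ree h)
  · exact oneTwoClass_of_small hnc hab (card_sylow_j1 h)

/-- The component system, given the list for the smaller simple groups. -/
theorem compSys_of_listed {G : Type u} [Group G] [Finite G] [IsSimpleGroup G] (hnc : ¬ IsMulCommutative G)
    (h : AbTwo G) (S : Sylow 2 G)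
    (hcore : ∀ a : G, orderOf a = 2 → Cfsg.oddCore ↥(centralizer ({a} : Set G)) = ⊥)
    (hind : ∀ (T : Type u) [Group T] [Finite T], IsSimpleGroup T → ¬ IsMulCommutative T → AbTwo T →
      Nat.card T < Nat.card G → Listed T) : CompSys S compsOf := by
  refine compSys h S hcore fun a ha K hK => ?_
  obtain ⟨hs, hn⟩ := component_simple (h.subgroup _) (hcore a ha) hK
  haveI := hs
  have hab : AbTwo ↥K := (h.subgroup _).subgroup K
  refine oneTwoClass_of_listed hn hab (hind ↥K hs hn hab ?_)
  refine lt_of_le_of_lt (Subgroup.card_le_card_group K) ?_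
  refine lt_of_le_of_ne (Subgroup.card_le_card_group _) fun e => ne_one_of_orderOf_two ha ?_
  have htop := Subgroup.eq_top_of_card_eq _ e
  rw [Subgroup.centralizer_eq_top_iff_subset, Set.singleton_subset_iff, center_eq_bot_of_simple hnc,
    SetLike.mem_coe, mem_bot] at htop
  exact htop

end Cfsg.Agent.Walter
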