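import Mathlib
import Cfsg.Agent.Lib.SEAbelian.ReduceTools
import Cfsg.Agent.Lib.Hall.MinimalNormal

/-!
# An odd subgroup transitive on the involutions: 2-closed, or almost simple

`notes/s2554-h16.md`, step 2.
-/

set_option autoImplicit false
set_option linter.style.haveILetI false

namespace Cfsg.Agent.Walter.OddTransitive

open Subgroup
open Cfsg.Agent.SEAbelian

universe u

variable {X : Type u} [Group X] [Finite X]

omit [Finite X] in
theorem exists_involution_of_not_odd [Finite X] {N : Subgroup X} (h : ¬ Odd (Nat.card ↥N)) :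
    ∃ t ∈ N, orderOf t = 2 := by
  haveI : Fact (Nat.Prime 2) := ⟨Nat.prime_two⟩
  obtain ⟨⟨t, ht⟩, ho⟩ := exists_prime_orderOf_dvd_card' (G := ↥N) 2
    (even_iff_two_dvd.1 (Nat.not_odd_iff_even.1 h))
  exact ⟨t, ht, by rwa [Subgroup.orderOf_mk] at ho⟩

/-- An involution in a normal subgroup brings all of them. -/
theorem all_mem {Q : Subgroup X}
    (htr : ∀ a b : X, orderOf a = 2 → orderOf b = 2 → ∃ q ∈ Q, q * a * q⁻¹ = b)
    {N : Subgroup X} [hN : N.Normal] {t : X} (ht : t ∈ N) (ho : orderOf t = 2) {b : X}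
    (hb : orderOf b = 2) : b ∈ N := by
  obtain ⟨q, -, rfl⟩ := htr t b ho hb
  exact hN.conj_mem t ht q

/-- If the 2-core is not trivial the group is 2-closed. -/
theorem sylow_normal (h : AbTwo X) (h0 : Cfsg.oddCore X = ⊥)
    (hall : ∀ t : X, orderOf t = 2 → t ∈ Cfsg.pCore 2 X) (S : Sylow 2 X) :
    (S : Subgroup X).Normal := by
  haveI : Fact (Nat.Prime 2) := ⟨Nat.prime_two⟩
  haveI : (Cfsg.pCore 2 X).Normal := inferInstance
  set C := centralizer (Cfsg.pCore 2 X : Set X) with hC
  haveI : C.Normal := inferInstance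
  have hSC : (S : Subgroup X) ≤ C := fun s hs => mem_centralizer_iff.2 fun z hz =>
    (h _ S.2 z (Agent.Cores.pCore_le_sylow S hz) s hs).eq
  set S' := S.subtype hSC with hS'
  have hfix : ∀ y ∈ normalizer ((S' : Subgroup ↥C) : Set ↥C), Odd (orderOf y) →
      ∀ s ∈ (S' : Subgroup ↥C), Commute y s := by
    intro y hy ho
    refine commute_of_omega S'.2 (h.subgroup C _ S'.2) hy ho fun x hx hxx => ?_
    rcases eq_or_ne x 1 with rfl | hx1
    · exact Commute.one_right y
    have hx2 : orderOf (x : X) = 2 := orderOf_eq_prime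
      (by rw [pow_two]; exact congrArg Subtype.val hxx) fun e => hx1 (Subtype.ext e)
    exact Subtype.ext (mem_centralizer_iff.1 y.2 _ (hall _ hx2)).symm
  obtain ⟨P, N, hNn, hN⟩ :=
    Transfer.NormalPComplement.hasNormalPComplement_of_normalizer_le_centralizer S'
      (normalizer_le_centralizer_of_odd (h.subgroup C) S' hfix)
  have hNodd : Odd (Nat.card ↥N) := by
    rw [Nat.odd_iff, ← Nat.two_dvd_ne_zero]
    intro hd
    exact P.not_dvd_index (hN.index_eq_card ▸ hd)
  have hle : (Cfsg.oddCore ↥C).map C.subtype ≤ Cfsg.oddCore X :=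
    Agent.Cores.map_pPrimeCore_subtype_le 2 C
  haveI := hNn
  have hN1 : N = ⊥ := by
    have := (Subgroup.map_mono (f := C.subtype) (Agent.Cores.le_oddCore hNodd)).trans hle
    rw [h0, le_bot_iff, Subgroup.map_eq_bot_iff_of_injective _ C.subtype_injective] at this
    exact this
  rw [hN1, Subgroup.isComplement'_bot_left] at hN
  have htop : (S' : Subgroup ↥C) = ⊤ := by
    refine Subgroup.eq_top_of_card_eq _ ?_
    rw [Nat.card_congr (S'.equiv P).toEquiv, hN, Subgroup.card_top]
  have hSeq : (S : Subgroup X) = C := le_antisymm hSC fun c hc => by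
    have : (⟨c, hc⟩ : ↥C) ∈ (S' : Subgroup ↥C) := htop ▸ mem_top _
    rwa [hS', Sylow.coe_subtype, mem_subgroupOf] at this
  rw [hSeq]
  infer_instance

/-- A 2-closed group, or an almost simple one. -/
theorem closed_or_simple (h : AbTwo X) (h0 : Cfsg.oddCore X = ⊥) {Q : Subgroup X}
    (htr : ∀ a b : X, orderOf a = 2 → orderOf b = 2 → ∃ q ∈ Q, q * a * q⁻¹ = b) :
    (∀ S : Sylow 2 X, (S : Subgroup X).Normal) ∨
      ∃ T : Subgroup X, T.Normal ∧ IsSimpleGroup ↥T ∧ ¬ IsMulCommutative ↥T ∧
        centralizer (T : Set X) = ⊥ ∧ ∀ t : X, orderOf t = 2 → t ∈ T := by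
  haveI : Fact (Nat.Prime 2) := ⟨Nat.prime_two⟩
  by_cases hp : Cfsg.pCore 2 X = ⊥
  swap
  · left
    intro S
    refine sylow_normal h h0 (fun b hb => ?_) S
    have hne : ¬ Odd (Nat.card ↥(Cfsg.pCore 2 X)) := by
      obtain ⟨k, hk⟩ := IsPGroup.iff_card.1 (Agent.Cores.pCore_isPGroup (G := X) 2)
      intro ho
      rcases Nat.eq_zero_or_pos k with rfl | hk0
      · exact hp (Subgroup.card_eq_one.1 (by simpa using hk))
      · exact Nat.not_odd_iff_even.2 (hk ▸ (Nat.even_pow.2 ⟨even_two, hk0.ne'⟩)) ho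
    obtain ⟨t, ht, ho⟩ := exists_involution_of_not_odd hne
    exact all_mem htr ht ho hb
  by_cases hodd : Odd (Nat.card X)
  · left
    intro S
    have : (S : Subgroup X) = ⊥ := by
      by_contra hne
      obtain ⟨k, hk⟩ := IsPGroup.iff_card.1 S.2
      rcases Nat.eq_zero_or_pos k with rfl | hk0
      · exact hne (Subgroup.card_eq_one.1 (by simpa using hk))
      · exact Nat.not_odd_iff_even.2 (hk ▸ (Nat.even_pow.2 ⟨even_two, hk0.ne'⟩))
          (hodd.of_dvd_nat (S : Subgroup X).card_subgroup_dvd_card)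
    rw [this]
    infer_instance
  right
  obtain ⟨t₀, -, ht₀⟩ := exists_involution_of_not_odd (N := (⊤ : Subgroup X)) (by rwa [Subgroup.card_top])
  have hne : (⊤ : Subgroup X) ≠ ⊥ := fun e => by
    have : t₀ ∈ (⊥ : Subgroup X) := e ▸ mem_top t₀
    rw [mem_bot] at this
    rw [this, orderOf_one] at ht₀
    omega
  obtain ⟨N, hNn, -, hN0, hNmin⟩ := Hall.exists_minimal_normal (⊤ : Subgroup X) hne
  haveI := hNn
  have hNodd : ¬ Odd (Nat.card ↥N) := fun ho => hN0 (le_bot_iff.1 (h0 ▸ Agent.Cores.le_oddCore ho))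
  obtain ⟨t₁, ht₁, ho₁⟩ := exists_involution_of_not_odd hNodd
  have hall : ∀ t : X, orderOf t = 2 → t ∈ N := fun b hb => all_mem htr ht₁ ho₁ hb
  have hZN : ∀ y ∈ N, (∀ z ∈ N, y * z = z * y) → y = 1 := by
    -- the centre of `N` is a normal abelian subgroup
    intro y hy hc
    have hM : ((center ↥N).map N.subtype).Normal := Agent.Cores.normal_map_subtype N (center ↥N)
    rcases hNmin _ hM (map_subtype_le _) with e | e
    · have : y ∈ (center ↥N).map N.subtype :=
        ⟨⟨y, hy⟩, mem_center_iff.2 fun g => Subtype.ext (hc g g.2).symm, rfl⟩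
      rw [e, mem_bot] at this
      exact this
    · exfalso
      have habel : ∀ a ∈ N, ∀ b ∈ N, Commute a b := by
        intro a ha b hb
        obtain ⟨a', ha', rfl⟩ : a ∈ (center ↥N).map N.subtype := by rw [e]; exact ha
        exact congrArg Subtype.val (mem_center_iff.1 ha' ⟨b, hb⟩).symm
      haveI : IsMulCommutative ↥N := ⟨⟨fun a b => Subtype.ext (habel a a.2 b b.2).eq⟩⟩
      obtain ⟨R⟩ : Nonempty (Sylow 2 ↥N) := inferInstance
      haveI : (R : Subgroup ↥N).Normal := inferInstance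
      have hR : (R : Subgroup ↥N).Characteristic := R.characteristic_of_normal inferInstance
      have hR2 : ((R : Subgroup ↥N).map N.subtype).Normal := Agent.Cores.normal_map_subtype N _
      have hle : (R : Subgroup ↥N).map N.subtype ≤ Cfsg.pCore 2 X :=
        Agent.Cores.le_pCore (R.2.map _)
      rw [hp, le_bot_iff, Subgroup.map_eq_bot_iff_of_injective _ N.subtype_injective] at hle
      exact R.ne_bot_of_dvd_card (even_iff_two_dvd.1 (Nat.not_odd_iff_even.1 hNodd)) hle
  -- a minimal normal subgroup of `N`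
  haveI : Nontrivial ↥N := (Subgroup.nontrivial_iff_ne_bot N).2 hN0
  obtain ⟨T₀, hT₀n, -, hT₀0, hT₀min⟩ := Hall.exists_minimal_normal (⊤ : Subgroup ↥N) top_ne_bot
  haveI := hT₀n
  have hN0' : Cfsg.oddCore ↥N = ⊥ := by
    have := Agent.Cores.map_pPrimeCore_subtype_le 2 N
    rw [show Cfsg.pPrimeCore 2 X = ⊥ from h0, le_bot_iff,
      Subgroup.map_eq_bot_iff_of_injective _ N.subtype_injective] at this
    exact this
  obtain ⟨t, ht, hto⟩ := exists_involution_of_not_odd (N := T₀) fun ho =>
    hT₀0 (le_bot_iff.1 (hN0' ▸ Agent.Cores.le_oddCore ho))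
  -- conjugation by `g` on `N`
  let cj : X → (↥N ≃* ↥N) := fun g => MulAut.conjNormal g
  have hcjT : ∀ g, (T₀.map (cj g).toMonoidHom).Normal := fun g =>
    Subgroup.Normal.map hT₀n _ (cj g).surjective
  have hdisj : ∀ U : Subgroup ↥N, U.Normal → ¬ U = T₀ → (∀ V : Subgroup ↥N, V.Normal → V ≤ U → V = ⊥ ∨ V = U) →
      U ⊓ T₀ = ⊥ := by
    intro U hU hne' hmin
    haveI := hU
    rcases hT₀min (U ⊓ T₀) inferInstance inf_le_right with e | e
    · exact e
    · rcases hmin T₀ hT₀n (inf_eq_right.1 e) with e' | e'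
      · exact absurd e' hT₀0
      · exact absurd e'.symm hne'
  have hmin_map : ∀ g, ∀ V : Subgroup ↥N, V.Normal → V ≤ T₀.map (cj g).toMonoidHom →
      V = ⊥ ∨ V = T₀.map (cj g).toMonoidHom := by
    intro g V hV hle
    have hV' : (V.comap (cj g).toMonoidHom).Normal := hV.comap _
    rcases hT₀min _ hV' (fun x hx => by
      obtain ⟨y, hy, e⟩ := hle hx
      rwa [← (cj g).injective e]) with e | e
    · left
      rw [← Subgroup.map_comap_eq_self_of_surjective (f := (cj g).toMonoidHom) (cj g).surjective V, e,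
        Subgroup.map_bot]
    · right
      rw [← Subgroup.map_comap_eq_self_of_surjective (f := (cj g).toMonoidHom) (cj g).surjective V, e]
  have hconjT : ∀ g : X, T₀.map (cj g).toMonoidHom = T₀ := by
    intro g
    by_contra hne'
    set U := T₀.map (cj g).toMonoidHom with hU
    have hd := hdisj U (hcjT g) hne' (hmin_map g)
    haveI := hcjT g
    have hcomm : ∀ a ∈ U, ∀ b ∈ T₀, Commute a b := fun a ha b hb =>
      Subgroup.commute_of_normal_of_disjoint U T₀ (hcjT g) hT₀n (disjoint_iff.2 hd) a b ha hb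
    set t' := cj g t with ht'
    have ht'U : t' ∈ U := ⟨t, ht, rfl⟩
    have ht'o : orderOf t' = 2 := by rw [ht', MulEquiv.orderOf_eq, hto]
    have hne1 : t' * t ≠ 1 := fun e => by
      have h1 : t' = t⁻¹ := mul_eq_one_iff_eq_inv.1 e
      have : t' ∈ U ⊓ T₀ := ⟨ht'U, by rw [h1]; exact T₀.inv_mem ht⟩
      rw [hd, mem_bot] at this
      rw [this, orderOf_one] at ht'o
      omega
    have hc := hcomm t' ht'U t ht
    have hoo : orderOf ((t' * t : ↥N) : X) = 2 := by
      rw [Subgroup.orderOf_coe]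
      refine orderOf_eq_prime ?_ hne1
      have e1 : t' ^ 2 = 1 := ht'o ▸ pow_orderOf_eq_one t'
      have e2 : t ^ 2 = 1 := hto ▸ pow_orderOf_eq_one t
      rw [hc.mul_pow, e1, e2, one_mul]
    obtain ⟨q, -, hq⟩ := htr (t : X) _ (by rw [Subgroup.orderOf_coe, hto]) hoo
    set W := T₀.map (cj q).toMonoidHom with hW
    have hW' : t' * t ∈ W := ⟨t, ht, Subtype.ext (by
      show ((MulAut.conjNormal q t : ↥N) : X) = _
      rw [MulAut.conjNormal_apply]; exact hq)⟩
    have hWT : W = T₀ := by
      by_contra hne''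
      have hd' := hdisj W (hcjT q) hne'' (hmin_map q)
      have hcW : ∀ b ∈ T₀, Commute (t' * t) b := fun b hb =>
        Subgroup.commute_of_normal_of_disjoint W T₀ (hcjT q) hT₀n (disjoint_iff.2 hd') _ b hW' hb
      -- so `t` is central in `T₀`
      have htc : ∀ b ∈ T₀, Commute t b := fun b hb => by
        have := ((hcomm t' ht'U b hb).inv_left).mul_left (hcW b hb)
        rwa [inv_mul_cancel_left] at this
      haveI : T₀.Normal := hT₀n
      have hZn : ((center ↥T₀).map T₀.subtype).Normal := Agent.Cores.normal_map_subtype T₀ (center ↥T₀)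
      rcases hT₀min _ hZn (map_subtype_le _) with e | e
      · have : t ∈ (center ↥T₀).map T₀.subtype :=
          ⟨⟨t, ht⟩, mem_center_iff.2 fun b => Subtype.ext (htc b b.2).symm.eq, rfl⟩
        rw [e, mem_bot] at this
        rw [this, orderOf_one] at hto
        omega
      · haveI : IsMulCommutative ↥T₀ := ⟨⟨fun a b => by
          obtain ⟨a', ha', ea⟩ : (a : ↥N) ∈ (center ↥T₀).map T₀.subtype := by rw [e]; exact a.2
          rw [show a = a' from Subtype.ext ea.symm]
          exact (mem_center_iff.1 ha' b).symm⟩⟩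
        obtain ⟨R⟩ : Nonempty (Sylow 2 ↥T₀) := inferInstance
        haveI : (R : Subgroup ↥T₀).Normal := inferInstance
        have hR : (R : Subgroup ↥T₀).Characteristic := R.characteristic_of_normal inferInstance
        have hR2 : ((R : Subgroup ↥T₀).map T₀.subtype).Normal := Agent.Cores.normal_map_subtype T₀ _
        have hle : (R : Subgroup ↥T₀).map T₀.subtype ≤ Cfsg.pCore 2 ↥N :=
          Agent.Cores.le_pCore (R.2.map _)
        have hle' := (Subgroup.map_mono (f := N.subtype) hle).trans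
          (Agent.Cores.map_pCore_subtype_le 2 N)
        rw [hp, le_bot_iff, Subgroup.map_eq_bot_iff_of_injective _ N.subtype_injective,
          Subgroup.map_eq_bot_iff_of_injective _ T₀.subtype_injective] at hle'
        have hdvd : 2 ∣ Nat.card ↥T₀ := by
          have := Subgroup.orderOf_dvd_natCard T₀ ht
          rwa [hto] at this
        exact R.ne_bot_of_dvd_card hdvd hle'
    have : t' ∈ U ⊓ T₀ := ⟨ht'U, by
      have h2 : t' * t ∈ T₀ := hWT ▸ hW'
      simpa using mul_mem h2 (inv_mem ht)⟩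
    rw [hd, mem_bot] at this
    rw [this, orderOf_one] at ht'o
    omega
  have hTn : (T₀.map N.subtype).Normal := ⟨fun x hx g => by
    obtain ⟨y, hy, rfl⟩ := hx
    refine ⟨cj g y, ?_, MulAut.conjNormal_apply g y⟩
    rw [← hconjT g]
    exact ⟨y, hy, rfl⟩⟩
  have hT₀top : T₀ = ⊤ := by
    rcases hNmin _ hTn (map_subtype_le _) with e | e
    · exact absurd ((Subgroup.map_eq_bot_iff_of_injective _ N.subtype_injective).1 e) hT₀0
    · refine (eq_top_iff' T₀).2 fun y => ?_
      obtain ⟨z, hz, ez⟩ : (y : X) ∈ T₀.map N.subtype := e.symm ▸ y.2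
      rwa [show y = z from Subtype.ext ez.symm]
  haveI hsimple : IsSimpleGroup ↥N := ⟨fun K hK => by
    rcases hT₀min K hK (hT₀top ▸ le_top) with e | e
    · exact Or.inl e
    · exact Or.inr (e.trans hT₀top)⟩
  refine ⟨N, hNn, hsimple, ?_, ?_, hall⟩
  · intro hab
    refine hN0 ((Subgroup.eq_bot_iff_forall N).2 fun y hy => hZN y hy fun z hz => ?_)
    exact congrArg Subtype.val (hab.is_comm.comm ⟨y, hy⟩ ⟨z, hz⟩)
  · haveI : (centralizer (N : Set X)).Normal := inferInstance
    refine le_bot_iff.1 (h0 ▸ Agent.Cores.le_oddCore (Nat.odd_iff.2 ?_))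
    by_contra hev
    obtain ⟨y, hy, hyo⟩ := exists_involution_of_not_odd
      (N := centralizer (N : Set X)) (fun ho => hev (Nat.odd_iff.1 ho))
    have := hZN y (hall y hyo) fun z hz => (mem_centralizer_iff.1 hy z hz).symm
    rw [this, orderOf_one] at hyo
    omega

end Cfsg.Agent.Walter.OddTransitive
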