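import Mathlib
import Cfsg.Agent.Lib.Walter.OddTransitive
import Cfsg.Agent.Lib.Forms.DicksonList
import Cfsg.Agent.Lib.Forms.DicksonCor
import Cfsg.Agent.Lib.Classical.Linear
import Cfsg.Agent.S0276
import Cfsg.Agent.S2507
import Cfsg.Agent.S2602

/-!
# An odd subgroup transitive on the involutions: the linear components

In an almost simple group with socle `PSL(2, 2^n)` no subgroup of odd order is transitive on the
involutions; a socle `PSL(2, q)`, `q = 3, 5 mod 8`, has no elementary abelian subgroup of order 8.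
-/

set_option autoImplicit false
set_option linter.style.haveILetI false
set_option linter.unusedSectionVars false

namespace Cfsg.Agent.Walter.OddTransitive

open Subgroup
open Cfsg.Agent.SEAbelian
open Cfsg.Agent.Forms

universe u

section Odd

variable {F : Type} [Field F] [Fintype F]

local notation "PG" => Matrix.ProjectiveSpecialLinearGroup (Fin 2) F

/-- Odd subgroups of `PSL(2, 2^n)` are small. -/
theorem odd_subgroup_le (h2 : 2 ∣ Fintype.card F) (H : Subgroup PG) (hH : Odd (Nat.card ↥H)) :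
    Nat.card ↥H ≤ Fintype.card F + 1 := by
  obtain ⟨p, hp⟩ := CharP.exists F
  obtain ⟨n, hpp, hn⟩ := FiniteField.card F p
  haveI : Fact p.Prime := ⟨hpp⟩
  have h1 := Fintype.one_lt_card (α := F)
  have hg : Nat.gcd 2 (Fintype.card F - 1) = 1 := by
    refine (Nat.prime_two.coprime_iff_not_dvd.2 fun h => ?_)
    omega
  have hev : ∀ m : ℕ, 2 ∣ Nat.card ↥H * m → Odd m → False := fun m h hm =>
    Nat.not_even_iff_odd.2 (hH.mul hm) (even_iff_two_dvd.2 h)
  rcases DicksonList.classify p H with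
    ⟨g, -, hg', ⟨-, hc⟩ | ⟨⟨e⟩⟩⟩ | ⟨w, hw, hfix⟩ | ⟨⟨e⟩⟩ | ⟨⟨e⟩⟩ | ⟨⟨e⟩⟩ | ⟨K, _, _, m, hm, h⟩
  · rw [hc]
    rcases DicksonList.order_dvd p g hg' with h | h <;> rw [hg, Nat.div_one] at h
    · exact Nat.le_of_dvd (by omega) h
    · exact (Nat.le_of_dvd (by omega) h).trans (by omega)
  · exfalso
    rw [Nat.card_congr e.toEquiv, DihedralGroup.nat_card] at hH
    exact Nat.not_odd_iff_even.2 (even_two_mul _) hH
  · have hle : H ≤ MulAction.stabilizer PG w := fun g hg => hfix g hg
    have hidx := DicksonCor.index_stabilizer_of_pSub p hw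
    have hmul := (MulAction.stabilizer PG w).card_mul_index
    have hG := DicksonCor.gcd_mul_natCard (F := F)
    rw [hg, one_mul] at hG
    rw [hidx, hG, ← mul_assoc] at hmul
    have hst := Nat.eq_of_mul_eq_mul_right (by omega) hmul
    have hd : Nat.card ↥H ∣ Fintype.card F * (Fintype.card F - 1) := hst ▸ card_dvd_of_le hle
    have hcop : (Nat.card ↥H).Coprime (Fintype.card F) := by
      have hp2 : p = 2 := ((Nat.prime_dvd_prime_iff_eq Nat.prime_two hpp).1
        (Nat.prime_two.dvd_of_dvd_pow (hn ▸ h2))).symm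
      rw [hn, hp2]
      exact (Nat.coprime_two_right.2 hH).pow_right _
    exact (Nat.le_of_dvd (by omega) (hcop.dvd_of_dvd_mul_left hd)).trans (by omega)
  · exfalso
    refine hev 1 ?_ odd_one
    rw [Nat.card_congr e.toEquiv, nat_card_alternatingGroup, Nat.card_eq_fintype_card, Fintype.card_fin]
    decide
  · exfalso
    refine hev 1 ?_ odd_one
    rw [Nat.card_congr e.toEquiv, Nat.card_perm, Nat.card_eq_fintype_card, Fintype.card_fin]
    decide
  · exfalso
    refine hev 1 ?_ odd_one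
    rw [Nat.card_congr e.toEquiv, nat_card_alternatingGroup, Nat.card_eq_fintype_card, Fintype.card_fin]
    decide
  · exfalso
    have hK := Classical.SmallIso.natCard_pslTwo K
    rw [Classical.GL2.natCard_SL_two] at hK
    have hKeven : 2 ∣ Fintype.card K := Nat.prime_two.dvd_of_dvd_pow (hm.symm ▸ h2)
    refine hev 1 ?_ odd_one
    rw [mul_one]
    rcases h with h | h <;> obtain ⟨e⟩ := h
    · have hgK : Nat.gcd 2 (Fintype.card K - 1) = 1 := by
        refine (Nat.prime_two.coprime_iff_not_dvd.2 fun h => ?_)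
        have := Fintype.one_lt_card (α := K)
        omega
      rw [hgK, one_mul] at hK
      rw [Nat.card_congr e.toEquiv, hK]
      exact Dvd.dvd.mul_right hKeven _
    · rw [Nat.card_congr e.toEquiv, Classical.Linear.natCard_PGL, Classical.GL2.natCard_SL_two]
      exact Dvd.dvd.mul_right hKeven _

/-- An involution of `PSL(2, 2^n)` has `q ^ 2 - 1` conjugates. -/
theorem exists_involution_index (h2 : 2 ∣ Fintype.card F) (h4 : 4 ≤ Fintype.card F) :
    ∃ h : PG, orderOf h = 2 ∧ (centralizer ({h} : Set PG)).index = Fintype.card F ^ 2 - 1 := by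
  haveI : Fact (Nat.Prime 2) := ⟨Nat.prime_two⟩
  haveI : IsSimpleGroup PG := Classical.Linear.isSimpleGroup_PSL_fin le_rfl fun _ => h4
  set q := Fintype.card F with hq
  have hS := S2507.result (F := F) h2 h4
  rw [← hq] at hS
  obtain ⟨g, hg⟩ : q ^ 2 - 1 ∈ Set.range (fun g : PG => (centralizer ({g} : Set PG)).index) := by
    rw [hS]; simp
  simp only at hg
  have hq2 : 16 ≤ q ^ 2 := by nlinarith
  have hsq : q ^ 2 - 1 = (q - 1) * (q + 1) := by rw [mul_comm, ← Nat.sq_sub_sq, one_pow]
  have hG := DicksonCor.gcd_mul_natCard (F := F)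
  have hgcd : Nat.gcd 2 (Fintype.card F - 1) = 1 := by
    refine (Nat.prime_two.coprime_iff_not_dvd.2 fun h => ?_)
    omega
  rw [hgcd, one_mul, ← hq, ← hsq] at hG
  have hC : Nat.card ↥(centralizer ({g} : Set PG)) = q := by
    have := (centralizer ({g} : Set PG)).card_mul_index
    rw [hg, hG] at this
    exact Nat.eq_of_mul_eq_mul_right (by omega) this
  have hg1 : g ≠ 1 := by
    rintro rfl
    rw [Subgroup.centralizer_eq_top_iff_subset.2 (by simp), Subgroup.index_top] at hg
    omega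
  have ho : orderOf g ∣ q :=
    hC ▸ Subgroup.orderOf_dvd_natCard _ (mem_centralizer_singleton_iff.2 rfl)
  obtain ⟨p, hp⟩ := CharP.exists F
  obtain ⟨n, hpp, hn⟩ := FiniteField.card F p
  have hp2 : p = 2 := ((Nat.prime_dvd_prime_iff_eq Nat.prime_two hpp).1
    (Nat.prime_two.dvd_of_dvd_pow (show 2 ∣ p ^ (n : ℕ) by rw [← hn]; exact h2))).symm
  obtain ⟨k, -, hk⟩ := (Nat.dvd_prime_pow Nat.prime_two).1 (show orderOf g ∣ 2 ^ (n : ℕ) by
    have h := ho
    rw [hq, hn, hp2] at h
    exact h)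
  have hk0 : k ≠ 0 := fun e => hg1 (orderOf_eq_one_iff.1 (by rw [hk, e, pow_zero]))
  obtain ⟨k, rfl⟩ := Nat.exists_eq_succ_of_ne_zero hk0
  have hho : orderOf (g ^ 2 ^ k) = 2 := by
    rw [orderOf_pow' _ (pow_ne_zero _ two_ne_zero), hk,
      Nat.gcd_eq_right (pow_dvd_pow 2 (Nat.le_succ k)), pow_succ, Nat.mul_div_cancel_left _ (Nat.two_pow_pos k)]
  refine ⟨g ^ 2 ^ k, hho, ?_⟩
  have hle : centralizer ({g} : Set PG) ≤ centralizer ({g ^ 2 ^ k} : Set PG) := fun x hx =>
    mem_centralizer_singleton_iff.2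
      ((show Commute x g from mem_centralizer_singleton_iff.1 hx).pow_right _).eq
  have hdvd : (centralizer ({g ^ 2 ^ k} : Set PG)).index ∣ q ^ 2 - 1 := hg ▸ index_dvd_of_le hle
  have hmem : (centralizer ({g ^ 2 ^ k} : Set PG)).index ∈
      ({1, q * (q - 1), q ^ 2 - 1, q * (q + 1)} : Set ℕ) := hS ▸ ⟨_, rfl⟩
  have hqodd : ¬ 2 ∣ q ^ 2 - 1 := by
    obtain ⟨c, hc⟩ := dvd_pow h2 two_ne_zero
    omega
  simp only [Set.mem_insert_iff, Set.mem_singleton_iff] at hmem
  rcases hmem with e | e | e | e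
  · exfalso
    rw [Subgroup.index_eq_one, Subgroup.centralizer_eq_top_iff_subset, Set.singleton_subset_iff] at e
    rcases IsSimpleGroup.eq_bot_or_eq_top_of_normal (center PG) inferInstance with h | h
    · rw [h, SetLike.mem_coe, mem_bot] at e
      rw [e, orderOf_one] at hho
      omega
    · have : centralizer ({g} : Set PG) = ⊤ := (eq_top_iff' _).2 fun x =>
        mem_centralizer_singleton_iff.2 (mem_center_iff.1 (h ▸ mem_top g : g ∈ center PG) x)
      rw [this, Subgroup.index_top] at hg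
      omega
  · exact absurd ((h2.mul_right _).trans (e ▸ hdvd)) hqodd
  · exact e
  · exact absurd ((h2.mul_right _).trans (e ▸ hdvd)) hqodd

end Odd

variable {X : Type u} [Group X] [Finite X]

/-- No odd subgroup is transitive over `PSL(2, 2^n)`. -/
theorem not_trans_even {T : Subgroup X} [T.Normal] (hC : centralizer (T : Set X) = ⊥) {Q : Subgroup X}
    (hQ : Odd (Nat.card ↥Q))
    (htr : ∀ a b : X, orderOf a = 2 → orderOf b = 2 → ∃ q ∈ Q, q * a * q⁻¹ = b)
    {F : Type} [Field F] [Fintype F] {n : ℕ} (hn : 2 ≤ n) (hF : Fintype.card F = 2 ^ n)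
    (e : ↥T ≃* Matrix.ProjectiveSpecialLinearGroup (Fin 2) F) : False := by
  haveI : Fact (Nat.Prime 2) := ⟨Nat.prime_two⟩
  set P := Matrix.ProjectiveSpecialLinearGroup (Fin 2) F
  have h2 : 2 ∣ Fintype.card F := hF ▸ dvd_pow_self 2 (by omega)
  have h4 : 4 ≤ Fintype.card F := hF ▸ (show 2 ^ 2 ≤ 2 ^ n from Nat.pow_le_pow_right (by norm_num) hn)
  haveI : CharP F 2 := by
    have h : ringChar F = 2 := FiniteField.even_card_iff_char_two.2 (by omega)
    exact h ▸ ringChar.charP F
  -- the action of `X` on the socle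
  let ψ : X →* MulAut P := (MulAut.congr e).toMonoidHom.comp MulAut.conjNormal
  have hψ : ∀ (x : X) (y : P), ψ x y = e (MulAut.conjNormal x (e.symm y)) := fun x y => rfl
  have hψi : Function.Injective ψ := by
    refine (injective_iff_map_eq_one ψ).2 fun x hx => ?_
    have hmem : x ∈ centralizer (T : Set X) := mem_centralizer_iff.2 fun t ht => by
      have h1 : e (MulAut.conjNormal x (e.symm (e ⟨t, ht⟩))) = e ⟨t, ht⟩ := by
        rw [← hψ, hx]; rfl
      rw [e.symm_apply_apply] at h1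
      have h2 := congrArg Subtype.val (e.injective h1)
      rw [MulAut.conjNormal_apply] at h2
      exact (mul_inv_eq_iff_eq_mul.1 h2).symm
    rwa [hC, mem_bot] at hmem
  have hψT : ∀ t : ↥T, ψ t = MulAut.conj (e t) := fun t => MulEquiv.ext fun y => by
    rw [hψ, MulAut.conj_apply]
    have : MulAut.conjNormal (t : X) (e.symm y) = t * e.symm y * t⁻¹ := Subtype.ext (by simp)
    rw [this, map_mul, map_mul, map_inv, e.apply_symm_apply]
  let χ : ↥Q →* Cfsg.Out P := ((QuotientGroup.mk' (Cfsg.Inn P)).comp ψ).comp Q.subtype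
  have hker : χ.ker ≤ (T.subgroupOf Q) := by
    intro x hx
    rw [MonoidHom.mem_ker] at hx
    obtain ⟨y, hy⟩ := MonoidHom.mem_range.1 ((QuotientGroup.eq_one_iff (ψ (x : X))).1 hx)
    have hxy : ψ (x : X) = ψ (e.symm y : X) := by rw [hψT, e.apply_symm_apply]; exact hy.symm
    rw [mem_subgroupOf, hψi hxy]
    exact SetLike.coe_mem _
  -- the outer part
  obtain ⟨φ, hφs, -, hφk⟩ := S2602.result (F := F) (p := 2) (f := n) (by omega) hF (hF ▸ h4)
  have hg : Nat.gcd 2 (2 ^ n - 1) = 1 := by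
    refine (Nat.prime_two.coprime_iff_not_dvd.2 fun h => ?_)
    have := dvd_pow_self 2 (show n ≠ 0 by omega)
    have := Nat.two_pow_pos n
    omega
  rw [hg] at hφk
  haveI : NeZero n := ⟨by omega⟩
  have hout : Nat.card (Cfsg.Out P) ≤ n := by
    have hinj : Function.Injective φ := (MonoidHom.ker_eq_bot_iff φ).1 (Subgroup.card_eq_one.1 hφk)
    have := Nat.card_le_card_of_injective φ hinj
    rwa [Nat.card_congr Multiplicative.toAdd, Nat.card_zmod] at this
  haveI : Finite (Cfsg.Out P) := Quotient.finite _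
  -- the inner part
  have hinner : Nat.card ↥(T.subgroupOf Q) ≤ Fintype.card F + 1 := by
    let K : Subgroup P := ((T ⊓ Q).subgroupOf T).map e.toMonoidHom
    have hK : Nat.card ↥K = Nat.card ↥(T ⊓ Q) := by
      rw [Subgroup.card_map_of_injective e.injective, Nat.card_congr (subgroupOfEquivOfLe inf_le_left).toEquiv]
    have h1 := odd_subgroup_le h2 K (hK ▸ hQ.of_dvd_nat (card_dvd_of_le inf_le_right))
    rw [← inf_subgroupOf_right, Nat.card_congr (subgroupOfEquivOfLe inf_le_right).toEquiv, ← hK]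
    exact h1
  have hQle : Nat.card ↥Q ≤ (Fintype.card F + 1) * n := by
    rw [← χ.ker.card_mul_index, Subgroup.index_ker]
    exact Nat.mul_le_mul ((card_le_of_le hker).trans hinner)
      ((Subgroup.card_le_card_group χ.range).trans hout)
  -- the orbit
  obtain ⟨h, ho, hidx⟩ := exists_involution_index h2 h4
  have hord : ∀ y : P, orderOf ((e.symm (y * h * y⁻¹) : ↥T) : X) = 2 := fun y => by
    rw [Subgroup.orderOf_coe, MulEquiv.orderOf_eq, ← MulAut.conj_apply, MulEquiv.orderOf_eq, ho]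
  have h0 : orderOf ((e.symm h : ↥T) : X) = 2 := by rw [Subgroup.orderOf_coe, MulEquiv.orderOf_eq, ho]
  choose f hf hfq using fun y : P => htr _ _ h0 (hord y)
  have hle : (centralizer ({h} : Set P)).index ≤ Nat.card ↥Q := by
    refine Nat.card_le_card_of_injective
      (fun c : P ⧸ centralizer ({h} : Set P) => (⟨f c.out, hf c.out⟩ : ↥Q)) fun a b hab => ?_
    have hab' : f a.out = f b.out := congrArg Subtype.val hab
    have h1 := hfq a.out
    rw [hab', hfq b.out] at h1
    have h2 := e.symm.injective (Subtype.ext h1)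
    rw [← a.out_eq, ← b.out_eq]
    refine QuotientGroup.eq.2 (mem_centralizer_singleton_iff.2 ?_)
    calc a.out⁻¹ * b.out * h = a.out⁻¹ * (b.out * h * b.out⁻¹) * b.out := by group
      _ = a.out⁻¹ * (a.out * h * a.out⁻¹) * b.out := by rw [h2]
      _ = h * (a.out⁻¹ * b.out) := by group
  rw [hidx] at hle
  have hsq : Fintype.card F ^ 2 - 1 = (Fintype.card F + 1) * (Fintype.card F - 1) := by
    rw [← Nat.sq_sub_sq, one_pow]
  rw [hsq] at hle
  have hqn : Fintype.card F - 1 ≤ n := Nat.le_of_mul_le_mul_left (hle.trans hQle) (by omega)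
  have : ∀ m, 2 ≤ m → m + 1 < 2 ^ m := by
    intro m hm
    induction m, hm using Nat.le_induction with
    | base => norm_num
    | succ m _ ih => rw [pow_succ]; omega
  have := this n hn
  omega

/-- No elementary abelian subgroup of order 8 in `PSL(2, q)`, `q = 3, 5 mod 8`. -/
theorem not_eight_odd {T : Subgroup X} {A : Subgroup X} (hAT : A ≤ T)
    (hA : Cfsg.IsElementaryAbelian 2 A) (h8 : 8 ≤ Nat.card ↥A)
    {F : Type} [Field F] [Fintype F] (hq : Fintype.card F % 8 = 3 ∨ Fintype.card F % 8 = 5)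
    (e : ↥T ≃* Matrix.ProjectiveSpecialLinearGroup (Fin 2) F) : False := by
  haveI : Fact (Nat.Prime 2) := ⟨Nat.prime_two⟩
  let K : Subgroup (Matrix.ProjectiveSpecialLinearGroup (Fin 2) F) := (A.subgroupOf T).map e.toMonoidHom
  have hK : Nat.card ↥K = Nat.card ↥A := by
    rw [Subgroup.card_map_of_injective e.injective, Nat.card_congr (subgroupOfEquivOfLe hAT).toEquiv]
  have hA2 : IsPGroup 2 ↥A := fun a => ⟨1, Subtype.ext (by simpa using hA.2 a a.2)⟩
  have hK2 : IsPGroup 2 ↥K := ((hA2.comap_subtype).map _)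
  obtain ⟨P, hP⟩ := hK2.exists_le_sylow
  haveI := S0276.result (F := F) rfl hq P
  have := card_le_of_le hP
  rw [hK] at this
  have h4 : Nat.card ↥(P : Subgroup (Matrix.ProjectiveSpecialLinearGroup (Fin 2) F)) = 4 :=
    IsKleinFour.card_four
  omega

/-- Step 2: an odd subgroup transitive on the involutions forces 2-closure when the only possible
socles are linear. -/
theorem normalizer_two_closed (h : AbTwo X) (h0 : Cfsg.oddCore X = ⊥) {Q : Subgroup X}
    (hQ : Odd (Nat.card ↥Q))
    (htr : ∀ a b : X, orderOf a = 2 → orderOf b = 2 → ∃ q ∈ Q, q * a * q⁻¹ = b)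
    {A : Subgroup X} (hA : Cfsg.IsElementaryAbelian 2 A) (h8 : 8 ≤ Nat.card ↥A)
    (hcases : ∀ T : Subgroup X, T.Normal → IsSimpleGroup ↥T → ¬ IsMulCommutative ↥T →
      centralizer (T : Set X) = ⊥ → (∀ t : X, orderOf t = 2 → t ∈ T) →
        ∃ (F : Type) (_ : Field F) (_ : Fintype F),
          ((∃ n : ℕ, 2 ≤ n ∧ Fintype.card F = 2 ^ n) ∨ Fintype.card F % 8 = 3 ∨ Fintype.card F % 8 = 5) ∧
            Nonempty (↥T ≃* Matrix.ProjectiveSpecialLinearGroup (Fin 2) F))
    (S : Sylow 2 X) : (S : Subgroup X).Normal := by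
  rcases closed_or_simple h h0 htr with hn | ⟨T, hTn, hTs, hTc, hC, hall⟩
  · exact hn S
  exfalso
  haveI := hTn
  obtain ⟨F, i1, i2, hF, ⟨e⟩⟩ := hcases T hTn hTs hTc hC hall
  rcases hF with ⟨n, hn, hF⟩ | hq
  · exact not_trans_even hC hQ htr hn hF e
  · refine not_eight_odd (fun a ha => ?_) hA h8 hq e
    rcases eq_or_ne a 1 with rfl | h1
    · exact T.one_mem
    · exact hall a (orderOf_eq_prime (by simpa using hA.2 a ha) h1)

end Cfsg.Agent.Walter.OddTransitive
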