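import Cfsg.Agent.Lib.Walter.RowsConditional
import Cfsg.Agent.Lib.ZStar.Consequences
import Cfsg.Agent.Lib.Classical.CyclicExt

/-!
# S0993 from the inputs: Sylow 2-subgroups of order eight
-/

set_option autoImplicit false
set_option linter.unusedSectionVars false
set_option linter.style.haveILetI false

open Subgroup

namespace Cfsg.Agent.Walter

universe u

/-- A non-abelian group of order eight is dihedral or quaternion. -/
theorem dihedral_or_quaternion {C : Type*} [Group C] [Finite C] (h8 : Nat.card C = 8)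
    (hna : ¬ ∀ a b : C, a * b = b * a) :
    Nonempty (C ≃* DihedralGroup 4) ∨ Nonempty (C ≃* QuaternionGroup 2) := by
  haveI : Fact (Nat.Prime 2) := ⟨Nat.prime_two⟩
  have hord : ∀ x : C, orderOf x = 1 ∨ orderOf x = 2 ∨ orderOf x = 4 := fun x => by
    obtain ⟨i, hi, e⟩ := (Nat.dvd_prime_pow Nat.prime_two).1
      (show orderOf x ∣ 2 ^ 3 from (show Nat.card C = 2 ^ 3 from h8) ▸ orderOf_dvd_natCard x)
    interval_cases i
    · exact Or.inl e
    · exact Or.inr (Or.inl e)
    · exact Or.inr (Or.inr e)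
    · exfalso
      haveI : IsCyclic C := isCyclic_of_orderOf_eq_card x (by rw [e, h8]; norm_num)
      exact hna fun a b => IsCyclic.isMulCommutative.is_comm.comm a b
  obtain ⟨r, hr⟩ : ∃ r : C, orderOf r = 4 := by
    by_contra hcon
    push Not at hcon
    have hinv : ∀ x : C, x * x = 1 := fun x => by
      rcases hord x with e | e | e
      · rw [orderOf_eq_one_iff.1 e, one_mul]
      · rw [← pow_two]; exact orderOf_dvd_iff_pow_eq_one.1 e.dvd
      · exact absurd e (hcon x)
    refine hna fun a b => ?_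
    calc a * b = (a * b)⁻¹ := (inv_eq_of_mul_eq_one_right (hinv _)).symm
      _ = b * a := by rw [mul_inv_rev, inv_eq_of_mul_eq_one_right (hinv a), inv_eq_of_mul_eq_one_right (hinv b)]
  have hidx : (zpowers r).index = 2 := by
    have := (zpowers r).card_mul_index
    rw [Nat.card_zpowers, hr, h8] at this
    omega
  obtain ⟨s, hs⟩ : ∃ s : C, s ∉ zpowers r := by
    by_contra hcon
    push Not at hcon
    rw [show zpowers r = ⊤ from eq_top_iff.2 fun x _ => hcon x, index_top] at hidx
    omega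
  haveI : (zpowers r).Normal := normal_of_index_eq_two hidx
  have hcases : ∀ x ∈ zpowers r, x = 1 ∨ x = r ∨ x = r ^ 2 ∨ x = r ^ 3 := fun x hx => by
    classical
    rw [mem_zpowers_iff_mem_range_orderOf, hr] at hx
    simp only [Finset.mem_image, Finset.mem_range] at hx
    obtain ⟨i, hi, rfl⟩ := hx
    interval_cases i <;> simp
  have hne : s * r ≠ r * s := fun e => by
    refine hna fun a b => ?_
    have hall : ∀ x : C, ∃ k : ℤ, x = r ^ k ∨ x = s * r ^ k := fun x => by
      by_cases hx : x ∈ zpowers r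
      · obtain ⟨k, hk⟩ := hx
        exact ⟨k, Or.inl hk.symm⟩
      · obtain ⟨k, hk⟩ : s⁻¹ * x ∈ zpowers r := by
          rw [Subgroup.mul_mem_iff_of_index_two hidx]
          exact ⟨fun h => absurd (inv_mem_iff.1 h) hs, fun h => absurd h hx⟩
        exact ⟨k, Or.inr (by rw [show r ^ k = s⁻¹ * x from hk, mul_inv_cancel_left])⟩
    have hc : ∀ k : ℤ, Commute s (r ^ k) := fun k => (show Commute s r from e).zpow_right k
    obtain ⟨i, hi | hi⟩ := hall a <;> obtain ⟨j, hj | hj⟩ := hall b <;> subst hi hj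
    · exact (Commute.zpow_zpow_self r i j).eq
    · exact ((hc i).symm.mul_right (Commute.zpow_zpow_self r i j)).eq
    · exact ((hc j).mul_left (Commute.zpow_zpow_self r i j)).eq
    · exact (((Commute.refl s).mul_right (hc j)).mul_left
        ((hc i).symm.mul_right (Commute.zpow_zpow_self r i j))).eq
  have hconj : s * r * s⁻¹ = r⁻¹ := by
    have ho : orderOf (s * r * s⁻¹) = 4 := by rw [← hr]; exact (MulAut.conj s).orderOf_eq r
    rcases hcases _ ((inferInstance : (zpowers r).Normal).conj_mem r (mem_zpowers r) s) with e | e | e | e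
    · rw [e, orderOf_one] at ho; omega
    · exact absurd (mul_inv_eq_iff_eq_mul.1 e) hne
    · rw [e, orderOf_pow' _ (by norm_num), hr] at ho
      norm_num at ho
    · rw [e]
      refine (inv_eq_of_mul_eq_one_right ?_).symm
      rw [← pow_succ', orderOf_dvd_iff_pow_eq_one.1 hr.dvd]
  have hss : s * s ∈ zpowers r := (Subgroup.mul_mem_iff_of_index_two hidx).2 (Iff.rfl)
  have hs2 : s * s = 1 ∨ s * s = r ^ 2 := by
    rcases hcases _ hss with e | e | e | e
    · exact Or.inl e
    · exfalso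
      refine hne ?_
      rw [← e, mul_assoc]
    · exact Or.inr e
    · exfalso
      refine hne ?_
      have hr' : r = (s * s) ^ 3 := by
        rw [e, ← pow_mul, show 3 * 3 = 4 + 4 + 1 by norm_num, pow_add, pow_add,
          orderOf_dvd_iff_pow_eq_one.1 hr.dvd, one_mul, one_mul, pow_one]
      rw [hr', ← pow_two, ← pow_mul, ← pow_succ, ← pow_succ']
  rcases hs2 with e | e
  · obtain ⟨f, hf, -, -⟩ := Classical.CyclicExt.exists_dihedral_hom r s hr e hconj hs
    exact Or.inl ⟨(MulEquiv.ofBijective f ((Nat.bijective_iff_injective_and_card _).2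
      ⟨hf, by rw [DihedralGroup.nat_card, h8]⟩)).symm⟩
  · obtain ⟨f, hf⟩ := Classical.CyclicExt.exists_quaternion_hom (n := 2) r s hr e hconj hs
    exact Or.inr ⟨(MulEquiv.ofBijective f ((Nat.bijective_iff_injective_and_card _).2
      ⟨hf, by rw [Nat.card_eq_fintype_card (α := QuaternionGroup 2), QuaternionGroup.card, h8]⟩)).symm⟩

variable {G : Type u} [Group G] [Finite G]

theorem sixteen_dvd {q : ℕ} (h : q % 8 = 1 ∨ q % 8 = 7) : 16 ∣ q * ((q - 1) * (q + 1)) := by
  refine Dvd.dvd.mul_left ?_ q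
  obtain ⟨k, hk⟩ : ∃ k, q = 8 * k + 1 ∨ q = 8 * k + 7 := ⟨q / 8, by omega⟩
  rcases hk with hk | hk
  · exact ⟨k * (4 * k + 1), by rw [hk, Nat.add_sub_cancel]; ring⟩
  · exact ⟨(4 * k + 3) * (k + 1), by rw [hk, show 8 * k + 7 - 1 = 8 * k + 6 by omega]; ring⟩

theorem thirtytwo_dvd {q : ℕ} (h : q % 16 = 1 ∨ q % 16 = 15) : 32 ∣ q * ((q - 1) * (q + 1)) := by
  refine Dvd.dvd.mul_left ?_ q
  obtain ⟨k, hk⟩ : ∃ k, q = 16 * k + 1 ∨ q = 16 * k + 15 := ⟨q / 16, by omega⟩
  rcases hk with hk | hk
  · exact ⟨k * (8 * k + 1), by rw [hk, Nat.add_sub_cancel]; ring⟩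
  · exact ⟨(8 * k + 7) * (k + 1), by rw [hk, show 16 * k + 15 - 1 = 16 * k + 14 by omega]; ring⟩

theorem sixteen_not_dvd {q : ℕ} (h : q % 8 = 3 ∨ q % 8 = 5) : ¬ 16 ∣ q * ((q - 1) * (q + 1)) := by
  intro hd
  have hodd : Nat.Coprime 16 q := by
    rw [show (16 : ℕ) = 2 ^ 4 by norm_num, Nat.coprime_pow_left_iff (by norm_num), Nat.Prime.coprime_iff_not_dvd Nat.prime_two]
    omega
  have hd' := hodd.dvd_of_dvd_mul_left hd
  obtain ⟨k, hk⟩ : ∃ k, q = 8 * k + 3 ∨ q = 8 * k + 5 := ⟨q / 8, by omega⟩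
  rcases hk with hk | hk
  · rw [hk, show (8 * k + 3 - 1) * (8 * k + 3 + 1) = 16 * (4 * k * k + 3 * k) + 8 by
      rw [show 8 * k + 3 - 1 = 8 * k + 2 by omega]; ring] at hd'
    omega
  · rw [hk, show (8 * k + 5 - 1) * (8 * k + 5 + 1) = 16 * (4 * k * k + 5 * k + 1) + 8 by
      rw [show 8 * k + 5 - 1 = 8 * k + 4 by omega]; ring] at hd'
    omega

/-- S0993 from the inputs. -/
theorem s0993_of [IsSimpleGroup G] (hG : ¬ IsMulCommutative G) (T : Sylow 2 G)
    (hT : Nat.card ↥(T : Subgroup G) = 8)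
    (hcent : IsMulCommutative ↥(T : Subgroup G) → CentFact G)
    (hfield : IsMulCommutative ↥(T : Subgroup G) → FieldTriv G) :
    (∃ (F : Type) (_ : Field F) (_ : Fintype F), Fintype.card F = 8 ∧
        Nonempty (G ≃* Matrix.ProjectiveSpecialLinearGroup (Fin 2) F)) ∨
      (∃ (F : Type) (_ : Field F) (_ : Fintype F), (Fintype.card F % 16 = 7 ∨ Fintype.card F % 16 = 9) ∧
        Nonempty (G ≃* Matrix.ProjectiveSpecialLinearGroup (Fin 2) F)) ∨
      Nonempty (G ≃* alternatingGroup (Fin 7)) ∨ Cfsg.IsJ1 G ∨ Cfsg.IsRee G := by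
  haveI : Fact (Nat.Prime 2) := ⟨Nat.prime_two⟩
  have h16 : ¬ 16 ∣ Nat.card G := fun hd => by
    have := T.pow_dvd_card_of_pow_dvd_card (n := 4) hd
    rw [hT] at this
    norm_num at this
  have h8 : 8 ∣ Nat.card G := hT ▸ Subgroup.card_subgroup_dvd_card _
  have horder : ∀ (F : Type) [Field F] [Fintype F],
      Nonempty (G ≃* Matrix.ProjectiveSpecialLinearGroup (Fin 2) F) →
      Fintype.card F * ((Fintype.card F - 1) * (Fintype.card F + 1)) =
        Nat.gcd 2 (Fintype.card F - 1) * Nat.card G := fun F _ _ ⟨e⟩ => by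
    have hq := Cfsg.Agent.Classical.SmallIso.natCard_pslTwo F
    rw [Cfsg.Agent.Classical.GL2.natCard_SL_two, ← Nat.card_congr e.toEquiv] at hq
    linarith
  by_cases hab : IsMulCommutative ↥(T : Subgroup G)
  · rcases s0506_of hG T hab (hcent hab) (hfield hab) with ⟨a, ha, F, i1, i2, hF, he⟩ |
        ⟨F, i1, i2, hF, he⟩ | hR | hJ
    · refine Or.inl ⟨F, i1, i2, ?_, he⟩
      have h := horder F he
      have hg : Nat.gcd 2 (Fintype.card F - 1) = 1 := by
        refine (Nat.prime_two.coprime_iff_not_dvd).2 ?_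
        have h1 : 2 ∣ Fintype.card F := hF ▸ dvd_pow_self 2 (by omega)
        have h2 : 0 < Fintype.card F := Fintype.card_pos
        omega
      rw [hg, one_mul, hF] at h
      rcases Nat.lt_or_ge a 4 with h4 | h4
      · rcases Nat.lt_or_ge a 3 with h3 | h3
        · exfalso
          obtain rfl : a = 2 := by omega
          rw [← h] at h8
          norm_num at h8
        · rw [hF, show a = 3 by omega]; norm_num
      · exact absurd (h ▸ Dvd.dvd.mul_right (show 16 ∣ 2 ^ a from pow_dvd_pow 2 h4) _) h16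
    · exfalso
      have h := horder F he
      have hg : Nat.gcd 2 (Fintype.card F - 1) = 2 := Nat.gcd_eq_left (Nat.dvd_of_mod_eq_zero (by omega))
      rw [hg] at h
      exact sixteen_not_dvd hF (h ▸ (by obtain ⟨k, hk⟩ := h8; exact ⟨k, by rw [hk]; ring⟩))
    · exact Or.inr (Or.inr (Or.inr (Or.inr hR)))
    · exact Or.inr (Or.inr (Or.inr (Or.inl hJ)))
  · rcases dihedral_or_quaternion hT fun hall => hab ⟨⟨hall⟩⟩ with hD | hQ
    · rcases GW.simpleGW G T 4 (by norm_num) hD with ⟨F, i1, i2, hodd, he⟩ | hA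
      · refine Or.inr (Or.inl ⟨F, i1, i2, ?_, he⟩)
        have h := horder F he
        have hq2 := Nat.odd_iff.1 hodd
        have hg : Nat.gcd 2 (Fintype.card F - 1) = 2 := Nat.gcd_eq_left (Nat.dvd_of_mod_eq_zero (by omega))
        rw [hg] at h
        by_contra hcon
        rcases (show (Fintype.card F % 8 = 3 ∨ Fintype.card F % 8 = 5) ∨
            (Fintype.card F % 16 = 1 ∨ Fintype.card F % 16 = 15) by omega) with hm | hm
        · exact sixteen_not_dvd hm (h ▸ (by obtain ⟨k, hk⟩ := h8; exact ⟨k, by rw [hk]; ring⟩))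
        · refine h16 ?_
          obtain ⟨k, hk⟩ := h ▸ thirtytwo_dvd hm
          exact ⟨k, by omega⟩
      · exact Or.inr (Or.inr (Or.inl hA))
    · exfalso
      obtain ⟨e⟩ := hQ
      have hO : Cfsg.oddCore G = ⊥ :=
        (inferInstance : (Cfsg.oddCore G).Normal).eq_bot_or_eq_top.resolve_right fun e' => by
          have hodd := Agent.Cores.oddCore_odd (G := G)
          rw [e', Subgroup.card_top] at hodd
          haveI := Cfsg.Agent.S0205.result (G := G) hodd
          exact hG ⟨⟨IsSimpleGroup.comm_iff_isSolvable.2 inferInstance⟩⟩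
      have hc := ZStar.Consequences.card_center (n := 2) le_rfl T e hO
      rcases (inferInstance : (center G).Normal).eq_bot_or_eq_top with e' | e'
      · rw [e', card_bot] at hc
        omega
      · exact hG ⟨⟨fun a b => mem_center_iff.1 (e' ▸ mem_top b) a⟩⟩

end Cfsg.Agent.Walter
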