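import Cfsg.Agent.Lib.Walter.RowsConditional
import Cfsg.Agent.Lib.Walter.RowEight
import Cfsg.Agent.Lib.Walter.ComponentsKnown
import Cfsg.Agent.Lib.Walter.NoTrans.Main

/-!
# The induction of Walter's theorem

From the three facts (no odd core in the centralisers, trivial field part, maximal centraliser), each proved
for a group whose smaller simple groups are good, every simple group with abelian Sylow 2-subgroups is good.
-/

set_option autoImplicit false
set_option linter.unusedSectionVars false
set_option linter.style.haveILetI false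

open Subgroup
open Cfsg.Agent.SEAbelian

namespace Cfsg.Agent.Walter

universe u

/-- No odd core in the centralisers of involutions, if one of them is not solvable. -/
def CoreTriv (T : Type u) [Group T] : Prop :=
  HasNonsolvCent T → ∀ a : T, orderOf a = 2 → Cfsg.oddCore ↥(centralizer ({a} : Set T)) = ⊥

/-- The list, trivial cores, trivial field part, maximal centralisers and the socle data. -/
structure Good (T : Type u) [Group T] : Prop where
  listed : Listed T
  core : CoreTriv T
  field : FieldTriv T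
  coatom : CoatomTriv T
  socle : NoTrans.KnownSocle T
  shape : IsSmallPSL T ∨ JRShape T

/-- All smaller simple groups are good. -/
def GoodBelow (n : ℕ) : Prop :=
  ∀ (T : Type u) [Group T] [Finite T], IsSimpleGroup T → ¬ IsMulCommutative T → AbTwo T →
    Nat.card T < n → Good T

/-- No odd core in the centralisers of involutions, if one of them is not solvable. -/
def CoreFact : Prop :=
  ∀ (G : Type u) [Group G] [Finite G], IsSimpleGroup G → ¬ IsMulCommutative G → AbTwo G →
    GoodBelow.{u} (Nat.card G) → CoreTriv G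

/-- The field part is trivial. -/
def FieldFact : Prop :=
  ∀ (G : Type u) [Group G] [Finite G], IsSimpleGroup G → ¬ IsMulCommutative G → AbTwo G →
    GoodBelow.{u} (Nat.card G) → FieldTriv G

/-- The centraliser is maximal. -/
def CoatomFact : Prop :=
  ∀ (G : Type u) [Group G] [Finite G], IsSimpleGroup G → ¬ IsMulCommutative G → AbTwo G →
    GoodBelow.{u} (Nat.card G) → Listed G → FieldTriv G → CoatomTriv G

variable {G : Type u} [Group G] [Finite G]

theorem centFact_of [IsSimpleGroup G] (hcore : CoreFact.{u}) (hnc : ¬ IsMulCommutative G) (h : AbTwo G)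
    (hb : GoodBelow.{u} (Nat.card G)) : CentFact G := by
  intro hns S
  have hO := hcore G inferInstance hnc h hb hns
  refine ⟨compsOf, compSys_of_listed hnc h S hO (fun T _ _ hs hn hab hlt => (hb T hs hn hab hlt).listed),
    fun t _ ht N hN hodd hnorm => ?_⟩
  set C := centralizer ({t} : Set G)
  haveI : (N.subgroupOf C).Normal := normal_subgroupOf_of_le_normalizer hnorm
  have hle := Agent.Cores.le_oddCore (N := N.subgroupOf C)
    (by rwa [Nat.card_congr (subgroupOfEquivOfLe hN).toEquiv])
  rw [hO t ht, le_bot_iff, subgroupOf_eq_bot] at hle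
  exact (eq_bot_iff_forall N).2 fun x hx => mem_bot.1 (hle.le_bot ⟨hx, hN hx⟩)

/-- The induction. -/
theorem good_of_facts (hcore : CoreFact.{u}) (hfield : FieldFact.{u}) (hcoat : CoatomFact.{u}) :
    ∀ (G : Type u) [Group G] [Finite G], IsSimpleGroup G → ¬ IsMulCommutative G → AbTwo G → Good G := by
  suffices h : ∀ n, GoodBelow.{u} n from fun G _ _ hs hn hab => h (Nat.card G + 1) G hs hn hab (Nat.lt_succ_self _)
  intro n
  induction n with
  | zero => exact fun T _ _ _ _ _ hlt => absurd hlt (Nat.not_lt_zero _)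
  | succ n ih =>
    intro T _ _ hs hn hab hlt
    haveI := hs
    have hb : GoodBelow.{u} (Nat.card T) := fun U _ _ h1 h2 h3 h4 => ih U h1 h2 h3 (by omega)
    have hF := hfield T hs hn hab hb
    obtain ⟨S⟩ := (inferInstance : Nonempty (Sylow 2 T))
    have hS := isMulCommutative_sylow hab S
    have hcent := centFact_of hcore hn hab hb
    have hL : Listed T := s0506_of hn S hS hcent hF
    refine ⟨hL, hcore T hs hn hab hb, hF, hcoat T hs hn hab hb hL hF, ?_, main hn S hS hcent⟩
    rcases main hn S hS hcent with ⟨F, i1, i2, hq, he⟩ | ⟨-, -, t, E, E₀, F, i1, i2, -, -, -, -, hF8, hF3, hP⟩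
    · refine Or.inl ⟨F, i1, i2, ?_, he⟩
      rcases hq with ⟨k, hk, e⟩ | ⟨e, -⟩
      exacts [Or.inl ⟨k, by omega, e⟩, Or.inr e]
    · exact Or.inr (Or.inr ⟨F, i1, i2, t, by omega, hP.ht,
        nonempty_centralizer_equiv hP (hF t F E₀ (by omega) hP)⟩)

variable [IsSimpleGroup G]

theorem goodBelow_of_facts (hcore : CoreFact.{u}) (hfield : FieldFact.{u}) (hcoat : CoatomFact.{u}) (n : ℕ) :
    GoodBelow.{u} n :=
  fun T _ _ hs hn hab _ => good_of_facts hcore hfield hcoat T hs hn hab

/-- S0506 from the facts. -/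
theorem s0506_of_facts (hcore : CoreFact.{u}) (hfield : FieldFact.{u}) (hcoat : CoatomFact.{u})
    (hG : ¬ IsMulCommutative G) (S : Sylow 2 G) (hS : IsMulCommutative (S : Subgroup G)) : Listed G :=
  (good_of_facts hcore hfield hcoat G inferInstance hG (abTwo_of_sylow S hS)).listed

/-- The inputs of the conditional rows from the facts. -/
theorem inputs_of_facts (hcore : CoreFact.{u}) (hfield : FieldFact.{u}) (hcoat : CoatomFact.{u})
    (hG : ¬ IsMulCommutative G) (S : Sylow 2 G) (hS : IsMulCommutative (S : Subgroup G)) :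
    CentFact G ∧ FieldTriv G ∧ CoatomTriv G := by
  have hab := abTwo_of_sylow S hS
  obtain ⟨-, -, h1, h2, -, -⟩ := good_of_facts hcore hfield hcoat G inferInstance hG hab
  exact ⟨centFact_of hcore hG hab (goodBelow_of_facts hcore hfield hcoat _), h1, h2⟩

/-- S0993 from the facts. -/
theorem s0993_of_facts (hcore : CoreFact.{u}) (hfield : FieldFact.{u}) (hcoat : CoatomFact.{u})
    (hG : ¬ IsMulCommutative G) (T : Sylow 2 G) (hT : Nat.card ↥(T : Subgroup G) = 8) :
    (∃ (F : Type) (_ : Field F) (_ : Fintype F), Fintype.card F = 8 ∧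
        Nonempty (G ≃* Matrix.ProjectiveSpecialLinearGroup (Fin 2) F)) ∨
      (∃ (F : Type) (_ : Field F) (_ : Fintype F), (Fintype.card F % 16 = 7 ∨ Fintype.card F % 16 = 9) ∧
        Nonempty (G ≃* Matrix.ProjectiveSpecialLinearGroup (Fin 2) F)) ∨
      Nonempty (G ≃* alternatingGroup (Fin 7)) ∨ Cfsg.IsJ1 G ∨ Cfsg.IsRee G :=
  s0993_of hG T hT (fun hab => (inputs_of_facts hcore hfield hcoat hG T hab).1)
    (fun hab => (inputs_of_facts hcore hfield hcoat hG T hab).2.1)

/-- S3182 from the facts. -/
theorem s3182_of_facts (hcore : CoreFact.{u}) (hfield : FieldFact.{u}) (hcoat : CoatomFact.{u})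
    (hG : ¬ IsMulCommutative G)
    (hCI : ∀ S T : Sylow 2 G, S ≠ T → ∃ U : Sylow 2 G,
      (S : Subgroup G) ⊓ (T : Subgroup G) ≤ (Subgroup.center ↥(U : Subgroup G)).map (U : Subgroup G).subtype) :
    (∃ (F : Type) (_ : Field F) (_ : Fintype F),
        (Fintype.card F % 8 = 0 ∨ Fintype.card F % 8 = 3 ∨ Fintype.card F % 8 = 5) ∧
        Nonempty (G ≃* Matrix.ProjectiveSpecialLinearGroup (Fin 2) F)) ∨
    ((∀ S : Sylow 2 G, IsMulCommutative ↥(S : Subgroup G)) ∧
      ∃ t : G, orderOf t = 2 ∧ IsCoatom (Subgroup.centralizer ({t} : Set G)) ∧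
        ∃ E : Subgroup G, Cfsg.IsInternalDirectProduct (Subgroup.zpowers t) E (Subgroup.centralizer ({t} : Set G)) ∧
          ∃ (F : Type) (_ : Field F) (_ : Fintype F), Odd (Fintype.card F) ∧ 3 < Fintype.card F ∧
            ∃ N : Subgroup ↥E, N.Normal ∧ Nonempty (↥N ≃* Matrix.ProjectiveSpecialLinearGroup (Fin 2) F) ∧
              Subgroup.centralizer (N : Set ↥E) = ⊥) ∨
    (∃ (m : ℕ) (F : Type) (_ : Field F) (_ : Fintype F), 1 ≤ m ∧ Fintype.card F = 2 ^ (2 * m + 1) ∧
        Nonempty (G ≃* ↥(Cfsg.Lie.Sz F (2 ^ (m + 1))))) ∨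
    (∃ (n : ℕ) (F : Type) (_ : Field F) (_ : Fintype F), 2 ≤ n ∧ Fintype.card F = 4 ^ n ∧
        Nonempty (G ≃* Cfsg.PSU 3 F (2 ^ n))) :=
  have hS : Nonempty (Sylow 2 G) := inferInstance
  s3182_of hG hCI (fun hab => hS.elim fun S => (inputs_of_facts hcore hfield hcoat hG S (hab S)).1)
    (fun hab => hS.elim fun S => (inputs_of_facts hcore hfield hcoat hG S (hab S)).2.2)

end Cfsg.Agent.Walter
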