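import Cfsg.Agent.Lib.Walter.CoatomRow
import Cfsg.Agent.Lib.Walter.Master

/-!
# The maximality step of the induction
-/

set_option autoImplicit false

namespace Cfsg.Agent.Walter

universe u

/-- The third fact of the induction. -/
theorem coatomFact : CoatomFact.{u} := fun G _ _ hs hn hab _ _ hF => by
  haveI := hs
  exact coatomTriv_of_fieldTriv hn hab hF

/-- S1245 from the two remaining facts. -/
theorem s1245_of_facts (hcore : CoreFact.{u}) (hfield : FieldFact.{u}) {G : Type u} [Group G] [Finite G]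
    [IsSimpleGroup G] (hna : ¬ IsMulCommutative G) (S : Sylow 2 G)
    (hS : IsMulCommutative (S : Subgroup G)) (t : G) (ht : orderOf t = 2) (E E₀ : Subgroup G)
    (hprod : Cfsg.IsInternalDirectProduct (Subgroup.zpowers t) E (Subgroup.centralizer ({t} : Set G)))
    (hE₀E : E₀ ≤ E) (hE₀n : (E₀.subgroupOf E).Normal)
    (hE₀ : ∃ (F : Type) (_ : Field F) (_ : Fintype F), Odd (Fintype.card F) ∧
      Nonempty (E₀ ≃* Matrix.ProjectiveSpecialLinearGroup (Fin 2) F))
    (hCE : E ⊓ Subgroup.centralizer (E₀ : Set G) = ⊥) : IsCoatom (Subgroup.centralizer ({t} : Set G)) :=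
  s1245_of hna S hS (good_of_facts hcore hfield coatomFact G inferInstance hna
    (SEAbelian.abTwo_of_sylow S hS)).field t ht E E₀ hprod hE₀E hE₀n hE₀ hCE

end Cfsg.Agent.Walter
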