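import Cfsg.Agent.S0205
import Mathlib

/-!
# Component systems in groups with abelian Sylow 2-subgroups

`comps a` are the components of the centraliser of the involution `a`.
-/

set_option autoImplicit false
set_option linter.unusedSectionVars false
set_option linter.style.haveILetI false

open Subgroup
open scoped Pointwise

namespace Cfsg.Agent.Walter

variable {G : Type*} [Group G]

/-- What the assembly needs of the involution centralisers. -/
structure CompSys (S : Sylow 2 G) (comps : G → Set (Subgroup G)) : Prop where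
  comm : ∀ x ∈ (S : Subgroup G), ∀ y ∈ (S : Subgroup G), x * y = y * x
  le : ∀ a : G, orderOf a = 2 → ∀ J ∈ comps a, J ≤ centralizer ({a} : Set G)
  simple : ∀ a : G, orderOf a = 2 → ∀ J ∈ comps a, IsSimpleGroup ↥J ∧ ¬ IsMulCommutative ↥J
  conj : ∀ a g : G, orderOf a = 2 → ∀ J ∈ comps a, MulAut.conj g • J ∈ comps (g * a * g⁻¹)
  commute : ∀ a : G, orderOf a = 2 → ∀ J ∈ comps a, ∀ K ∈ comps a, J ≠ K →
    ∀ x ∈ J, ∀ y ∈ K, x * y = y * x
  frattini : ∀ a ∈ (S : Subgroup G), orderOf a = 2 →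
    centralizer ({a} : Set G) ≤ (⨆ J ∈ comps a, J) ⊔
      (centralizer ({a} : Set G) ⊓ normalizer ((S : Subgroup G) : Set G))
  split : ∀ a ∈ (S : Subgroup G), orderOf a = 2 → ∀ J ∈ comps a, ∀ s ∈ (S : Subgroup G),
    ∃ w ∈ (S : Subgroup G) ⊓ J, ∃ c ∈ (S : Subgroup G) ⊓ centralizer (J : Set G), w * c = s
  four : ∀ a ∈ (S : Subgroup G), orderOf a = 2 → ∀ J ∈ comps a, 4 ≤ Nat.card ↥((S : Subgroup G) ⊓ J)
  trans : ∀ a ∈ (S : Subgroup G), orderOf a = 2 → ∀ J ∈ comps a,
    ∀ u ∈ (S : Subgroup G) ⊓ J, u ≠ 1 → ∀ v ∈ (S : Subgroup G) ⊓ J, v ≠ 1 →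
      ∃ g ∈ J, (∀ x ∈ (S : Subgroup G) ⊓ J, g * x * g⁻¹ ∈ (S : Subgroup G) ⊓ J) ∧ g * u * g⁻¹ = v

theorem mem_conj {J : Subgroup G} {g x : G} : x ∈ MulAut.conj g • J ↔ g⁻¹ * x * g ∈ J := by
  rw [mem_pointwise_smul_iff_inv_smul_mem, MulAut.smul_def, MulAut.conj_inv_apply]

theorem conj_mem_conj {J : Subgroup G} {g x : G} (h : x ∈ J) : g * x * g⁻¹ ∈ MulAut.conj g • J :=
  mem_conj.2 (by simpa [mul_assoc] using h)

theorem mem_centralizer_comm {H : Subgroup G} {x : G} :
    x ∈ centralizer (H : Set G) ↔ ∀ y ∈ H, x * y = y * x :=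
  ⟨fun h y hy => (mem_centralizer_iff.1 h y hy).symm, fun h => mem_centralizer_iff.2 fun y hy => (h y hy).symm⟩

theorem mem_centralizer_one {a x : G} : x ∈ centralizer ({a} : Set G) ↔ x * a = a * x :=
  mem_centralizer_singleton_iff

/-- A simple non-abelian subgroup is perfect. -/
theorem perfect_of_simple {J : Subgroup G} (h : IsSimpleGroup ↥J) (hn : ¬ IsMulCommutative ↥J) :
    ⁅J, J⁆ = J := by
  have h1 : commutator ↥J = ⊤ := by
    rcases (inferInstance : (commutator ↥J).Normal).eq_bot_or_eq_top with hc | hc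
    · exact absurd ⟨⟨fun a b => commutatorElement_eq_one_iff_mul_comm.1 (mem_bot.1
        (hc ▸ commutator_mem_commutator (mem_top a) (mem_top b)))⟩⟩ hn
    · exact hc
  rw [← map_subtype_commutator, h1, ← MonoidHom.range_eq_map, Subgroup.range_subtype]

theorem eq_one_of_central {J : Subgroup G} (h : IsSimpleGroup ↥J) (hn : ¬ IsMulCommutative ↥J) {x : G}
    (hx : x ∈ J) (hc : ∀ y ∈ J, x * y = y * x) : x = 1 := by
  rcases (inferInstance : (center ↥J).Normal).eq_bot_or_eq_top with hz | hz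
  · have : (⟨x, hx⟩ : ↥J) ∈ center ↥J := mem_center_iff.2 fun y => Subtype.ext (hc y y.2).symm
    rw [hz, mem_bot] at this
    exact congrArg Subtype.val this
  · exact absurd ⟨⟨fun a b => (mem_center_iff.1 (hz ▸ mem_top b) a)⟩⟩ hn

/-- A normalised meet is everything or trivial. -/
theorem le_or_disjoint {J K : Subgroup G} (h : IsSimpleGroup ↥J) (hJK : J ≤ normalizer (K : Set G)) :
    J ≤ K ∨ ∀ x ∈ J, x ∈ K → x = 1 := by
  have hn : (K.subgroupOf J).Normal :=
    ⟨fun k hk j => by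
      rw [mem_subgroupOf] at hk ⊢
      exact (mem_normalizer_iff.1 (hJK j.2) k).1 hk⟩
  rcases hn.eq_bot_or_eq_top with e | e
  · refine Or.inr fun x hx hxK => ?_
    have : (⟨x, hx⟩ : ↥J) ∈ K.subgroupOf J := hxK
    rw [e, mem_bot] at this
    exact congrArg Subtype.val this
  · exact Or.inl (subgroupOf_eq_top.1 e)

variable [Finite G]

theorem odd_part_mem (S : Sylow 2 G) {n : G} (hn : n ∈ normalizer ((S : Subgroup G) : Set G)) :
    ∃ m : ℕ, Odd m ∧ n ^ m ∈ (S : Subgroup G) := by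
  haveI : Fact (Nat.Prime 2) := ⟨Nat.prime_two⟩
  obtain ⟨j, m, hm, hn'⟩ := Nat.exists_eq_two_pow_mul_odd (orderOf_pos n).ne'
  refine ⟨m, hm, ?_⟩
  have h1 : (n ^ m) ^ 2 ^ j = 1 := by rw [← pow_mul, mul_comm, ← hn', pow_orderOf_eq_one]
  have hP : IsPGroup 2 ↥(zpowers (n ^ m)) := by
    refine IsPGroup.of_card (n := Nat.log 2 (orderOf (n ^ m))) ?_
    obtain ⟨i, -, hi⟩ := (Nat.dvd_prime_pow Nat.prime_two).1 (orderOf_dvd_of_pow_eq_one h1)
    rw [Nat.card_zpowers, hi, Nat.log_pow one_lt_two]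
  have hle : zpowers (n ^ m) ≤ normalizer ((S : Subgroup G) : Set G) := zpowers_le.2 (pow_mem hn m)
  have := S.3 (IsPGroup.to_sup_of_normal_right' hP S.2 hle) le_sup_right
  exact this.le (mem_sup_left (mem_zpowers _))

/-- `N(S)` is solvable (odd order theorem). -/
theorem isSolvable_normalizer (S : Sylow 2 G)
    (hab : ∀ x ∈ (S : Subgroup G), ∀ y ∈ (S : Subgroup G), x * y = y * x) :
    Group.IsSolvable ↥(normalizer ((S : Subgroup G) : Set G)) := by
  set N := normalizer ((S : Subgroup G) : Set G)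
  set S' := ((S : Subgroup G)).subgroupOf N
  haveI : S'.Normal := normal_in_normalizer
  haveI h1 : Group.IsSolvable ↥S' :=
    Group.isSolvable_of_comm fun x y => Subtype.ext (Subtype.ext (hab _ x.2 _ y.2))
  have hodd : Odd (Nat.card (↥N ⧸ S')) := by
    rw [Nat.odd_iff, ← Nat.two_dvd_ne_zero]
    intro h2
    haveI : Fact (Nat.Prime 2) := ⟨Nat.prime_two⟩
    obtain ⟨q, hq⟩ := exists_prime_orderOf_dvd_card' 2 h2
    obtain ⟨n, rfl⟩ := QuotientGroup.mk_surjective q
    obtain ⟨m, hm, hnm⟩ := odd_part_mem S n.2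
    have : (QuotientGroup.mk (n ^ m) : ↥N ⧸ S') = 1 := (QuotientGroup.eq_one_iff _).2 hnm
    rw [QuotientGroup.mk_pow] at this
    have := orderOf_dvd_of_pow_eq_one this
    rw [hq] at this
    obtain ⟨k, rfl⟩ := hm
    omega
  haveI h2 : Group.IsSolvable (↥N ⧸ S') := S0205.result hodd
  exact Group.isSolvable_of_ker_le_range S'.subtype (QuotientGroup.mk' S')
    (by rw [QuotientGroup.ker_mk', Subgroup.range_subtype])

/-- A perfect subgroup of an extension of `E` by a solvable group lies in `E`. -/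
theorem perfect_le {C E M D : Subgroup G} (hE : C ≤ normalizer (E : Set G)) (hC : C ≤ E ⊔ M) (hMC : M ≤ C)
    (hM : Group.IsSolvable ↥M) (hD : ⁅D, D⁆ = D) (hDC : D ≤ C) : D ≤ E := by
  set E' := E.subgroupOf C
  haveI : E'.Normal := normal_subgroupOf_of_le_normalizer hE
  set π := QuotientGroup.mk' E'
  haveI := hM
  have hsol : Group.IsSolvable (↥C ⧸ E') := by
    refine Group.isSolvable_of_surjective (f := π.comp (inclusion hMC)) fun q => ?_
    obtain ⟨c, rfl⟩ := QuotientGroup.mk_surjective q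
    have hnorm : M ≤ normalizer (E : Set G) := hMC.trans hE
    have hc : (c : G) ∈ E ⊔ M := hC c.2
    rw [← SetLike.mem_coe, Subgroup.coe_mul_of_right_le_normalizer_left E M hnorm] at hc
    obtain ⟨e, he, m, hm, hem⟩ := hc
    refine ⟨⟨m, hm⟩, (QuotientGroup.eq).2 ?_⟩
    show ((inclusion hMC ⟨m, hm⟩)⁻¹ * c : ↥C) ∈ E'
    rw [mem_subgroupOf]
    show m⁻¹ * (c : G) ∈ E
    rw [← hem, ← mul_assoc]
    simpa using (mem_normalizer_iff''.1 (hnorm hm) e).1 he
  obtain ⟨n, hn⟩ := hsol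
  set D' := (D.subgroupOf C).map π
  have hD' : ⁅D', D'⁆ = D' := by
    rw [← map_commutator]
    congr 1
    refine map_injective C.subtype_injective ?_
    rw [map_commutator, map_subgroupOf_eq_of_le hDC, hD]
  have hk : ∀ k, D' ≤ derivedSeries (↥C ⧸ E') k := fun k => by
    induction k with
    | zero => exact le_top
    | succ k ih => rw [derivedSeries_succ, ← hD']; exact commutator_mono ih ih
  intro d hd
  have h1 : π ⟨d, hDC hd⟩ ∈ D' := mem_map_of_mem π (show (⟨d, hDC hd⟩ : ↥C) ∈ D.subgroupOf C from hd)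
  have h2 := hk n h1
  rw [hn, mem_bot] at h2
  exact ((QuotientGroup.eq_one_iff (N := E') (⟨d, hDC hd⟩ : ↥C)).1 h2 :)

/-- The subgroup generated by the components at `a`. -/
def compSup (comps : G → Set (Subgroup G)) (a : G) : Subgroup G := ⨆ J ∈ comps a, J

namespace CompSys

variable {S : Sylow 2 G} {comps : G → Set (Subgroup G)} (h : CompSys S comps)

include h

theorem sylow_le {a : G} (ha : a ∈ (S : Subgroup G)) :
    (S : Subgroup G) ≤ centralizer ({a} : Set G) :=
  fun s hs => mem_centralizer_one.2 (h.comm s hs a ha)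

theorem compSup_le {a : G} (ha : orderOf a = 2) : compSup comps a ≤ centralizer ({a} : Set G) :=
  iSup₂_le fun J hJ => h.le a ha J hJ

theorem le_compSup {a : G} {J : Subgroup G} (hJ : J ∈ comps a) : J ≤ compSup comps a :=
  le_iSup₂ (f := fun J (_ : J ∈ comps a) => J) J hJ

theorem conj_comp {a c : G} {J : Subgroup G} (ha : orderOf a = 2) (hc : c ∈ centralizer ({a} : Set G))
    (hJ : J ∈ comps a) : MulAut.conj c • J ∈ comps a := by
  have := h.conj a c ha J hJ
  rwa [mem_centralizer_one.1 hc, mul_inv_cancel_right] at this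

theorem centralizer_normalizes {a : G} (ha : orderOf a = 2) :
    centralizer ({a} : Set G) ≤ normalizer (compSup comps a : Set G) := by
  have key : ∀ c ∈ centralizer ({a} : Set G), ∀ x ∈ compSup comps a, c * x * c⁻¹ ∈ compSup comps a := by
    intro c hc
    have : compSup comps a ≤ (compSup comps a).comap (MulAut.conj c).toMonoidHom :=
      iSup₂_le fun J hJ x hx => h.le_compSup (h.conj_comp ha hc hJ) (conj_mem_conj hx)
    exact fun x hx => this hx
  intro c hc
  refine mem_normalizer_iff.2 fun x => ⟨key c hc x, fun hx => ?_⟩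
  have := key c⁻¹ (inv_mem hc) _ hx
  simpa [mul_assoc] using this

theorem compSup_normalizes {a : G} {J : Subgroup G} (ha : orderOf a = 2) (hJ : J ∈ comps a) :
    compSup comps a ≤ normalizer (J : Set G) :=
  iSup₂_le fun K hK => by
    by_cases e : K = J
    · rw [e]; exact le_normalizer
    · refine le_trans (fun x hx => ?_) (centralizer_le_normalizer (J : Set G))
      exact mem_centralizer_comm.2 fun y hy => h.commute a ha K hK J hJ e x hx y hy

theorem sylow_normalizes {a : G} (haS : a ∈ (S : Subgroup G)) (ha : orderOf a = 2) {J : Subgroup G}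
    (hJ : J ∈ comps a) : (S : Subgroup G) ≤ normalizer (J : Set G) := fun s hs => by
  obtain ⟨w, hw, c, hc, rfl⟩ := h.split a haS ha J hJ s hs
  exact mul_mem (le_normalizer hw.2) (centralizer_le_normalizer (J : Set G) hc.2)

theorem perfect_le_compSup {a : G} (haS : a ∈ (S : Subgroup G)) (ha : orderOf a = 2) {D : Subgroup G}
    (hD : ⁅D, D⁆ = D) (hle : D ≤ centralizer ({a} : Set G)) : D ≤ compSup comps a :=
  perfect_le (h.centralizer_normalizes ha) (h.frattini a haS ha) inf_le_left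
    (by
      haveI := isSolvable_normalizer S h.comm
      exact Group.isSolvable_of_isSolvable_injective (f := inclusion (inf_le_right :
        centralizer ({a} : Set G) ⊓ normalizer ((S : Subgroup G) : Set G) ≤ _)) (inclusion_injective _))
    hD hle

theorem meet_bot {a : G} (ha : orderOf a = 2) {J : Subgroup G} (hJ : J ∈ comps a) {x : G} (hx : x ∈ J)
    (hc : x ∈ centralizer (J : Set G)) : x = 1 :=
  eq_one_of_central (h.simple a ha J hJ).1 (h.simple a ha J hJ).2 hx (mem_centralizer_comm.1 hc)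

/-- Some transitive element of `J` normalises `S` and fixes `C_S(J)`. -/
theorem exists_torus {a : G} (haS : a ∈ (S : Subgroup G)) (ha : orderOf a = 2) {J : Subgroup G}
    (hJ : J ∈ comps a) {u v : G} (hu : u ∈ (S : Subgroup G) ⊓ J) (hu1 : u ≠ 1)
    (hv : v ∈ (S : Subgroup G) ⊓ J) (hv1 : v ≠ 1) :
    ∃ g ∈ J, g ∈ normalizer ((S : Subgroup G) : Set G) ∧ g * u * g⁻¹ = v ∧
      ∀ c ∈ (S : Subgroup G) ⊓ centralizer (J : Set G), g * c * g⁻¹ = c := by
  obtain ⟨g, hg, hgW, hgu⟩ := h.trans a haS ha J hJ u hu hu1 v hv hv1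
  have hfix : ∀ c ∈ (S : Subgroup G) ⊓ centralizer (J : Set G), g * c * g⁻¹ = c := fun c hc => by
    rw [← (mem_centralizer_comm.1 hc.2 g hg), mul_inv_cancel_right]
  refine ⟨g, hg, ?_, hgu, hfix⟩
  have hsub : ∀ s ∈ (S : Subgroup G), g * s * g⁻¹ ∈ (S : Subgroup G) := fun s hs => by
    obtain ⟨w, hw, c, hc, rfl⟩ := h.split a haS ha J hJ s hs
    rw [show g * (w * c) * g⁻¹ = g * w * g⁻¹ * (g * c * g⁻¹) by group, hfix c hc]
    exact mul_mem (hgW w hw).1 hc.1
  refine mem_normalizer_iff.2 fun s => ⟨hsub s, fun hs => ?_⟩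
  have hmap : (MulAut.conj g • (S : Subgroup G)) = (S : Subgroup G) := by
    refine eq_of_le_of_card_ge (fun x hx => ?_) (Nat.card_congr (equivSMul (MulAut.conj g) _).toEquiv).le
    have := hsub _ (mem_conj.1 hx)
    simpa [mul_assoc] using this
  rw [← hmap, mem_conj] at hs
  simpa [mul_assoc] using hs

theorem sq_mem {a : G} (haS : a ∈ (S : Subgroup G)) (ha : orderOf a = 2) {J : Subgroup G} (hJ : J ∈ comps a)
    {u : G} (hu : u ∈ (S : Subgroup G) ⊓ J) : u * u = 1 := by
  haveI : Fact (Nat.Prime 2) := ⟨Nat.prime_two⟩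
  by_cases hu1 : u = 1
  · rw [hu1, one_mul]
  have hP : IsPGroup 2 ↥((S : Subgroup G) ⊓ J) := S.2.to_le inf_le_left
  obtain ⟨v, hv⟩ := exists_prime_orderOf_dvd_card' (G := ↥((S : Subgroup G) ⊓ J)) 2 (by
    obtain ⟨n, hn⟩ := IsPGroup.iff_card.1 hP
    have := h.four a haS ha J hJ
    rw [hn] at this ⊢
    rcases n with _ | n
    · simp at this
    · exact dvd_pow_self 2 (Nat.succ_ne_zero n))
  have hv' : orderOf (v : G) = 2 := by rw [Subgroup.orderOf_coe, hv]
  obtain ⟨g, -, -, hgu, -⟩ := h.exists_torus haS ha hJ v.2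
    (fun e => by rw [e, orderOf_one] at hv'; omega) hu hu1
  rw [← hgu]
  have : (v : G) * v = 1 := by rw [← pow_two]; exact orderOf_dvd_iff_pow_eq_one.1 hv'.dvd
  calc g * v * g⁻¹ * (g * v * g⁻¹) = g * ((v : G) * v) * g⁻¹ := by group
    _ = 1 := by rw [this, mul_one, mul_inv_cancel]

end CompSys

end Cfsg.Agent.Walter
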