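import Cfsg.Agent.Lib.Walter.Main
import Cfsg.Agent.S0343
import Cfsg.Agent.S3181
import Cfsg.Prelude.Def_Sporadic
import Cfsg.Prelude.Def_Exceptional

/-!
# The rows that follow from the dichotomy

S0506 from the component systems and the trivial field part; S3182 from these and the maximality of `C(t)`.
-/

set_option autoImplicit false
set_option linter.unusedSectionVars false
set_option linter.style.haveILetI false

open Subgroup
open scoped Pointwise

namespace Cfsg.Agent.Walter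

universe u

variable {G : Type u} [Group G] [Finite G]

/-- The field part is trivial in `G`. -/
def FieldTriv (G : Type u) [Group G] : Prop :=
  ∀ (t : G) (K : Type) [Field K] [Fintype K] (E₀ : Subgroup G), 5 ≤ Fintype.card K →
    Field.TwoPSL t K E₀ → centralizer ({t} : Set G) = zpowers t ⊔ E₀

/-- The centraliser of `t` is maximal in the situation of `TwoPSL`. -/
def CoatomTriv (G : Type u) [Group G] : Prop :=
  ∀ (t : G) (K : Type) [Field K] [Fintype K] (E₀ : Subgroup G), 5 ≤ Fintype.card K →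
    Field.TwoPSL t K E₀ → IsCoatom (centralizer ({t} : Set G))

theorem nonempty_centralizer_equiv {t : G} {K : Type} [Field K] [Fintype K] {E₀ : Subgroup G}
    (h : Field.TwoPSL t K E₀) (heq : centralizer ({t} : Set G) = zpowers t ⊔ E₀) :
    Nonempty (↥(centralizer ({t} : Set G)) ≃*
      Multiplicative (ZMod 2) × Matrix.ProjectiveSpecialLinearGroup (Fin 2) K) := by
  have hcomm : ∀ a ∈ zpowers t, ∀ b ∈ E₀, a * b = b * a := fun a ha b hb => by
    obtain ⟨m, rfl⟩ := ha
    exact ((show Commute b t from mem_centralizer_singleton_iff.1 (h.le hb)).zpow_right m).eq.symm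
  let φ : ↥(zpowers t) × ↥E₀ →* ↥(centralizer ({t} : Set G)) :=
    MonoidHom.mk' (fun p => ⟨(p.1 : G) * p.2, by
      rw [heq]; exact mul_mem (mem_sup_left p.1.2) (mem_sup_right p.2.2)⟩) fun p q => Subtype.ext (by
      show (p.1 : G) * (q.1 : G) * ((p.2 : G) * (q.2 : G)) = (p.1 : G) * (p.2 : G) * ((q.1 : G) * (q.2 : G))
      rw [mul_assoc (p.1 : G), ← mul_assoc (q.1 : G), hcomm _ q.1.2 _ p.2.2]
      group)
  have hbij : Function.Bijective φ := by
    refine ⟨(injective_iff_map_eq_one φ).2 ?_, fun x => ?_⟩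
    · rintro ⟨⟨a, ha⟩, ⟨b, hb⟩⟩ e
      have e' : a * b = 1 := congrArg Subtype.val e
      have hbt : b ∈ zpowers t := by rw [eq_inv_of_mul_eq_one_right e']; exact inv_mem ha
      obtain ⟨m, hm⟩ := hbt
      have hbm : t ^ m = b := hm
      rcases Int.even_or_odd m with ⟨k, rfl⟩ | ⟨k, rfl⟩
      · have hb1 : b = 1 := by
          rw [← hbm, ← two_mul, zpow_mul]
          simp [orderOf_dvd_iff_pow_eq_one.1 h.ht.dvd]
        rw [hb1, mul_one] at e'
        exact Prod.ext (Subtype.ext e') (Subtype.ext hb1)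
      · refine absurd ?_ h.t_not
        have : b = t := by
          rw [← hbm, zpow_add, zpow_mul]
          simp [orderOf_dvd_iff_pow_eq_one.1 h.ht.dvd]
        exact this ▸ hb
    · have hx : (x : G) ∈ (zpowers t ⊔ E₀ : Subgroup G) := heq ▸ x.2
      have hn : E₀ ≤ normalizer (zpowers t : Set G) := fun e he =>
        centralizer_le_normalizer (zpowers t : Set G) (mem_centralizer_comm.2 fun y hy => (hcomm y hy e he).symm)
      rw [← SetLike.mem_coe, coe_mul_of_right_le_normalizer_left _ _ hn] at hx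
      obtain ⟨a, ha, b, hb, e⟩ := hx
      exact ⟨(⟨a, ha⟩, ⟨b, hb⟩), Subtype.ext e⟩
  obtain ⟨e⟩ := h.iso
  refine ⟨(MulEquiv.ofBijective φ hbij).symm.trans (MulEquiv.prodCongr ?_ e)⟩
  refine mulEquivOfCyclicCardEq ?_
  rw [Nat.card_zpowers, h.ht, Nat.card_congr Multiplicative.toAdd, Nat.card_zmod]

/-- S0506 from the inputs. -/
theorem s0506_of [IsSimpleGroup G] (hG : ¬ IsMulCommutative G) (S : Sylow 2 G)
    (hS : IsMulCommutative (S : Subgroup G)) (hcent : CentFact G) (hfield : FieldTriv G) :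
    (∃ a : ℕ, 2 ≤ a ∧ ∃ (F : Type) (_ : Field F) (_ : Fintype F), Fintype.card F = 2 ^ a ∧
      Nonempty (G ≃* Matrix.ProjectiveSpecialLinearGroup (Fin 2) F)) ∨
      (∃ (F : Type) (_ : Field F) (_ : Fintype F), (Fintype.card F % 8 = 3 ∨ Fintype.card F % 8 = 5) ∧
        Nonempty (G ≃* Matrix.ProjectiveSpecialLinearGroup (Fin 2) F)) ∨
      Cfsg.IsRee G ∨ Cfsg.IsJ1 G := by
  rcases main hG S hS hcent with ⟨F, i1, i2, ⟨n, hn, hF⟩ | ⟨hF, -⟩, he⟩ |
      ⟨-, -, t, E, E₀, F, i1, i2, -, -, -, -, hF, hF3, hP⟩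
  · exact Or.inl ⟨n, by omega, F, i1, i2, hF, he⟩
  · exact Or.inr (Or.inl ⟨F, i1, i2, hF, he⟩)
  · have hab : ∀ P : Sylow 2 G, ∀ a b : P, a * b = b * a := fun P a b =>
      Subtype.ext (SEAbelian.abTwo_of_sylow S hS _ P.2 a a.2 b b.2).eq
    rcases Cfsg.Agent.S0343.result hab (by omega : 3 ≤ Fintype.card F) t hP.ht
        (nonempty_centralizer_equiv hP (hfield t F E₀ (by omega) hP)) with ⟨m, hm, -, hc⟩ | ⟨-, hJ⟩
    · exact Or.inr (Or.inr (Or.inl ⟨inferInstance, m, hm, hc⟩))
    · exact Or.inr (Or.inr (Or.inr hJ))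

/-- S3182 from the inputs. -/
theorem s3182_of [IsSimpleGroup G] (hG : ¬ IsMulCommutative G)
    (hCI : ∀ S T : Sylow 2 G, S ≠ T → ∃ U : Sylow 2 G,
      (S : Subgroup G) ⊓ (T : Subgroup G) ≤ (Subgroup.center ↥(U : Subgroup G)).map (U : Subgroup G).subtype)
    (hcent : (∀ S : Sylow 2 G, IsMulCommutative ↥(S : Subgroup G)) → CentFact G)
    (hcoat : (∀ S : Sylow 2 G, IsMulCommutative ↥(S : Subgroup G)) → CoatomTriv G) :
    (∃ (F : Type) (_ : Field F) (_ : Fintype F),
        (Fintype.card F % 8 = 0 ∨ Fintype.card F % 8 = 3 ∨ Fintype.card F % 8 = 5) ∧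
        Nonempty (G ≃* Matrix.ProjectiveSpecialLinearGroup (Fin 2) F)) ∨
    ((∀ S : Sylow 2 G, IsMulCommutative ↥(S : Subgroup G)) ∧
      ∃ t : G, orderOf t = 2 ∧ IsCoatom (Subgroup.centralizer ({t} : Set G)) ∧
        ∃ E : Subgroup G, Cfsg.IsInternalDirectProduct (Subgroup.zpowers t) E (Subgroup.centralizer ({t} : Set G)) ∧
          ∃ (F : Type) (_ : Field F) (_ : Fintype F), Odd (Fintype.card F) ∧ 3 < Fintype.card F ∧
            ∃ N : Subgroup ↥E, N.Normal ∧ Nonempty (↥N ≃* Matrix.ProjectiveSpecialLinearGroup (Fin 2) F) ∧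
              Subgroup.centralizer (N : Set ↥E) = ⊥) ∨
    (∃ (m : ℕ) (F : Type) (_ : Field F) (_ : Fintype F), 1 ≤ m ∧ Fintype.card F = 2 ^ (2 * m + 1) ∧
        Nonempty (G ≃* ↥(Cfsg.Lie.Sz F (2 ^ (m + 1))))) ∨
    (∃ (n : ℕ) (F : Type) (_ : Field F) (_ : Fintype F), 2 ≤ n ∧ Fintype.card F = 4 ^ n ∧
        Nonempty (G ≃* Cfsg.PSU 3 F (2 ^ n))) := by
  classical
  by_cases hab : ∀ S : Sylow 2 G, IsMulCommutative ↥(S : Subgroup G)
  · obtain ⟨S⟩ := (inferInstance : Nonempty (Sylow 2 G))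
    rcases main hG S (hab S) (hcent hab) with ⟨F, i1, i2, ⟨n, hn, hF⟩ | ⟨hF, -⟩, he⟩ |
        ⟨-, -, t, E, E₀, F, i1, i2, hprod, hle, hn, hc, hF, hF3, hP⟩
    · refine Or.inl ⟨F, i1, i2, Or.inl ?_, he⟩
      rw [hF, ← Nat.dvd_iff_mod_eq_zero]
      exact (show 8 = 2 ^ 3 by norm_num) ▸ pow_dvd_pow 2 hn
    · exact Or.inl ⟨F, i1, i2, Or.inr hF, he⟩
    · refine Or.inr (Or.inl ⟨hab, t, hP.ht, hcoat hab t F E₀ (by omega) hP, E, hprod, F, i1, i2, hP.odd, hF3,
        E₀.subgroupOf E, hn, ?_, ?_⟩)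
      · obtain ⟨e⟩ := hP.iso
        exact ⟨(subgroupOfEquivOfLe hle).trans e⟩
      · refine (eq_bot_iff_forall _).2 fun x hx => ?_
        have hx' : (x : G) ∈ E ⊓ centralizer (E₀ : Set G) := ⟨x.2, mem_centralizer_iff.2 fun y hy =>
          congrArg Subtype.val (mem_centralizer_iff.1 hx ⟨y, hle hy⟩ hy)⟩
        rw [hc, mem_bot] at hx'
        exact Subtype.ext hx'
  · have hnsol : ¬ Group.IsSolvable G := fun hs => by
      haveI := hs
      exact hG ⟨⟨IsSimpleGroup.comm_iff_isSolvable.2 inferInstance⟩⟩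
    rcases Cfsg.Agent.S3181.result hCI with ⟨hs, -⟩ | h | h | h
    · exact absurd hs hnsol
    · exact absurd h hab
    · obtain ⟨N, M, hN, hM, hNM, hlt, hodd, hMi, A, L, hAc, -, ⟨eL⟩, hAL, hsup⟩ := h
      exfalso
      haveI : Fact (Nat.Prime 5) := ⟨by norm_num⟩
      have hMtop : M = ⊤ := hM.eq_bot_or_eq_top.resolve_left (fun e => by
        rw [e] at hlt; exact not_lt_bot hlt)
      have hNbot : N = ⊥ := hN.eq_bot_or_eq_top.resolve_right (fun e => by
        rw [e] at hlt; exact not_top_lt hlt)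
      let π : ↥M →* ↥M ⧸ N.subgroupOf M := QuotientGroup.mk' _
      have hker : N.subgroupOf M = ⊥ := by rw [hNbot]; exact bot_subgroupOf _
      let eG : G ≃* ↥M ⧸ N.subgroupOf M :=
        (Subgroup.topEquiv.symm.trans (MulEquiv.subgroupCongr hMtop.symm)).trans
          ((QuotientGroup.quotientBot).symm.trans (QuotientGroup.quotientMulEquivOfEq hker.symm))
      haveI : IsSimpleGroup (↥M ⧸ N.subgroupOf M) := eG.symm.isSimpleGroup
      let c : Matrix.SpecialLinearGroup (Fin 2) (ZMod 5) := -1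
      have hc : ∀ l ∈ L, ((eL.symm c : ↥L) : ↥M ⧸ N.subgroupOf M) * l = l * (eL.symm c : ↥L) := fun l hl => by
        refine congrArg Subtype.val (eL.injective (?_ : eL (eL.symm c * ⟨l, hl⟩) = eL (⟨l, hl⟩ * eL.symm c)))
        rw [map_mul, map_mul, MulEquiv.apply_symm_apply]
        apply Subtype.ext
        simp [c]
      have hz : ((eL.symm c : ↥L) : ↥M ⧸ N.subgroupOf M) ∈ center (↥M ⧸ N.subgroupOf M) := by
        refine mem_center_iff.2 fun g => ?_
        have hle : A ⊔ L ≤ centralizer ({((eL.symm c : ↥L) : ↥M ⧸ N.subgroupOf M)} : Set _) :=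
          sup_le (fun a ha => mem_centralizer_singleton_iff.2 (hAL a ha _ (eL.symm c).2))
            (fun l hl => mem_centralizer_singleton_iff.2 (hc l hl).symm)
        exact mem_centralizer_singleton_iff.1 (hle (hsup ▸ mem_top g))
      rcases (inferInstance : (center (↥M ⧸ N.subgroupOf M)).Normal).eq_bot_or_eq_top with e | e
      · rw [e, mem_bot] at hz
        have : c = 1 := by
          have := congrArg eL (Subtype.ext hz : eL.symm c = 1)
          rwa [MulEquiv.apply_symm_apply, map_one] at this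
        have h00 : ((-1 : Matrix.SpecialLinearGroup (Fin 2) (ZMod 5)) : Matrix (Fin 2) (Fin 2) (ZMod 5)) 0 0 =
            ((1 : Matrix.SpecialLinearGroup (Fin 2) (ZMod 5)) : Matrix (Fin 2) (Fin 2) (ZMod 5)) 0 0 := by
          rw [show (-1 : Matrix.SpecialLinearGroup (Fin 2) (ZMod 5)) = 1 from this]
        simp at h00
        exact absurd h00 (by decide)
      · exact hG ⟨⟨fun a b => eG.injective (by
          rw [map_mul, map_mul]; exact mem_center_iff.1 (e ▸ mem_top (eG b)) (eG a))⟩⟩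
    · obtain ⟨M, hM, hMi, A, L, hAc, hA2, h⟩ := h
      have hMtop : M = ⊤ := hM.eq_bot_or_eq_top.resolve_left fun e => by
        rw [e, index_bot] at hMi
        exact hnsol (Cfsg.Agent.S0205.result hMi)
      have hAbot : ∀ (hAL : ∀ a ∈ A, ∀ l ∈ L, a * l = l * a), A ⊔ L = M → A = ⊥ := fun hAL hsup => by
        have hc : A ≤ center G := fun a ha => mem_center_iff.2 fun g => by
          have hle : A ⊔ L ≤ centralizer ({a} : Set G) := sup_le
            (fun b hb => mem_centralizer_singleton_iff.2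
              (congrArg Subtype.val (hAc.is_comm.comm (⟨b, hb⟩ : ↥A) ⟨a, ha⟩)))
            (fun l hl => mem_centralizer_singleton_iff.2 (hAL a ha l hl).symm)
          exact mem_centralizer_singleton_iff.1 (hle (hsup.trans hMtop ▸ mem_top g))
        refine le_bot_iff.1 (hc.trans ?_)
        rcases (inferInstance : (center G).Normal).eq_bot_or_eq_top with e | e
        · exact e.le
        · exact absurd ⟨⟨fun a b => mem_center_iff.1 (e ▸ mem_top b) a⟩⟩ hG
      rcases h with ⟨hd, hL⟩ | ⟨-, -, hAL, hsup, hperf, hZ, -⟩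
      · have hLtop : L = ⊤ := by
          have := hAbot hd.2.2.1 hd.2.2.2.2
          have hs := hd.2.2.2.2
          rw [this, bot_sup_eq] at hs
          rw [hs, hMtop]
        obtain ⟨eL⟩ : Nonempty (G ≃* ↥L) :=
          ⟨Subgroup.topEquiv.symm.trans (MulEquiv.subgroupCongr hLtop.symm)⟩
        rcases hL with ⟨m, F, i1, i2, hm, hF, ⟨e⟩⟩ | ⟨n, F, i1, i2, hn, hF, he⟩
        · exact Or.inr (Or.inr (Or.inl ⟨m, F, i1, i2, hm, hF, ⟨eL.trans e⟩⟩))
        rcases he with hP | hP
        · obtain ⟨e⟩ := hP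
          exact Or.inr (Or.inr (Or.inr ⟨n, F, i1, i2, hn, hF, ⟨eL.trans e⟩⟩))
        · obtain ⟨e⟩ := hP
          set φ := eL.trans e
          have hZ : center ↥(Cfsg.SU 3 F (2 ^ n)) = ⊥ := by
            refine (eq_bot_iff_forall _).2 fun z hz => ?_
            have hz' : φ.symm z ∈ center G := mem_center_iff.2 fun g => φ.injective (by
              rw [map_mul, map_mul, MulEquiv.apply_symm_apply]
              exact mem_center_iff.1 hz (φ g))
            rcases (inferInstance : (center G).Normal).eq_bot_or_eq_top with e' | e'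
            · rw [e', mem_bot] at hz'
              rw [← φ.apply_symm_apply z, hz', map_one]
            · exact absurd ⟨⟨fun a b => mem_center_iff.1 (e' ▸ mem_top b) a⟩⟩ hG
          exact Or.inr (Or.inr (Or.inr ⟨n, F, i1, i2, hn, hF, ⟨φ.trans
            (QuotientGroup.quotientBot.symm.trans (QuotientGroup.quotientMulEquivOfEq hZ.symm))⟩⟩))
      · exfalso
        have hLtop : L = ⊤ := by
          rw [hAbot hAL hsup, bot_sup_eq] at hsup
          rw [hsup, hMtop]
        obtain ⟨eL⟩ : Nonempty (↥L ≃* G) := ⟨(MulEquiv.subgroupCongr hLtop).trans Subgroup.topEquiv⟩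
        haveI : IsSimpleGroup ↥L := eL.isSimpleGroup
        rcases (inferInstance : (center ↥L).Normal).eq_bot_or_eq_top with e | e
        · exact hZ e
        · exact hG ⟨⟨fun a b => eL.symm.injective (by
            rw [map_mul, map_mul]; exact mem_center_iff.1 (e ▸ mem_top (eL.symm b)) (eL.symm a))⟩⟩

end Cfsg.Agent.Walter
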