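import Cfsg.Agent.Lib.Walter.Setting

/-!
# Components of commuting involutions

A component of `C(a)` centralised by the involution `b` lies in a component of `C(b)`; the maximal ones
are components of every centralising involution of `S`, and two of them are equal, commute, or have
centralisers meeting trivially in `S`.
-/

set_option autoImplicit false
set_option linter.unusedSectionVars false
set_option linter.style.haveILetI false

open Subgroup
open scoped Pointwise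

namespace Cfsg.Agent.Walter

variable {G : Type*} [Group G] [Finite G]

namespace CompSys

variable {S : Sylow 2 G} {comps : G → Set (Subgroup G)} (h : CompSys S comps)

include h

theorem comp_perfect {a : G} (ha : orderOf a = 2) {J : Subgroup G} (hJ : J ∈ comps a) : ⁅J, J⁆ = J :=
  perfect_of_simple (h.simple a ha J hJ).1 (h.simple a ha J hJ).2

theorem exists_comp_ge {a b : G} (haS : a ∈ (S : Subgroup G)) (ha : orderOf a = 2)
    (hbS : b ∈ (S : Subgroup G)) (hb : orderOf b = 2) {J : Subgroup G} (hJ : J ∈ comps a)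
    (hbJ : b ∈ centralizer (J : Set G)) : ∃ K ∈ comps b, J ≤ K := by
  classical
  by_contra hcon
  push Not at hcon
  obtain ⟨hJs, hJn⟩ := h.simple a ha J hJ
  have hJb : J ≤ centralizer ({b} : Set G) := fun x hx =>
    mem_centralizer_one.2 (mem_centralizer_comm.1 hbJ x hx).symm
  have hJE : J ≤ compSup comps b := h.perfect_le_compSup hbS hb (h.comp_perfect ha hJ) hJb
  suffices hall : ∀ K ∈ comps b, J ≤ centralizer (K : Set G) by
    refine hJn ⟨⟨fun x y => Subtype.ext ?_⟩⟩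
    have hE : compSup comps b ≤ centralizer ({(x : G)} : Set G) :=
      iSup₂_le fun K hK k hk => mem_centralizer_one.2 (mem_centralizer_comm.1 (hall K hK x.2) k hk).symm
    exact (mem_centralizer_one.1 (hE (hJE y.2))).symm
  intro K hK
  obtain ⟨hKs, hKn⟩ := h.simple b hb K hK
  have huniq : ∀ k ∈ K, ∀ l ∈ K, (∀ y ∈ K, k * y * k⁻¹ = l * y * l⁻¹) → k = l := fun k hk l hl he => by
    have h1 : l⁻¹ * k = 1 := eq_one_of_central hKs hKn (mul_mem (inv_mem hl) hk) fun y hy => by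
      calc l⁻¹ * k * y = l⁻¹ * (k * y * k⁻¹) * k := by group
        _ = y * (l⁻¹ * k) := by rw [he y hy]; group
    exact (eq_of_inv_mul_eq_one h1).symm
  let P : Subgroup G :=
    { carrier := {x | ∃ k ∈ K, ∀ y ∈ K, x * y * x⁻¹ = k * y * k⁻¹}
      mul_mem' := by
        rintro x₁ x₂ ⟨k₁, hk₁, e₁⟩ ⟨k₂, hk₂, e₂⟩
        refine ⟨k₁ * k₂, mul_mem hk₁ hk₂, fun y hy => ?_⟩
        rw [show x₁ * x₂ * y * (x₁ * x₂)⁻¹ = x₁ * (x₂ * y * x₂⁻¹) * x₁⁻¹ by group, e₂ y hy,
          e₁ _ (mul_mem (mul_mem hk₂ hy) (inv_mem hk₂))]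
        group
      one_mem' := ⟨1, one_mem _, fun y _ => rfl⟩
      inv_mem' := by
        rintro x ⟨k, hk, e⟩
        refine ⟨k⁻¹, inv_mem hk, fun y hy => ?_⟩
        calc x⁻¹ * y * x⁻¹⁻¹ = x⁻¹ * (k * (k⁻¹ * y * k) * k⁻¹) * x := by group
          _ = x⁻¹ * (x * (k⁻¹ * y * k) * x⁻¹) * x := by rw [e _ (mul_mem (mul_mem (inv_mem hk) hy) hk)]
          _ = k⁻¹ * y * k⁻¹⁻¹ := by group }
  have hEP : compSup comps b ≤ P := iSup₂_le fun K' hK' x hx => by
    by_cases e : K' = K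
    · exact ⟨x, e ▸ hx, fun y _ => rfl⟩
    · exact ⟨1, one_mem _, fun y hy => by
        rw [h.commute b hb K' hK' K hK e x hx y hy, mul_inv_cancel_right, one_mul, inv_one, mul_one]⟩
  choose! f hfK hf using fun x (hx : x ∈ J) => hEP (hJE hx)
  let φ : ↥J →* G :=
    { toFun := fun x => f x
      map_one' := huniq _ (hfK _ (one_mem J)) _ (one_mem K) fun y hy => by
        rw [← hf _ (one_mem J) y hy]
      map_mul' := fun x₁ x₂ => by
        refine huniq _ (hfK _ (J.mul_mem x₁.2 x₂.2)) _ (mul_mem (hfK _ x₁.2) (hfK _ x₂.2)) fun y hy => ?_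
        show f ((x₁ * x₂ : ↥J) : G) * y * (f ((x₁ * x₂ : ↥J) : G))⁻¹ = _
        rw [← hf _ (x₁ * x₂ : ↥J).2 y hy, Subgroup.coe_mul,
          show (x₁ : G) * x₂ * y * ((x₁ : G) * x₂)⁻¹ = x₁ * (x₂ * y * (x₂ : G)⁻¹) * (x₁ : G)⁻¹ by group,
          hf _ x₂.2 y hy, hf _ x₁.2 _ (mul_mem (mul_mem (hfK _ x₂.2) hy) (inv_mem (hfK _ x₂.2)))]
        group }
  set D := φ.range with hD
  have hDK : D ≤ K := by rintro _ ⟨x, rfl⟩; exact hfK _ x.2
  have hDp : ⁅D, D⁆ = D := by
    rw [hD, MonoidHom.range_eq_map, ← map_commutator, ← _root_.commutator_def]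
    congr 1
    rcases (inferInstance : (commutator ↥J).Normal).eq_bot_or_eq_top with hc | hc
    · exact absurd ⟨⟨fun a b => commutatorElement_eq_one_iff_mul_comm.1 (mem_bot.1
        (hc ▸ commutator_mem_commutator (mem_top a) (mem_top b)))⟩⟩ hJn
    · exact hc
  have haK := h.sylow_normalizes hbS hb hK haS
  have hDa : D ≤ centralizer ({a} : Set G) := by
    rintro _ ⟨x, rfl⟩
    have hxa : (x : G) * a = a * x := mem_centralizer_one.1 (h.le a ha J hJ x.2)
    have hk := hfK _ x.2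
    have e : a * f x * a⁻¹ = f x := huniq _ ((mem_normalizer_iff.1 haK _).1 hk) _ hk fun y hy => by
      calc a * f x * a⁻¹ * y * (a * f x * a⁻¹)⁻¹ = a * (f x * (a⁻¹ * y * a) * (f x)⁻¹) * a⁻¹ := by group
        _ = a * ((x : G) * (a⁻¹ * y * a) * (x : G)⁻¹) * a⁻¹ := by
          rw [hf _ x.2 (a⁻¹ * y * a) ((mem_normalizer_iff''.1 haK y).1 hy)]
        _ = (x : G) * y * (x : G)⁻¹ := by
          rw [show a * ((x : G) * (a⁻¹ * y * a) * (x : G)⁻¹) * a⁻¹
            = a * (x : G) * a⁻¹ * y * (a * (x : G) * a⁻¹)⁻¹ by group, ← hxa, mul_inv_cancel_right]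
        _ = f x * y * (f x)⁻¹ := hf _ x.2 y hy
    exact mem_centralizer_one.2 (by
      show f x * a = a * f x
      conv_lhs => rw [← e]
      rw [inv_mul_cancel_right])
  have hDJ : D ≤ normalizer (J : Set G) :=
    (h.perfect_le_compSup haS ha hDp hDa).trans (h.compSup_normalizes ha hJ)
  have hJK : J ≤ normalizer (K : Set G) := hJE.trans (h.compSup_normalizes hb hK)
  have hmeet := (le_or_disjoint hJs hJK).resolve_left (hcon K hK)
  have hcomm : ∀ x ∈ J, ∀ d ∈ D, x * d = d * x := fun x hx d hd => by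
    have h1 : x * d * x⁻¹ * d⁻¹ ∈ J := by
      rw [show x * d * x⁻¹ * d⁻¹ = x * (d * x⁻¹ * d⁻¹) by group]
      exact mul_mem hx ((mem_normalizer_iff.1 (hDJ hd) _).1 (inv_mem hx))
    have h2 : x * d * x⁻¹ * d⁻¹ ∈ K :=
      mul_mem ((mem_normalizer_iff.1 (hJK hx) d).1 (hDK hd)) (inv_mem (hDK hd))
    calc x * d = x * d * x⁻¹ * d⁻¹ * (d * x) := by group
      _ = d * x := by rw [hmeet _ h1 h2, one_mul]
  have hab : ∀ d ∈ D, ∀ d' ∈ D, d * d' = d' * d := fun d hd _ hd' => by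
    obtain ⟨x, rfl⟩ := hd'
    have e : d * f x * d⁻¹ = f x := huniq _
      (mul_mem (mul_mem (hDK hd) (hfK _ x.2)) (inv_mem (hDK hd))) _ (hfK _ x.2) fun y hy => by
      calc d * f x * d⁻¹ * y * (d * f x * d⁻¹)⁻¹ = d * (f x * (d⁻¹ * y * d) * (f x)⁻¹) * d⁻¹ := by group
        _ = d * ((x : G) * (d⁻¹ * y * d) * (x : G)⁻¹) * d⁻¹ := by
          rw [hf _ x.2 _ (mul_mem (mul_mem (inv_mem (hDK hd)) hy) (hDK hd))]
        _ = (x : G) * y * (x : G)⁻¹ := by
          rw [show d * ((x : G) * (d⁻¹ * y * d) * (x : G)⁻¹) * d⁻¹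
            = d * (x : G) * d⁻¹ * y * (d * (x : G) * d⁻¹)⁻¹ by group, ← hcomm _ x.2 _ hd, mul_inv_cancel_right]
        _ = f x * y * (f x)⁻¹ := hf _ x.2 y hy
    show d * f x = f x * d
    conv_rhs => rw [← e]
    rw [inv_mul_cancel_right]
  have hbot : D = ⊥ := by
    rw [← hDp, commutator_eq_bot_iff_le_centralizer]
    exact fun d hd => mem_centralizer_comm.2 fun d' hd' => hab d hd d' hd'
  intro x hx
  refine mem_centralizer_comm.2 fun y hy => ?_
  have h1 : f x = 1 := mem_bot.1 (hbot ▸ (⟨⟨x, hx⟩, rfl⟩ : f x ∈ D))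
  have h2 := hf x hx y hy
  rw [h1, one_mul, inv_one, mul_one] at h2
  calc x * y = x * y * x⁻¹ * x := by group
    _ = y * x := by rw [h2]

omit h in
/-- A component at some involution of `S`. -/
def IsComp (S : Sylow 2 G) (comps : G → Set (Subgroup G)) (J : Subgroup G) : Prop :=
  ∃ a ∈ (S : Subgroup G), orderOf a = 2 ∧ J ∈ comps a

omit h in
/-- A maximal component. -/
def IsMax (S : Sylow 2 G) (comps : G → Set (Subgroup G)) (J : Subgroup G) : Prop :=
  IsComp S comps J ∧ ∀ K, IsComp S comps K → J ≤ K → J = K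

theorem exists_max {J : Subgroup G} (hJ : IsComp S comps J) : ∃ M, IsMax S comps M ∧ J ≤ M := by
  obtain ⟨M, hJM, hM⟩ := Set.Finite.exists_le_maximal (Set.toFinite {K | IsComp S comps K}) hJ
  exact ⟨M, ⟨hM.1, fun K hK hle => le_antisymm hle (hM.2 hK hle)⟩, hJM⟩

theorem IsMax.mem_comps {J : Subgroup G} (hJ : IsMax S comps J) {b : G} (hbS : b ∈ (S : Subgroup G))
    (hb : orderOf b = 2) (hbJ : b ∈ centralizer (J : Set G)) : J ∈ comps b := by
  obtain ⟨a, haS, ha, hJa⟩ := hJ.1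
  obtain ⟨K, hK, hle⟩ := h.exists_comp_ge haS ha hbS hb hJa hbJ
  exact hJ.2 K ⟨b, hbS, hb, hK⟩ hle ▸ hK

theorem comp_conj {J : Subgroup G} (hJ : IsComp S comps J) {n : G}
    (hn : n ∈ normalizer ((S : Subgroup G) : Set G)) : IsComp S comps (MulAut.conj n • J) := by
  obtain ⟨a, haS, ha, hJa⟩ := hJ
  refine ⟨n * a * n⁻¹, (mem_normalizer_iff.1 hn a).1 haS, ?_, h.conj a n ha J hJa⟩
  rw [← ha]
  exact (MulAut.conj n).orderOf_eq a

theorem max_conj {J : Subgroup G} (hJ : IsMax S comps J) {n : G}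
    (hn : n ∈ normalizer ((S : Subgroup G) : Set G)) : IsMax S comps (MulAut.conj n • J) := by
  refine ⟨h.comp_conj hJ.1 hn, fun K hK hle => ?_⟩
  have hle' : J ≤ MulAut.conj n⁻¹ • K := fun x hx => by
    rw [mem_conj, inv_inv]
    exact hle (conj_mem_conj hx)
  rw [hJ.2 _ (h.comp_conj hK (inv_mem hn)) hle', smul_smul, ← map_mul, mul_inv_cancel, map_one, one_smul]

/-- Two maximal components are equal, commute, or have disjoint centralisers in `S`. -/
theorem max_pair {J J' : Subgroup G} (hJ : IsMax S comps J) (hJ' : IsMax S comps J') :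
    J = J' ∨ (∀ x ∈ J, ∀ y ∈ J', x * y = y * x) ∨
      ∀ v ∈ (S : Subgroup G), v ∈ centralizer (J : Set G) → v ∈ centralizer (J' : Set G) → v = 1 := by
  by_cases hv : ∀ v ∈ (S : Subgroup G), v ∈ centralizer (J : Set G) → v ∈ centralizer (J' : Set G) → v = 1
  · exact Or.inr (Or.inr hv)
  · push Not at hv
    obtain ⟨v, hvS, hvJ, hvJ', hv1⟩ := hv
    by_cases hjj : J = J'
    · exact Or.inl hjj
    refine Or.inr (Or.inl ?_)
    obtain ⟨k, hk⟩ : ∃ k : ℕ, orderOf v = 2 ^ (k + 1) := by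
      haveI : Fact (Nat.Prime 2) := ⟨Nat.prime_two⟩
      obtain ⟨i, hi⟩ := IsPGroup.iff_orderOf.1 S.2 ⟨v, hvS⟩
      rw [orderOf_mk] at hi
      rcases i with _ | i
      · exact absurd (orderOf_eq_one_iff.1 hi) hv1
      · exact ⟨i, hi⟩
    have hz : orderOf (v ^ 2 ^ k) = 2 := by
      rw [orderOf_pow' _ (by positivity), hk, Nat.gcd_eq_right (pow_dvd_pow 2 k.le_succ), pow_succ,
        Nat.mul_div_cancel_left _ (by positivity)]
    exact h.commute _ hz J (hJ.mem_comps h (pow_mem hvS _) hz (pow_mem hvJ _))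
      J' (hJ'.mem_comps h (pow_mem hvS _) hz (pow_mem hvJ' _)) hjj

end CompSys

end Cfsg.Agent.Walter
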