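import Cfsg.Agent.Lib.Walter.Master
import Cfsg.Agent.Lib.Walter.Core.ThreeDefs

/-!
# What `GoodBelow` supplies
-/

set_option autoImplicit false

namespace Cfsg.Agent.Walter

open Cfsg.Agent.SEAbelian

universe u

theorem listed_below {n : ℕ} (hb : GoodBelow.{u} n) :
    ∀ (T : Type u) [Group T] [Finite T], IsSimpleGroup T → ¬ IsMulCommutative T → AbTwo T →
      Nat.card T < n → Listed T := fun T _ _ hs hn hab hlt => (hb T hs hn hab hlt).listed

theorem threeBelow {n : ℕ} (hb : GoodBelow.{u} n) : Core.ThreeBelow.{u} n :=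
  fun T _ _ hs hn hab hlt _ hns => (hb T hs hn hab hlt).core hns

/-- The socles of the sections are known. -/
theorem knownSocle_below {n : ℕ} (hb : GoodBelow.{u} n) {X : Type u} [Group X] [Finite X] (hX : AbTwo X)
    (hn : Nat.card X < n) (T : Subgroup X) (hs : IsSimpleGroup ↥T) (hnc : ¬ IsMulCommutative ↥T) :
    NoTrans.KnownSocle ↥T :=
  (hb ↥T hs hnc (hX.subgroup T) ((Subgroup.card_le_card_group T).trans_lt hn)).socle

end Cfsg.Agent.Walter
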