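import Mathlib

/-!
# `PSL(2, q)`, `q` a power of three and `-1` a non-square: no involution inverts an element of order three
-/

set_option autoImplicit false

open Matrix

namespace Cfsg.Agent.Walter

universe u

variable {K : Type u} [Field K]

theorem slTwo_mem_center {A : Matrix.SpecialLinearGroup (Fin 2) K} (h01 : A.1 0 1 = 0) (h10 : A.1 1 0 = 0)
    (h : A.1 0 0 = A.1 1 1) : A ∈ Subgroup.center (Matrix.SpecialLinearGroup (Fin 2) K) := by
  refine Subgroup.mem_center_iff.2 fun B => Subtype.ext ?_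
  show B.1 * A.1 = A.1 * B.1
  ext i j
  fin_cases i <;> fin_cases j <;> simp [Matrix.mul_apply, Fin.sum_univ_two, h01, h10, h] <;> ring

theorem slTwo_center_entries {A : Matrix.SpecialLinearGroup (Fin 2) K}
    (hA : A ∈ Subgroup.center (Matrix.SpecialLinearGroup (Fin 2) K)) :
    A.1 0 1 = 0 ∧ A.1 1 0 = 0 ∧ A.1 0 0 = A.1 1 1 ∧ A.1 0 0 * A.1 0 0 = 1 := by
  obtain ⟨r, hr, e⟩ := Matrix.SpecialLinearGroup.mem_center_iff.1 hA
  simp [← e, ← pow_two, show r ^ 2 = 1 by simpa using hr]

theorem pslTwo_not_inverted (h3 : (3 : K) = 0) (hsq : ∀ a : K, a * a ≠ -1)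
    (s x : Matrix.ProjectiveSpecialLinearGroup (Fin 2) K) (hs : orderOf s = 2)
    (hsx : s * x * s⁻¹ = x⁻¹) (hx : x ^ 3 = 1) : x = 1 := by
  obtain ⟨S, rfl⟩ := QuotientGroup.mk_surjective s
  obtain ⟨X, rfl⟩ := QuotientGroup.mk_surjective x
  have h2 : (2 : K) ≠ 0 := fun e => one_ne_zero (α := K) (by linear_combination h3 - e)
  have hSS : S * S ∈ Subgroup.center _ := by
    rw [← QuotientGroup.eq_one_iff, QuotientGroup.mk_mul, ← pow_two]
    simpa [hs] using pow_orderOf_eq_one (S : Matrix.ProjectiveSpecialLinearGroup (Fin 2) K)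
  have hS : S ∉ Subgroup.center _ := fun h => by
    rw [(QuotientGroup.eq_one_iff S).2 h, orderOf_one] at hs
    omega
  have hXXX : X ^ 3 ∈ Subgroup.center _ := by
    rw [← QuotientGroup.eq_one_iff, QuotientGroup.mk_pow, hx]
  have hR : S * X * S⁻¹ * X ∈ Subgroup.center _ := by
    rw [← QuotientGroup.eq_one_iff]
    simp only [QuotientGroup.mk_mul, QuotientGroup.mk_inv]
    rw [hsx, inv_mul_cancel]
  refine (QuotientGroup.eq_one_iff X).2 ?_
  obtain ⟨hz01, hz10, hz, hz1⟩ := slTwo_center_entries hR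
  set Z := S * X * S⁻¹ * X with hZ
  have hrel : S * X = Z * X⁻¹ * S := by rw [hZ]; group
  have hrel' : S.1 * X.1 = Z.1 * (X⁻¹).1 * S.1 := congrArg Subtype.val hrel
  obtain ⟨hq01, hq10, hq, -⟩ := slTwo_center_entries hSS
  obtain ⟨hc01, hc10, hc, hc1⟩ := slTwo_center_entries hXXX
  have hSdet : S.1 0 0 * S.1 1 1 - S.1 0 1 * S.1 1 0 = 1 := by rw [← det_fin_two]; exact S.2
  have hXdet : X.1 0 0 * X.1 1 1 - X.1 0 1 * X.1 1 0 = 1 := by rw [← det_fin_two]; exact X.2
  have e00 := congrFun (congrFun hrel' 0) 0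
  have e01 := congrFun (congrFun hrel' 0) 1
  have e10 := congrFun (congrFun hrel' 1) 0
  have e11 := congrFun (congrFun hrel' 1) 1
  simp [Matrix.mul_apply, Fin.sum_univ_two, Matrix.SpecialLinearGroup.coe_inv, Matrix.adjugate_fin_two,
    hz01, hz10, ← hz] at e00 e01 e10 e11
  simp [pow_succ, Matrix.mul_apply, Fin.sum_univ_two] at hc01 hc10 hc hc1
  simp [Matrix.mul_apply, Fin.sum_univ_two] at hq01 hq10 hq
  generalize Z.1 0 0 = z at e00 e01 e10 e11 hz1
  -- the trace of `S` vanishes
  have hσ : S.1 0 0 + S.1 1 1 = 0 := by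
    by_contra hne
    refine hS (slTwo_mem_center ?_ ?_ ?_)
    · exact (mul_eq_zero.1 (show (S.1 0 0 + S.1 1 1) * S.1 0 1 = 0 by linear_combination hq01)).resolve_left hne
    · exact (mul_eq_zero.1 (show (S.1 0 0 + S.1 1 1) * S.1 1 0 = 0 by linear_combination hq10)).resolve_left hne
    · exact sub_eq_zero.1 ((mul_eq_zero.1
        (show (S.1 0 0 + S.1 1 1) * (S.1 0 0 - S.1 1 1) = 0 by linear_combination hq)).resolve_left hne)
  have hd : S.1 1 1 = -S.1 0 0 := by linear_combination hσ
  simp only [hd] at hSdet e00 e01 e10 e11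
  set a := S.1 0 0
  set b := S.1 0 1
  set c := S.1 1 0
  set p := X.1 0 0
  set v := X.1 0 1
  set w := X.1 1 0
  set r := X.1 1 1
  by_cases hτ : (p + r) * (p + r) - 1 = 0
  swap
  · refine slTwo_mem_center ?_ ?_ ?_
    · exact (mul_eq_zero.1 (show ((p + r) * (p + r) - 1) * v = 0 by
        linear_combination hc01 + v * hXdet)).resolve_left hτ
    · exact (mul_eq_zero.1 (show ((p + r) * (p + r) - 1) * w = 0 by
        linear_combination hc10 + w * hXdet)).resolve_left hτ
    · exact sub_eq_zero.1 ((mul_eq_zero.1 (show ((p + r) * (p + r) - 1) * (p - r) = 0 by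
        linear_combination hc + (p - r) * hXdet)).resolve_left hτ)
  have hτ0 : p + r ≠ 0 := fun e => one_ne_zero (α := K) (by linear_combination (p + r) * e - hτ)
  -- `S` maps `X` to its inverse, not to minus the inverse
  have hz' : z = 1 := by
    rcases mul_self_eq_one_iff.1 hz1 with h | h
    · exact h
    exfalso
    subst h
    have k0 : a * (p + r) + b * w - c * v = 0 := by
      refine (mul_eq_zero.1 (show (2 : K) * _ = 0 from ?_)).resolve_left h2
      linear_combination e00 - e11
    have k1 : a * v + b * r = 0 := by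
      refine (mul_eq_zero.1 (show (2 : K) * _ = 0 from ?_)).resolve_left h2
      linear_combination e01
    have k2 : c * p - a * w = 0 := by
      refine (mul_eq_zero.1 (show (2 : K) * _ = 0 from ?_)).resolve_left h2
      linear_combination e10
    exact hτ0 (by linear_combination -a * k0 - b * k2 - c * k1 - (p + r) * hSdet)
  subst hz'
  have hL : a * (p - r) + b * w + c * v = 0 := by
    refine (mul_eq_zero.1 (show (2 : K) * _ = 0 from ?_)).resolve_left h2
    linear_combination e00 + e11
  have hdd : (p - r) * (p - r) + 4 * (v * w) = 0 := by linear_combination hτ - 4 * hXdet - h3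
  have hv : v = 0 := by
    by_contra hne
    refine hsq ((b * (p - r) - 2 * a * v) / (2 * v)) ?_
    field_simp
    linear_combination b ^ 2 * hdd - 4 * v * b * hL - 4 * v ^ 2 * hSdet
  have hw : w = 0 := by
    by_contra hne
    refine hsq ((c * (p - r) - 2 * a * w) / (2 * w)) ?_
    field_simp
    linear_combination c ^ 2 * hdd - 4 * w * c * hL - 4 * w ^ 2 * hSdet
  refine slTwo_mem_center hv hw ?_
  exact sub_eq_zero.1 (mul_self_eq_zero.1 (show (p - r) * (p - r) = 0 by linear_combination hdd - 4 * w * hv))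

end Cfsg.Agent.Walter
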