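import Cfsg.Agent.Lib.Walter.RowsConditional
import Cfsg.Agent.Lib.Walter.ComponentsKnown
import Cfsg.Agent.Lib.Walter.Field.Local
import Cfsg.Agent.Lib.Walter.CoatomSL
import Cfsg.Agent.Lib.Classical.SmallIso
import Cfsg.Agent.Lib.Cores.Basic

/-!
# The centraliser `C₂ × PSL(2, q)` of an involution in a simple group is maximal

By S0343 the order of the group is determined by `q`.  An overgroup `M` of `C(t)` has no odd core (the
primes of `[G : C(t)]` allow no element inverted by two commuting involutions), `t` is not isolated in `M`,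
and the normal closure of `t` in `M` is simple with the same centraliser, so of the same order as `G`.
-/

set_option autoImplicit false
set_option linter.unusedSectionVars false
set_option linter.style.haveILetI false

open Subgroup

namespace Cfsg.Agent.Walter

open Cfsg.Agent.SEAbelian

universe u

variable {G : Type u} [Group G] [Finite G]

theorem isConj_of_oneTwoClass (h1 : OneTwoClass G) {u v : G} (hu : orderOf u = 2) (hv : orderOf v = 2) :
    IsConj u v := by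
  haveI : Fact (Nat.Prime 2) := ⟨Nat.prime_two⟩
  have hP : ∀ i : G, orderOf i = 2 → ∃ P : Sylow 2 G, i ∈ (P : Subgroup G) := fun i hi =>
    (IsPGroup.of_card (n := 1) (G := zpowers i) (by rw [Nat.card_zpowers, hi, pow_one])).exists_le_sylow.imp
      fun P hP => hP (mem_zpowers i)
  obtain ⟨P, hP'⟩ := hP u hu
  obtain ⟨Q, hQ⟩ := hP v hv
  obtain ⟨g, hg⟩ := MulAction.exists_smul_eq G Q P
  have hvP : g * v * g⁻¹ ∈ (P : Subgroup G) := by
    rw [← hg, Sylow.coe_subgroup_smul]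
    exact ⟨v, hQ, rfl⟩
  obtain ⟨n, -, hn⟩ := h1 P u hP' _ hvP (ne_one_of_orderOf_two hu)
    (fun e => ne_one_of_orderOf_two hv (conj_eq_one_iff.1 e))
  refine isConj_iff.2 ⟨g⁻¹ * n, ?_⟩
  rw [show g⁻¹ * n * u * (g⁻¹ * n)⁻¹ = g⁻¹ * (n * u * n⁻¹) * g by group, hn]
  group

theorem orderOf_two_of_oneTwoClass (h1 : OneTwoClass G) {S : Sylow 2 G} {x : G} (hx : x ∈ (S : Subgroup G))
    (hx1 : x ≠ 1) : orderOf x = 2 := by
  obtain ⟨k, hk⟩ := exists_two_pow hx
  obtain ⟨j, hj⟩ := exists_involution_pow hk hx1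
  obtain ⟨n, -, hn⟩ := h1 S (x ^ j) (pow_mem hx j) x hx (ne_one_of_orderOf_two hj) hx1
  rw [← hn, ← hj]
  exact (MulAut.conj n).orderOf_eq _

theorem mem_normalizer_of_conj {H : Subgroup G} {g : G} (h : ∀ x ∈ H, g * x * g⁻¹ ∈ H) :
    g ∈ normalizer (H : Set G) := by
  refine mem_normalizer_iff.2 fun x => ⟨h x, fun hx => ?_⟩
  have hpow : ∀ n : ℕ, ∀ y ∈ H, g ^ n * y * (g ^ n)⁻¹ ∈ H := by
    intro n
    induction n with
    | zero => intro y hy; simpa using hy
    | succ n ih =>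
      intro y hy
      rw [show g ^ (n + 1) * y * (g ^ (n + 1))⁻¹ = g * (g ^ n * y * (g ^ n)⁻¹) * g⁻¹ by rw [pow_succ']; group]
      exact h _ (ih y hy)
  have hinv : g ^ (orderOf g - 1) = g⁻¹ := eq_inv_of_mul_eq_one_left (by
    rw [← pow_succ, Nat.sub_add_cancel (orderOf_pos g), pow_orderOf_eq_one])
  have := hpow (orderOf g - 1) _ hx
  rwa [hinv, show g⁻¹ * (g * x * g⁻¹) * g⁻¹⁻¹ = x by group] at this

/-- What the proof uses of the centraliser of `t`. -/
structure CoatomSetup (t : G) (K : Type) [Field K] [Fintype K] (E₀ : Subgroup G) : Prop where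
  two : AbTwo G
  one : OneTwoClass G
  psl : Field.TwoPSL t K E₀
  five : 5 ≤ Fintype.card K
  eq : centralizer ({t} : Set G) = zpowers t ⊔ E₀
  four : ∀ S : Sylow 2 G, 4 ≤ Nat.card ↥(S : Subgroup G)
  small : ∀ S : Sylow 2 G, Nat.card ↥(S : Subgroup G) ≤ 8

namespace CoatomSetup

variable {t : G} {K : Type} [Field K] [Fintype K] {E₀ : Subgroup G} (h : CoatomSetup t K E₀)
include h

theorem simple : IsSimpleGroup ↥E₀ := by
  haveI : IsSimpleGroup (Matrix.ProjectiveSpecialLinearGroup (Fin 2) K) :=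
    Classical.Linear.isSimpleGroup_PSL_fin le_rfl fun _ => by have := h.five; omega
  obtain ⟨e⟩ := h.psl.iso
  exact e.isSimpleGroup

theorem card_E : 2 * Nat.card ↥E₀ =
    Fintype.card K * ((Fintype.card K - 1) * (Fintype.card K + 1)) := by
  obtain ⟨e⟩ := h.psl.iso
  have hq := Classical.SmallIso.natCard_pslTwo K
  obtain ⟨k, hk⟩ := h.psl.odd
  rw [Classical.GL2.natCard_SL_two, show Nat.gcd 2 (Fintype.card K - 1) = 2 from
    Nat.gcd_eq_left ⟨k, by omega⟩] at hq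
  rw [Nat.card_congr e.toEquiv, hq]

theorem not_comm : ¬ IsMulCommutative ↥E₀ := fun hc => by
  haveI := hc
  haveI := h.simple
  letI : CommGroup ↥E₀ := { (inferInstance : Group ↥E₀) with mul_comm := fun a b => mul_comm' a b }
  have hp := IsSimpleGroup.prime_card (α := ↥E₀)
  have hc := h.card_E
  obtain ⟨k, hk⟩ := h.psl.odd
  have h5 := h.five
  rw [hk, show 2 * k + 1 - 1 = 2 * k by omega] at hc
  have h2 : 2 ∣ Nat.card ↥E₀ := ⟨(2 * k + 1) * (k * (k + 1)), by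
    linarith [show (2 * k + 1) * (2 * k * (2 * k + 1 + 1)) = 4 * ((2 * k + 1) * (k * (k + 1))) by ring]⟩
  have := (Nat.prime_dvd_prime_iff_eq Nat.prime_two hp).1 h2
  nlinarith [show 2 ≤ k by omega, Nat.mul_le_mul (show 5 ≤ 2 * k + 1 by omega) (Nat.mul_le_mul (show 4 ≤ 2 * k by omega) (show 1 ≤ 2 * k + 1 + 1 by omega))]

theorem comm_E {e : G} (he : e ∈ E₀) : Commute e t := mem_centralizer_singleton_iff.1 (h.psl.le he)

theorem split {g : G} (hg : Commute g t) : ∃ e ∈ E₀, g = e ∨ g = e * t := by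
  have hg' : g ∈ zpowers t ⊔ E₀ := h.eq ▸ mem_centralizer_singleton_iff.2 hg.eq
  have hn : E₀ ≤ normalizer (zpowers t : Set G) := fun e he =>
    centralizer_le_normalizer (zpowers t : Set G) (mem_centralizer_comm.2 fun y hy => by
      obtain ⟨i, rfl⟩ := hy
      exact ((h.comm_E he).zpow_right i).eq)
  rw [← SetLike.mem_coe, coe_mul_of_right_le_normalizer_left _ _ hn] at hg'
  obtain ⟨a, ⟨i, rfl⟩, e, he, rfl⟩ := hg'
  refine ⟨e, he, ?_⟩
  show t ^ i * e = e ∨ t ^ i * e = e * t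
  rw [← ((h.comm_E he).zpow_right i).eq]
  have h2 : t ^ (2 : ℤ) = 1 := by simp [orderOf_dvd_iff_pow_eq_one.1 h.psl.ht.dvd]
  rcases Int.even_or_odd i with ⟨k, rfl⟩ | ⟨k, rfl⟩
  · left; rw [← two_mul, zpow_mul, h2, one_zpow, mul_one]
  · right; rw [zpow_add, zpow_mul, h2, one_zpow, one_mul, zpow_one]

theorem card_C : Nat.card ↥(centralizer ({t} : Set G)) =
    Fintype.card K * ((Fintype.card K - 1) * (Fintype.card K + 1)) := by
  obtain ⟨e⟩ := nonempty_centralizer_equiv h.psl h.eq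
  obtain ⟨e'⟩ := h.psl.iso
  rw [Nat.card_congr e.toEquiv, Nat.card_prod, Nat.card_congr Multiplicative.toAdd, Nat.card_zmod,
    ← Nat.card_congr e'.toEquiv, h.card_E]

theorem fused {u v : G} (hu : orderOf u = 2) (hv : orderOf v = 2) : IsConj u v :=
  isConj_of_oneTwoClass h.one hu hv

/-- A prime not dividing `|C(t)|`: nothing to invert. -/
theorem noReal_of_not_dvd {r : ℕ} (hr : r.Prime) (hd : ¬ r ∣ Nat.card ↥(centralizer ({t} : Set G))) :
    Field.NoReal G r := by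
  intro i s g hi _ _ _ hgi _ hgr
  obtain ⟨c, hc⟩ := isConj_iff.1 (h.fused h.psl.ht hi)
  rcases (Nat.dvd_prime hr).1 (orderOf_dvd_of_pow_eq_one hgr) with e | e
  · exact orderOf_eq_one_iff.1 e
  refine absurd ?_ hd
  have hmem : c⁻¹ * g * c ∈ centralizer ({t} : Set G) := by
    refine mem_centralizer_singleton_iff.2 ?_
    have ht : t = c⁻¹ * i * c := by rw [← hc]; group
    rw [ht, show c⁻¹ * g * c * (c⁻¹ * i * c) = c⁻¹ * (g * i) * c by group,
      show c⁻¹ * i * c * (c⁻¹ * g * c) = c⁻¹ * (i * g) * c by group, hgi.eq]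
  have ho : orderOf (c⁻¹ * g * c) = r := by
    rw [← e, ← (MulAut.conj c⁻¹).orderOf_eq g, MulAut.conj_apply, inv_inv]
  rw [← ho]
  exact orderOf_dvd_natCard _ hmem

/-- The primes of `[G : C(t)]`. -/
theorem noReal [IsSimpleGroup G] {r : ℕ} (hr : r.Prime) (hd : r ∣ (centralizer ({t} : Set G)).index) :
    Field.NoReal G r := by
  have hab : ∀ P : Sylow 2 G, ∀ a b : P, a * b = b * a := fun P a b =>
    Subtype.ext (h.two _ P.2 a a.2 b b.2).eq
  have hmul := (centralizer ({t} : Set G)).card_mul_index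
  rcases Cfsg.Agent.S0343.result hab (by have := h.five; omega) t h.psl.ht
    (nonempty_centralizer_equiv h.psl h.eq) with ⟨m, hm, hq, hG⟩ | ⟨hq, hJ⟩
  · -- small Ree order
    by_cases hr3 : r = 3
    · subst hr3
      have h3 : (3 : K) = 0 := by
        have h0 := Nat.cast_card_eq_zero K
        rw [hq, Nat.cast_pow] at h0
        exact_mod_cast eq_zero_of_pow_eq_zero h0
      have h4 : Fintype.card K % 4 = 3 := by
        rw [hq, pow_succ, pow_mul, Nat.mul_mod, Nat.pow_mod]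
        norm_num
      obtain ⟨e⟩ := h.psl.iso
      refine Field.Emb.noReal_of (φ := E₀.subtype.comp e.symm.toMonoidHom) (t := t) ?_ ?_ ⟨1, rfl⟩
      · exact ⟨h.two, h.psl.ht, E₀.subtype_injective.comp e.symm.injective, fun x => h.comm_E (e.symm x).2,
          fun g hg => by
            obtain ⟨x, hx, hgx⟩ := h.split hg
            exact ⟨e ⟨x, hx⟩, by simpa using hgx⟩,
          fun x hx => h.psl.t_not (hx ▸ (e.symm x).2), fun y hy => h.fused h.psl.ht hy⟩
      · exact pslTwo_not_inverted h3 fun a ha => FiniteField.isSquare_neg_one_iff.1 ⟨a, ha.symm⟩ h4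
    refine h.noReal_of_not_dvd hr fun hC => ?_
    rw [h.card_C] at hC hmul
    rw [hG, ← hq] at hmul
    obtain ⟨k, hk⟩ : ∃ k, Fintype.card K = k + 1 := ⟨Fintype.card K - 1, by have := h.five; omega⟩
    rw [hk, Nat.add_sub_cancel] at hmul hC
    have hidx : (centralizer ({t} : Set G)).index = (k + 1) * (k + 1) * (k * (k + 1) + 1) := by
      refine Nat.eq_of_mul_eq_mul_left ?_ (hmul.trans ?_)
      · have := h.five
        have : 0 < k := by omega
        positivity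
      · ring
    rw [hidx] at hd
    have hrq : ¬ r ∣ k + 1 := fun e => hr3
      ((Nat.prime_dvd_prime_iff_eq hr Nat.prime_three).1 (hr.dvd_of_dvd_pow (hq ▸ hk ▸ e)))
    have hd' : r ∣ k * (k + 1) + 1 := ((Nat.Prime.dvd_mul hr).1 hd).resolve_left fun e =>
      hrq (((Nat.Prime.dvd_mul hr).1 e).elim id id)
    rcases (Nat.Prime.dvd_mul hr).1 hC with e | e
    · exact hrq e
    rcases (Nat.Prime.dvd_mul hr).1 e with e | e
    · exact hr.ne_one (Nat.dvd_one.1 ((Nat.dvd_add_right (Dvd.dvd.mul_right e _)).1 hd'))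
    · have h2 : r ∣ 3 * (k + 1) := by
        refine (Nat.dvd_add_right hd').1 ?_
        rw [show k * (k + 1) + 1 + 3 * (k + 1) = (k + 1 + 1) * (k + 1 + 1) by ring]
        exact Dvd.dvd.mul_right e _
      rcases (Nat.Prime.dvd_mul hr).1 h2 with e' | e'
      · exact hr3 ((Nat.prime_dvd_prime_iff_eq hr Nat.prime_three).1 e')
      · exact hrq e'
  · have h5 : Fintype.card K = 5 := hq.resolve_left fun e => by have := h.five; omega
    refine h.noReal_of_not_dvd hr fun hC => ?_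
    rw [h.card_C, h5] at hC hmul
    rw [hJ.2] at hmul
    have hidx : (centralizer ({t} : Set G)).index = 1463 := by omega
    rw [hidx] at hd
    exact hr.ne_one (Nat.dvd_one.1 (Nat.dvd_gcd hd hC))

theorem sylow_le {S : Sylow 2 G} (hS : t ∈ (S : Subgroup G)) :
    (S : Subgroup G) ≤ centralizer ({t} : Set G) := fun x hx =>
  mem_centralizer_singleton_iff.2 (h.two _ S.2 x hx t hS).eq

theorem exists_sylow : ∃ S : Sylow 2 G, t ∈ (S : Subgroup G) :=
  (IsPGroup.of_card (n := 1) (G := zpowers t)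
    (by rw [Nat.card_zpowers, h.psl.ht, pow_one])).exists_le_sylow.imp fun _ hS => hS (mem_zpowers t)

theorem sylow_split {S : Sylow 2 G} (hS : t ∈ (S : Subgroup G)) {x : G} (hx : x ∈ (S : Subgroup G)) :
    ∃ w ∈ (S : Subgroup G) ⊓ E₀, x = w ∨ x = w * t := by
  obtain ⟨e, he, h'⟩ := h.split (mem_centralizer_singleton_iff.1 (h.sylow_le hS hx))
  refine ⟨e, ⟨?_, he⟩, h'⟩
  rcases h' with rfl | rfl
  · exact hx
  · have := mul_mem hx (inv_mem hS)
    rwa [mul_inv_cancel_right] at this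

theorem meet_ne_bot {S : Sylow 2 G} (hS : t ∈ (S : Subgroup G)) : (S : Subgroup G) ⊓ E₀ ≠ ⊥ := fun e => by
  have hle : (S : Subgroup G) ≤ zpowers t := fun x hx => by
    obtain ⟨w, hw, rfl | rfl⟩ := h.sylow_split hS hx
    · rw [mem_bot.1 (e.le hw)]; exact one_mem _
    · rw [mem_bot.1 (e.le hw), one_mul]; exact mem_zpowers t
  have := card_le_of_le hle
  rw [Nat.card_zpowers, h.psl.ht] at this
  have := h.four S
  omega

theorem normalizes {S : Sylow 2 G} (hS : t ∈ (S : Subgroup G)) {e : G} (he : e ∈ E₀)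
    (hW : ∀ w ∈ (S : Subgroup G) ⊓ E₀, e * w * e⁻¹ ∈ (S : Subgroup G)) :
    e ∈ normalizer ((S : Subgroup G) : Set G) := by
  refine mem_normalizer_of_conj fun x hx => ?_
  obtain ⟨w, hw, rfl | rfl⟩ := h.sylow_split hS hx
  · exact hW _ hw
  · rw [show e * (w * t) * e⁻¹ = e * w * e⁻¹ * (e * t * e⁻¹) by group, (h.comm_E he).eq, mul_inv_cancel_right]
    exact mul_mem (hW w hw) hS

/-- `S ∩ E₀` is a Sylow subgroup of `E₀`. -/
theorem sylow_meet {S : Sylow 2 G} (hS : t ∈ (S : Subgroup G)) : ∃ P : Sylow 2 ↥E₀,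
    (S : Subgroup G).comap E₀.subtype ≤ (P : Subgroup ↥E₀) ∧
      ∀ z : ↥E₀, z ∈ (P : Subgroup ↥E₀) → (z : G) ∈ (S : Subgroup G) := by
  haveI : Fact (Nat.Prime 2) := ⟨Nat.prime_two⟩
  obtain ⟨P, hP⟩ := (S.2.comap_of_injective E₀.subtype E₀.subtype_injective).exists_le_sylow
  -- a Sylow subgroup of `E₀` above `S ∩ E₀` is `S ∩ E₀`
  have hPS : ∀ z : ↥E₀, z ∈ (P : Subgroup ↥E₀) → (z : G) ∈ (S : Subgroup G) := by
    have hn : zpowers t ≤ normalizer (((P : Subgroup ↥E₀).map E₀.subtype : Subgroup G) : Set G) :=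
      zpowers_le.2 (centralizer_le_normalizer _ (mem_centralizer_iff.2 fun z hz => by
        obtain ⟨z', -, rfl⟩ := hz
        exact (h.comm_E z'.2).eq))
    have hp : IsPGroup 2 ↥(zpowers t ⊔ (P : Subgroup ↥E₀).map E₀.subtype : Subgroup G) :=
      IsPGroup.to_sup_of_normal_right' (IsPGroup.of_card (n := 1)
        (by rw [Nat.card_zpowers, h.psl.ht, pow_one])) (P.2.map E₀.subtype) hn
    have hle : (S : Subgroup G) ≤ zpowers t ⊔ (P : Subgroup ↥E₀).map E₀.subtype := fun z hz => by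
      obtain ⟨w, hw, h'⟩ := h.sylow_split hS hz
      have hwP : w ∈ zpowers t ⊔ (P : Subgroup ↥E₀).map E₀.subtype :=
        mem_sup_right ⟨⟨w, hw.2⟩, hP hw.1, rfl⟩
      rcases h' with rfl | rfl
      exacts [hwP, mul_mem hwP (mem_sup_left (mem_zpowers t))]
    exact fun z hz => (S.3 hp hle).le (mem_sup_right ⟨z, hz, rfl⟩)
  exact ⟨P, hP, hPS⟩

/-- `N_{E₀}(S)` is transitive on `(S ∩ E₀)#`. -/
theorem torus {S : Sylow 2 G} (hS : t ∈ (S : Subgroup G)) {x y : G} (hx : x ∈ (S : Subgroup G) ⊓ E₀)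
    (hy : y ∈ (S : Subgroup G) ⊓ E₀) (hx1 : x ≠ 1) (hy1 : y ≠ 1) :
    ∃ e ∈ E₀, e ∈ normalizer ((S : Subgroup G) : Set G) ∧ e * x * e⁻¹ = y := by
  haveI : Fact (Nat.Prime 2) := ⟨Nat.prime_two⟩
  haveI := h.simple
  have hcard : ∀ P : Sylow 2 ↥E₀, Nat.card ↥(P : Subgroup ↥E₀) ≤ 8 := fun P => by
    obtain ⟨Q, hQ⟩ := (P.2.map E₀.subtype).exists_le_sylow
    rw [← card_subtype E₀ (P : Subgroup ↥E₀)]
    exact (card_le_of_le hQ).trans (h.small Q)
  have h1 := oneTwoClass_of_small h.not_comm (h.two.subgroup E₀) hcard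
  obtain ⟨P, hP, hPS⟩ := h.sylow_meet hS
  obtain ⟨⟨e, he⟩, hen, hexy⟩ := h1 P ⟨x, hx.2⟩ (hP hx.1) ⟨y, hy.2⟩ (hP hy.1)
    (fun e => hx1 (congrArg Subtype.val e)) (fun e => hy1 (congrArg Subtype.val e))
  exact ⟨e, he, h.normalizes hS he fun w hw => hPS _ ((mem_normalizer_iff.1 hen ⟨w, hw.2⟩).1 (hP hw.1)),
    congrArg Subtype.val hexy⟩

/-- A group between `S` and `N(S)` that holds `N_{E₀}(S)` and moves `t` is transitive on `S#`. -/
theorem transitive {S : Sylow 2 G} (hS : t ∈ (S : Subgroup G)) {H : Subgroup G}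
    (hSH : (S : Subgroup G) ≤ H) (hHN : H ≤ normalizer ((S : Subgroup G) : Set G))
    (hEH : ∀ e ∈ E₀, e ∈ normalizer ((S : Subgroup G) : Set G) → e ∈ H)
    (hmove : ∃ g ∈ H, g * t * g⁻¹ ≠ t) {x : G} (hx : x ∈ (S : Subgroup G)) (hx1 : x ≠ 1) :
    ∃ g ∈ H, g * t * g⁻¹ = x := by
  classical
  haveI : Fact (Nat.Prime 2) := ⟨Nat.prime_two⟩
  letI : MulAction ↥H G := MulAction.compHom G ((MulAut.conj (G := G)).comp H.subtype)
  set O := MulAction.orbit ↥H t with hO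
  have hmem : ∀ z, z ∈ O ↔ ∃ g ∈ H, g * t * g⁻¹ = z := fun z =>
    ⟨fun ⟨g, e⟩ => ⟨g, g.2, e⟩, fun ⟨g, hg, e⟩ => ⟨⟨g, hg⟩, e⟩⟩
  have hodd : Odd O.ncard := by
    rw [hO, ← MulAction.index_stabilizer, Nat.odd_iff, ← Nat.two_dvd_ne_zero]
    intro h2
    refine (S.subtype hSH).not_dvd_index (h2.trans (index_dvd_of_le fun g hg => ?_))
    show (g : G) * t * (g : G)⁻¹ = t
    rw [(h.two _ S.2 (g : G) hg t hS).eq, mul_inv_cancel_right]
  set W := (S : Subgroup G) ⊓ E₀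
  have heven : Even (W : Set G).ncard := by
    rw [← Nat.card_coe_set_eq]
    obtain ⟨k, hk⟩ := IsPGroup.iff_card.1 (S.2.to_le (inf_le_left : W ≤ _))
    show Even (Nat.card ↥W)
    rw [hk]
    refine even_two.pow_of_ne_zero fun e => h.meet_ne_bot hS (card_eq_one.1 ?_)
    rw [hk, e, pow_zero]
  have hconj : ∀ z ∈ O, ∀ e ∈ E₀, e ∈ normalizer ((S : Subgroup G) : Set G) → e * z * e⁻¹ ∈ O := by
    intro z hz e he hen
    obtain ⟨g, hg, rfl⟩ := (hmem z).1 hz
    exact (hmem _).2 ⟨e * g, mul_mem (hEH e he hen) hg, by group⟩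
  have hWO : ∀ w ∈ W, w ≠ 1 → w ∈ O → ∀ z ∈ W, z ≠ 1 → z ∈ O := fun w hw hw1 hwO z hz hz1 => by
    obtain ⟨e, he, hen, rfl⟩ := h.torus hS hw hz hw1 hz1
    exact hconj _ hwO e he hen
  have htWO : ∀ w ∈ W, w ≠ 1 → w * t ∈ O → ∀ z ∈ W, z ≠ 1 → z * t ∈ O := fun w hw hw1 hwO z hz hz1 => by
    obtain ⟨e, he, hen, rfl⟩ := h.torus hS hw hz hw1 hz1
    have := hconj _ hwO e he hen
    rwa [show e * (w * t) * e⁻¹ = e * w * e⁻¹ * (e * t * e⁻¹) by group, (h.comm_E he).eq,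
      mul_inv_cancel_right] at this
  have hOS : ∀ z ∈ O, z ∈ (S : Subgroup G) ∧ z ≠ 1 := fun z hz => by
    obtain ⟨g, hg, rfl⟩ := (hmem z).1 hz
    exact ⟨(mem_normalizer_iff.1 (hHN hg) t).1 hS,
      fun e => ne_one_of_orderOf_two h.psl.ht (conj_eq_one_iff.1 e)⟩
  have htO : t ∈ O := MulAction.mem_orbit_self t
  have htW : t ∉ W := fun e => h.psl.t_not e.2
  suffices hsuff : x ∈ O from (hmem x).1 hsuff
  by_contra hxO
  obtain ⟨g, hg, hgt⟩ := hmove
  set z := g * t * g⁻¹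
  have hzO : z ∈ O := (hmem z).2 ⟨g, hg, rfl⟩
  have hodd' : Odd O.ncard → ¬ Even O.ncard := fun a => Nat.not_even_iff_odd.2 a
  -- which half of `S` is missing
  obtain ⟨w, hw, hxw | hxw⟩ := h.sylow_split hS hx
  · have hw1 : w ≠ 1 := hxw ▸ hx1
    have hnoW : ∀ v ∈ W, v ≠ 1 → v ∉ O := fun v hv hv1 hvO => hxO (hxw ▸ hWO v hv hv1 hvO w hw hw1)
    obtain ⟨u, hu, huz⟩ : ∃ u ∈ W, z = u * t := by
      obtain ⟨u, hu, huz | huz⟩ := h.sylow_split hS (hOS z hzO).1
      · exact absurd (huz ▸ hzO) (hnoW u hu (huz ▸ (hOS z hzO).2))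
      · exact ⟨u, hu, huz⟩
    have hu1 : u ≠ 1 := fun e => hgt (by rw [huz, e, one_mul])
    refine hodd' hodd ?_
    have hOeq : O = (fun v => v * t) '' (W : Set G) := by
      ext v
      constructor
      · intro hv
        obtain ⟨v', hv', hvv | hvv⟩ := h.sylow_split hS (hOS v hv).1
        · exact absurd (hvv ▸ hv) (hnoW v' hv' (hvv ▸ (hOS v hv).2))
        · exact ⟨v', hv', hvv.symm⟩
      · rintro ⟨v', hv', rfl⟩
        by_cases h1 : v' = 1
        · simpa [h1] using htO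
        · exact htWO u hu hu1 (huz ▸ hzO) v' hv' h1
    rwa [hOeq, Set.ncard_image_of_injective _ (mul_left_injective t)]
  · have hw1 : w ≠ 1 := fun e => hxO (by rwa [hxw, e, one_mul])
    have hnoW : ∀ v ∈ W, v ≠ 1 → v * t ∉ O := fun v hv hv1 hvO => hxO (hxw ▸ htWO v hv hv1 hvO w hw hw1)
    obtain ⟨u, hu, huz⟩ : ∃ u ∈ W, z = u := by
      obtain ⟨u, hu, huz | huz⟩ := h.sylow_split hS (hOS z hzO).1
      · exact ⟨u, hu, huz⟩
      · exact absurd (huz ▸ hzO) (hnoW u hu fun e => hgt (by rw [huz, e, one_mul]))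
    have hu1 : u ≠ 1 := huz ▸ (hOS z hzO).2
    refine hodd' hodd ?_
    have hOeq : O = insert t ((W : Set G) \ {1}) := by
      ext v
      constructor
      · intro hv
        obtain ⟨v', hv', hvv | hvv⟩ := h.sylow_split hS (hOS v hv).1
        · exact Or.inr ⟨hvv ▸ hv', (hOS v hv).2⟩
        · by_cases h1 : v' = 1
          · exact Or.inl (by rw [hvv, h1, one_mul])
          · exact absurd (hvv ▸ hv) (hnoW v' hv' h1)
      · rintro (rfl | ⟨hv, hv1⟩)
        · exact htO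
        · exact hWO u hu hu1 (huz ▸ hzO) v hv hv1
    rwa [hOeq, Set.ncard_insert_of_notMem (fun e => htW e.1),
      Set.ncard_sdiff_singleton_add_one (one_mem W)]

/-- An odd subgroup normalised by `C(t)` is trivial. -/
theorem odd_eq_bot [IsSimpleGroup G] {N : Subgroup G} (hN : centralizer ({t} : Set G) ≤ normalizer (N : Set G))
    (hodd : Odd (Nat.card ↥N)) : N = ⊥ := by
  haveI : Fact (Nat.Prime 2) := ⟨Nat.prime_two⟩
  have hE : ∀ x ∈ E₀, x ∈ N → x = 1 := by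
    refine (le_or_disjoint h.simple (h.psl.le.trans hN)).resolve_left fun hle => ?_
    obtain ⟨k, hk⟩ := h.psl.odd
    have hc := h.card_E
    rw [hk, show 2 * k + 1 - 1 = 2 * k by omega] at hc
    refine Nat.not_even_iff_odd.2 (hodd.of_dvd_nat (card_dvd_of_le hle)) ?_
    exact ⟨(2 * k + 1) * (k * (k + 1)), by
      linarith [show (2 * k + 1) * (2 * k * (2 * k + 1 + 1)) = 4 * ((2 * k + 1) * (k * (k + 1))) by ring]⟩
  have hCN : ∀ x ∈ centralizer ({t} : Set G), x ∈ N → x = 1 := by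
    intro x hx hxN
    have hxE : x ∈ centralizer (E₀ : Set G) := mem_centralizer_comm.2 fun y hy => by
      have h1 : x * y * x⁻¹ * y⁻¹ ∈ E₀ :=
        mul_mem ((mem_normalizer_iff.1 (h.psl.normal hx) y).1 hy) (inv_mem hy)
      have h2 : x * y * x⁻¹ * y⁻¹ ∈ N := by
        rw [mul_assoc x y, mul_assoc x]
        exact mul_mem hxN ((mem_normalizer_iff.1 (hN (h.psl.le hy)) x⁻¹).1 (inv_mem hxN))
      exact commutatorElement_eq_one_iff_mul_comm.1 (hE _ h1 h2)
    have hxt : x ∈ zpowers t := h.psl.faithful.le ⟨hx, hxE⟩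
    have h1 : orderOf x ∣ 2 := by
      rw [← h.psl.ht, ← Nat.card_zpowers t]; exact orderOf_dvd_natCard _ hxt
    rcases (Nat.dvd_prime Nat.prime_two).1 h1 with e | e
    · exact orderOf_eq_one_iff.1 e
    · exact absurd (hodd.of_dvd_nat (e ▸ orderOf_dvd_natCard N hxN)) (by decide)
  -- `|N| ∣ [G : C(t)]`
  have hidx : Nat.card ↥N ∣ (centralizer ({t} : Set G)).index := by
    set C := centralizer ({t} : Set G)
    set P := N ⊔ C with hP
    haveI : (N.subgroupOf P).Normal := normal_subgroupOf_of_le_normalizer (sup_le le_normalizer hN)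
    have hcompl : IsComplement' (N.subgroupOf P) (C.subgroupOf P) := by
      refine isComplement'_of_disjoint_and_mul_eq_univ (disjoint_iff.2 ((eq_bot_iff_forall _).2 fun x hx =>
        Subtype.ext (hCN x hx.2 hx.1))) ?_
      rw [← normal_mul, ← subgroupOf_sup le_sup_left le_sup_right, subgroupOf_self, coe_top]
    have h1 : C.relIndex P = Nat.card ↥N := by
      rw [relIndex, hcompl.index_eq_card, Nat.card_congr (subgroupOfEquivOfLe le_sup_left).toEquiv]
    rw [← h1]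
    exact Dvd.intro _ (relIndex_mul_index le_sup_right)
  obtain ⟨S, hS⟩ := h.exists_sylow
  obtain ⟨⟨v, hvE⟩, hv1⟩ : ∃ v : ↥((S : Subgroup G) ⊓ E₀), v ≠ 1 := by
    haveI := (nontrivial_iff_ne_bot _).2 (h.meet_ne_bot hS)
    exact exists_ne 1
  have hv1' : v ≠ 1 := fun e => hv1 (Subtype.ext e)
  by_contra hne
  obtain ⟨r, hr, hrd⟩ := Nat.exists_prime_and_dvd (n := Nat.card ↥N) (fun e => hne (card_eq_one.1 e))
  haveI := Fact.mk hr
  refine Field.not_dvd_of_four (fun e => ?_) (h.noReal hr (hrd.trans hidx)) hodd h.psl.ht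
    (orderOf_two_of_oneTwoClass h.one hvE.1 hv1') (h.comm_E hvE.2).symm (fun e => h.psl.t_not (e ▸ hvE.2))
    (hN (mem_centralizer_singleton_iff.2 rfl)) (hN (h.psl.le hvE.2))
    (fun g hg hgt _ => hCN g (mem_centralizer_singleton_iff.2 hgt.eq) hg) hrd
  subst e
  exact Nat.not_even_iff_odd.2 (hodd.of_dvd_nat hrd) even_two

theorem oddCore_eq_bot [IsSimpleGroup G] {M : Subgroup G} (hM : centralizer ({t} : Set G) ≤ M) :
    Cfsg.oddCore ↥M = ⊥ := by
  refine (map_eq_bot_iff_of_injective _ M.subtype_injective).1 (h.odd_eq_bot (hM.trans fun g hg => ?_) ?_)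
  · refine mem_normalizer_of_conj fun x hx => ?_
    obtain ⟨y, hy, rfl⟩ := hx
    exact ⟨⟨g, hg⟩ * y * ⟨g, hg⟩⁻¹, (inferInstance : (Cfsg.oddCore ↥M).Normal).conj_mem y hy _, rfl⟩
  · rw [card_subtype]
    exact InvChar.Core.odd_card_oddCore

/-- A Sylow subgroup through `t` and an element of `N_M(S)` moving `t`. -/
theorem exists_move [IsSimpleGroup G] {M : Subgroup G} (hCM : centralizer ({t} : Set G) ≤ M)
    (hMC : ¬ M ≤ centralizer ({t} : Set G)) :
    ∃ S : Sylow 2 G, t ∈ (S : Subgroup G) ∧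
      ∃ g ∈ M, g ∈ normalizer ((S : Subgroup G) : Set G) ∧ g * t * g⁻¹ ≠ t := by
  haveI : Fact (Nat.Prime 2) := ⟨Nat.prime_two⟩
  have htC : t ∈ centralizer ({t} : Set G) := mem_centralizer_singleton_iff.2 rfl
  have hiso : ¬ Cfsg.IsIsolatedInvolution (⟨t, hCM htC⟩ : ↥M) := fun hi => hMC fun g hg => by
    have hz := ZStar.Main.mem_center_of_isolated (h.oddCore_eq_bot hCM) hi
    exact mem_centralizer_singleton_iff.2 (congrArg Subtype.val (mem_center_iff.1 hz ⟨g, hg⟩))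
  obtain ⟨⟨g, hg⟩, hcomm, hne⟩ : ∃ g : ↥M, Commute (⟨t, hCM htC⟩ : ↥M) (g * ⟨t, hCM htC⟩ * g⁻¹) ∧
      g * ⟨t, hCM htC⟩ * g⁻¹ ≠ ⟨t, hCM htC⟩ := by
    by_contra hc
    push Not at hc
    exact hiso ⟨by rw [orderOf_mk]; exact h.psl.ht, hc⟩
  set y := g * t * g⁻¹
  have hyt : Commute t y := congrArg Subtype.val hcomm.eq
  have hy1 : orderOf y = 2 := by rw [← h.psl.ht]; exact (MulAut.conj g).orderOf_eq t
  have hP : IsPGroup 2 ↥(zpowers t ⊔ zpowers y : Subgroup G) :=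
    IsPGroup.to_sup_of_normal_right' (IsPGroup.of_card (n := 1) (by rw [Nat.card_zpowers, h.psl.ht, pow_one]))
      (IsPGroup.of_card (n := 1) (by rw [Nat.card_zpowers, hy1, pow_one]))
      (zpowers_le.2 (centralizer_le_normalizer _ (mem_centralizer_iff.2 fun z hz => by
        obtain ⟨i, rfl⟩ := hz
        exact (hyt.zpow_right i).symm.eq)))
  obtain ⟨S, hS⟩ := hP.exists_le_sylow
  have ht : t ∈ (S : Subgroup G) := hS (mem_sup_left (mem_zpowers t))
  have hy : y ∈ (S : Subgroup G) := hS (mem_sup_right (mem_zpowers y))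
  set S' := g⁻¹ • S with hS'
  have ht' : t ∈ (S' : Subgroup G) := by
    rw [hS', Sylow.coe_subgroup_smul]
    refine ⟨y, hy, ?_⟩
    show g⁻¹ * y * g⁻¹⁻¹ = t
    show g⁻¹ * (g * t * g⁻¹) * g⁻¹⁻¹ = t
    group
  -- both Sylow subgroups lie in the centraliser
  obtain ⟨c, hc⟩ := MulAction.exists_smul_eq ↥(centralizer ({t} : Set G))
    (S'.subtype (h.sylow_le ht')) (S.subtype (h.sylow_le ht))
  have hc' : (c : G) • S' = S := by
    refine Sylow.subtype_injective (N := centralizer ({t} : Set G))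
      (hP := ?_) (hQ := h.sylow_le ht) ?_
    · rw [Sylow.coe_subgroup_smul]
      rintro x ⟨z, hz, rfl⟩
      exact mul_mem (mul_mem c.2 (h.sylow_le ht' hz)) (inv_mem c.2)
    · rw [← hc, Sylow.smul_subtype]; rfl
  refine ⟨S, ht, (c : G) * g⁻¹, mul_mem (hCM c.2) (inv_mem hg), ?_, fun e => hne (Subtype.ext ?_)⟩
  · refine mem_normalizer_of_conj fun x hx => ?_
    rw [← hc', hS', smul_smul, Sylow.coe_subgroup_smul]
    exact ⟨x, hx, rfl⟩
  · show g * t * g⁻¹ = t
    have hct : (c : G)⁻¹ * t * c = t := by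
      rw [mul_assoc, ← mem_centralizer_singleton_iff.1 c.2, inv_mul_cancel_left]
    calc g * t * g⁻¹ = g * ((c : G)⁻¹ * t * c) * g⁻¹ := by rw [hct]
      _ = g * ((c : G)⁻¹ * ((c : G) * g⁻¹ * t * ((c : G) * g⁻¹)⁻¹) * c) * g⁻¹ := by rw [e]
      _ = t := by group

/-- The maximality. -/
theorem isCoatom [IsSimpleGroup G] (hnc : ¬ IsMulCommutative G) : IsCoatom (centralizer ({t} : Set G)) := by
  haveI : Fact (Nat.Prime 2) := ⟨Nat.prime_two⟩
  have htC : t ∈ centralizer ({t} : Set G) := mem_centralizer_singleton_iff.2 rfl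
  have ht1 := ne_one_of_orderOf_two h.psl.ht
  refine ⟨fun e => ht1 ?_, fun M hCM => ?_⟩
  · rw [centralizer_eq_top_iff_subset, Set.singleton_subset_iff, center_eq_bot_of_simple hnc,
      SetLike.mem_coe, mem_bot] at e
    exact e
  by_contra hMtop
  obtain ⟨S, hS, m, hmM, hmN, hm⟩ := h.exists_move hCM.le hCM.not_ge
  have hSC := h.sylow_le hS
  have hEM : E₀ ≤ M := h.psl.le.trans hCM.le
  -- `N_M(S)` is transitive, so all involutions of `M` are conjugate to `t` in `M`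
  have htr : ∀ x ∈ (S : Subgroup G), x ≠ 1 →
      ∃ g ∈ M ⊓ normalizer ((S : Subgroup G) : Set G), g * t * g⁻¹ = x := fun x hx hx1 =>
    h.transitive hS (le_inf (hSC.trans hCM.le) le_normalizer) inf_le_right (fun e he hen => ⟨hEM he, hen⟩)
      ⟨m, ⟨hmM, hmN⟩, hm⟩ hx hx1
  set T : Subgroup G := closure {x | ∃ g ∈ M, g * t * g⁻¹ = x} with hT
  have hTM : T ≤ M := closure_le _ |>.2 fun x ⟨g, hg, e⟩ =>
    e ▸ mul_mem (mul_mem hg (hCM.le htC)) (inv_mem hg)
  have hTn : ∀ g ∈ M, ∀ x ∈ T, g * x * g⁻¹ ∈ T := fun g hg => by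
    have : T ≤ T.comap (MulAut.conj g).toMonoidHom := closure_le _ |>.2 fun x ⟨g', hg', e⟩ =>
      subset_closure ⟨g * g', mul_mem hg hg', by rw [← e]; show _ = g * (g' * t * g'⁻¹) * g⁻¹; group⟩
    exact fun x hx => this hx
  have hST : (S : Subgroup G) ≤ T := fun x hx => by
    by_cases hx1 : x = 1
    · rw [hx1]; exact one_mem _
    · obtain ⟨g, hg, e⟩ := htr x hx hx1
      exact subset_closure ⟨g, hg.1, e⟩
  have hET : E₀ ≤ T := by
    refine (le_or_disjoint h.simple fun e he => mem_normalizer_of_conj (hTn e (hEM he))).resolve_right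
      fun hd => h.meet_ne_bot hS ((eq_bot_iff_forall _).2 fun x hx => hd x hx.2 (hST hx.1))
  have hCT : centralizer ({t} : Set G) ≤ T := by
    rw [h.eq]
    exact sup_le (zpowers_le.2 (hST hS)) hET
  -- so is `N_T(S)`
  have hmoveT : ∃ g ∈ T ⊓ normalizer ((S : Subgroup G) : Set G), g * t * g⁻¹ ≠ t := by
    by_contra hall
    push Not at hall
    -- then `N_{E₀}(S)` would fix every element of `S`
    have hfix : ∀ w ∈ (S : Subgroup G) ⊓ E₀, ∀ e ∈ E₀, e ∈ normalizer ((S : Subgroup G) : Set G) →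
        e * w * e⁻¹ = w := fun w hw e he hen => by
      by_cases hw1 : w = 1
      · simp [hw1]
      obtain ⟨g, hg, hgw⟩ := htr w hw.1 hw1
      have h1 : g⁻¹ * e * g ∈ T := by simpa using hTn g⁻¹ (inv_mem hg.1) e (hET he)
      have hgn : g ∈ normalizer ((S : Subgroup G) : Set G) := hg.2
      have h3 : g⁻¹ * e * g ∈ normalizer ((S : Subgroup G) : Set G) := mul_mem (mul_mem (inv_mem hgn) hen) hgn
      have h2 := hall (g⁻¹ * e * g) ⟨h1, h3⟩
      calc e * w * e⁻¹ = g * (g⁻¹ * e * g * t * (g⁻¹ * e * g)⁻¹) * g⁻¹ := by rw [← hgw]; group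
        _ = w := by rw [h2, hgw]
    haveI := h.simple
    obtain ⟨y, hy, hyne⟩ : ∃ y ∈ (S : Subgroup G) ⊓ E₀, y ≠ 1 :=
      ((ne_bot_iff_exists_ne_one.1 (h.meet_ne_bot hS))).elim fun y hy =>
        ⟨y, y.2, fun e => hy (Subtype.ext e)⟩
    -- `S ∩ E₀` has a second involution
    by_cases h2 : ∃ z ∈ (S : Subgroup G) ⊓ E₀, z ≠ 1 ∧ z ≠ y
    · obtain ⟨z, hz, hz1, hzy⟩ := h2
      obtain ⟨e, he, hen, hez⟩ := h.torus hS hy hz hyne hz1
      exact hzy (hez ▸ hfix y hy e he hen)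
    · push Not at h2
      -- then the Sylow subgroup of `E₀` has two elements
      obtain ⟨P', -, hsub⟩ := h.sylow_meet hS
      have hc2 : Nat.card ↥(P' : Subgroup ↥E₀) ≤ 2 := by
        refine (card_le_of_le (show (P' : Subgroup ↥E₀) ≤ zpowers ⟨y, hy.2⟩ from fun z hz => ?_)).trans ?_
        · by_cases hz1 : z = 1
          · rw [hz1]; exact one_mem _
          · rw [show z = ⟨y, hy.2⟩ from Subtype.ext
              (h2 _ ⟨hsub z hz, z.2⟩ fun e => hz1 (Subtype.ext e))]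
            exact mem_zpowers _
        · rw [Nat.card_zpowers, orderOf_mk, orderOf_two_of_oneTwoClass h.one hy.1 hyne]
      have := four_le_sylow h.not_comm (h.two.subgroup E₀) P'
      omega
  have htrT : ∀ x ∈ (S : Subgroup G), x ≠ 1 →
      ∃ g ∈ T ⊓ normalizer ((S : Subgroup G) : Set G), g * t * g⁻¹ = x := fun x hx hx1 =>
    h.transitive hS (le_inf hST le_normalizer) inf_le_right (fun e he hen => ⟨hET he, hen⟩) hmoveT hx hx1
  -- `T` is simple
  have hTfused : ∀ x : ↥T, orderOf x = 2 → IsConj (⟨t, hST hS⟩ : ↥T) x := by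
    intro x hx
    obtain ⟨P, hP⟩ := (IsPGroup.of_card (n := 1) (G := zpowers x)
      (by rw [Nat.card_zpowers, hx, pow_one])).exists_le_sylow
    obtain ⟨c, hc⟩ := MulAction.exists_smul_eq ↥T P (S.subtype hST)
    have hcS : ((c * x * c⁻¹ : ↥T) : G) ∈ (S : Subgroup G) := by
      have h1 : c * x * c⁻¹ ∈ ((c • P : Sylow 2 ↥T) : Subgroup ↥T) := ⟨x, hP (mem_zpowers x), rfl⟩
      rw [hc] at h1
      exact h1
    obtain ⟨g, hg, e⟩ := htrT _ hcS fun e => ne_one_of_orderOf_two hx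
      (conj_eq_one_iff.1 (Subtype.ext e : c * x * c⁻¹ = 1))
    refine isConj_iff.2 ⟨c⁻¹ * ⟨g, hg.1⟩, ?_⟩
    have e' : (⟨g, hg.1⟩ : ↥T) * ⟨t, hST hS⟩ * (⟨g, hg.1⟩ : ↥T)⁻¹ = c * x * c⁻¹ := Subtype.ext e
    rw [show c⁻¹ * ⟨g, hg.1⟩ * ⟨t, hST hS⟩ * (c⁻¹ * ⟨g, hg.1⟩)⁻¹ =
      c⁻¹ * (⟨g, hg.1⟩ * ⟨t, hST hS⟩ * (⟨g, hg.1⟩ : ↥T)⁻¹) * c by group, e']
    group
  haveI : Nontrivial ↥T := ⟨⟨⟨t, hST hS⟩, 1, fun e => ht1 (congrArg Subtype.val e)⟩⟩
  haveI : IsSimpleGroup ↥T := ⟨fun R hR => by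
    by_cases hodd : Odd (Nat.card ↥R)
    · refine Or.inl ((map_eq_bot_iff_of_injective _ T.subtype_injective).1 (h.odd_eq_bot ?_ ?_))
      · intro g hg
        refine mem_normalizer_of_conj fun x hx => ?_
        obtain ⟨y, hy, rfl⟩ := hx
        exact ⟨⟨g, hCT hg⟩ * y * ⟨g, hCT hg⟩⁻¹, hR.conj_mem y hy _, rfl⟩
      · rwa [card_subtype]
    · refine Or.inr ?_
      obtain ⟨x, hx⟩ := exists_prime_orderOf_dvd_card' (G := ↥R) 2
        (even_iff_two_dvd.1 (Nat.not_odd_iff_even.1 hodd))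
      have htR : (⟨t, hST hS⟩ : ↥T) ∈ R := by
        obtain ⟨c, hc⟩ := isConj_iff.1 (hTfused x (by rw [orderOf_coe]; exact hx))
        have h1 := hR.conj_mem _ x.2 c⁻¹
        rw [← hc] at h1
        rwa [show c⁻¹ * (c * ⟨t, hST hS⟩ * c⁻¹) * c⁻¹⁻¹ = (⟨t, hST hS⟩ : ↥T) by group] at h1
      refine eq_top_iff.2 fun z _ => ?_
      have hle : T ≤ R.map T.subtype := closure_le _ |>.2 fun y hy => by
        have hyT : y ∈ T := subset_closure hy
        obtain ⟨g, hg, e⟩ := hy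
        obtain ⟨c, hc⟩ := isConj_iff.1 (hTfused ⟨y, hyT⟩ (by
          rw [orderOf_mk, ← e, ← h.psl.ht]; exact (MulAut.conj g).orderOf_eq t))
        exact ⟨⟨y, hyT⟩, hc ▸ hR.conj_mem _ htR c, rfl⟩
      obtain ⟨z', hz', e⟩ := hle z.2
      rwa [← Subtype.ext e]⟩
  have hTnc : ¬ IsMulCommutative ↥T := fun hc => h.not_comm ⟨⟨fun a b => Subtype.ext
    (congrArg Subtype.val (hc.is_comm.comm (⟨a, hET a.2⟩ : ↥T) ⟨b, hET b.2⟩) :)⟩⟩
  -- `T` has the centraliser of `G`, so its order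
  obtain ⟨eC⟩ := nonempty_centralizer_equiv h.psl h.eq
  let eT : ↥(centralizer ({⟨t, hST hS⟩} : Set ↥T)) ≃* ↥(centralizer ({t} : Set G)) :=
    { toFun := fun x => ⟨((x : ↥T) : G), mem_centralizer_singleton_iff.2
        (congrArg Subtype.val (mem_centralizer_singleton_iff.1 x.2))⟩
      invFun := fun x => ⟨⟨x, hCT x.2⟩, mem_centralizer_singleton_iff.2
        (Subtype.ext (mem_centralizer_singleton_iff.1 x.2))⟩
      left_inv := fun x => rfl
      right_inv := fun x => rfl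
      map_mul' := fun x y => rfl }
  have habG : ∀ P : Sylow 2 G, ∀ a b : P, a * b = b * a := fun P a b =>
    Subtype.ext (h.two _ P.2 a a.2 b b.2).eq
  have habT : ∀ P : Sylow 2 ↥T, ∀ a b : P, a * b = b * a := fun P a b =>
    Subtype.ext ((h.two.subgroup T) _ P.2 a a.2 b b.2).eq
  have h3 : 3 ≤ Fintype.card K := by have := h.five; omega
  have hT1 := Cfsg.Agent.S0343.result habT h3 (⟨t, hST hS⟩ : ↥T) (by rw [orderOf_mk]; exact h.psl.ht)
    ⟨eT.trans eC⟩
  have hG1 := Cfsg.Agent.S0343.result habG h3 t h.psl.ht ⟨eC⟩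
  have hcard : Nat.card ↥T = Nat.card G := by
    rcases hT1 with ⟨a, ha, hqa, hTc⟩ | ⟨hq, hJ⟩ <;> rcases hG1 with ⟨b, hb, hqb, hGc⟩ | ⟨hq', hJ'⟩
    · rw [hTc, hGc, ← hqa, ← hqb]
    · exfalso
      have := Nat.pow_le_pow_right (show 0 < 3 by norm_num) (show 3 ≤ 2 * a + 1 by omega)
      omega
    · exfalso
      have := Nat.pow_le_pow_right (show 0 < 3 by norm_num) (show 3 ≤ 2 * b + 1 by omega)
      omega
    · rw [hJ.2, hJ'.2]
  exact hMtop (top_le_iff.1 ((eq_top_of_card_eq T hcard).ge.trans hTM))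

end CoatomSetup

/-- A simple group with abelian Sylow 2-subgroups whose involution centraliser is `C₂ × PSL(2, q)`, `5 ≤ q`. -/
theorem coatom_of_eq [IsSimpleGroup G] (hnc : ¬ IsMulCommutative G) (hab : AbTwo G) {t : G} {K : Type} [Field K]
    [Fintype K] {E₀ : Subgroup G} (h5 : 5 ≤ Fintype.card K) (h : Field.TwoPSL t K E₀)
    (heq : centralizer ({t} : Set G) = zpowers t ⊔ E₀) : IsCoatom (centralizer ({t} : Set G)) := by
  have hab' : ∀ P : Sylow 2 G, ∀ a b : P, a * b = b * a := fun P a b =>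
    Subtype.ext (hab _ P.2 a a.2 b b.2).eq
  have hsmall : ∀ S : Sylow 2 G, Nat.card ↥(S : Subgroup G) ≤ 8 := fun S => by
    rcases Cfsg.Agent.S0343.result hab' (by omega) t h.ht (nonempty_centralizer_equiv h heq) with
      ⟨m, hm, -, hc⟩ | ⟨-, hJ⟩
    · exact card_sylow_ree ⟨inferInstance, m, hm, hc⟩ S
    · exact card_sylow_j1 hJ S
  exact CoatomSetup.isCoatom ⟨hab, oneTwoClass_of_small hnc hab hsmall, h, h5, heq, four_le_sylow hnc hab, hsmall⟩ hnc

/-- Trivial field part gives maximal centralisers. -/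
theorem coatomTriv_of_fieldTriv [IsSimpleGroup G] (hnc : ¬ IsMulCommutative G) (hab : AbTwo G)
    (hF : FieldTriv G) : CoatomTriv G :=
  fun t K _ _ E₀ h5 h => coatom_of_eq hnc hab h5 h (hF t K E₀ h5 h)

end Cfsg.Agent.Walter
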