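import Cfsg.Agent.Lib.Walter.Coatom
import Cfsg.Agent.Lib.JT.Small

/-!
# S1245 from the trivial field part

For `q = 3` the extension of `A₄` is `A₄` and S0343 excludes it.
-/

set_option autoImplicit false
set_option linter.unusedSectionVars false
set_option linter.style.haveILetI false

open Subgroup

namespace Cfsg.Agent.Walter

open Cfsg.Agent.SEAbelian

universe u

theorem a4_gen : ∀ a g : alternatingGroup (Fin 4), a * a * a = 1 → a ≠ 1 →
    ∃ v : alternatingGroup (Fin 4), v * v = 1 ∧ (g = v ∨ g = v * a ∨ g = v * (a * a)) := by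
  decide +kernel

theorem a4_elt : ∃ a : alternatingGroup (Fin 4), a * a * a = 1 ∧ a ≠ 1 := by decide +kernel

/-- An extension of `A₄` by automorphisms with abelian Sylow 2-subgroups is `A₄`. -/
theorem eq_top_of_a4 {X : Type u} [Group X] [Finite X] (hab : AbTwo X) {N : Subgroup X} [N.Normal]
    (e : ↥N ≃* alternatingGroup (Fin 4)) (hc : centralizer (N : Set X) = ⊥) : N = ⊤ := by
  haveI : Fact (Nat.Prime 2) := ⟨Nat.prime_two⟩
  -- the four group
  let V : Subgroup X :=
    { carrier := {x | x ∈ N ∧ x * x = 1}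
      one_mem' := ⟨one_mem N, one_mul 1⟩
      mul_mem' := fun {x y} hx hy => ⟨mul_mem hx.1 hy.1, by
        have h := JT.Small.a4_mul (e ⟨x, hx.1⟩) (e ⟨y, hy.1⟩) (by rw [← map_mul]; exact (congrArg e (Subtype.ext hx.2 : (⟨x, hx.1⟩ : ↥N) * ⟨x, hx.1⟩ = 1)).trans (map_one e))
          (by rw [← map_mul]; exact (congrArg e (Subtype.ext hy.2 : (⟨y, hy.1⟩ : ↥N) * ⟨y, hy.1⟩ = 1)).trans (map_one e))
        rw [← map_mul, ← map_mul, ← map_one e] at h
        exact congrArg Subtype.val (e.injective h)⟩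
      inv_mem' := fun {x} hx => ⟨inv_mem hx.1, by rw [← mul_inv_rev, hx.2, inv_one]⟩ }
  haveI hVn : V.Normal := ⟨fun x hx g => ⟨(inferInstance : N.Normal).conj_mem x hx.1 g, by
    rw [show g * x * g⁻¹ * (g * x * g⁻¹) = g * (x * x) * g⁻¹ by group, hx.2]; group⟩⟩
  have he2 : ∀ z : ↥N, e z * e z = 1 ↔ (z : X) ∈ V := fun z => by
    rw [← map_mul, MulEquiv.map_eq_one_iff]
    exact ⟨fun h => ⟨z.2, congrArg Subtype.val h⟩, fun h => Subtype.ext h.2⟩
  obtain ⟨a', ha'3, ha'1⟩ := a4_elt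
  set a : ↥N := e.symm a' with ha
  have hea : e a = a' := e.apply_symm_apply a'
  set C := centralizer (V : Set X) with hC
  -- `C(V)` has at most four elements
  have hmapC : ∀ x ∈ C, (a : X)⁻¹ * (x * a * x⁻¹) ∈ V := by
    intro x hx
    have hxa : x * a * x⁻¹ ∈ N := (inferInstance : N.Normal).conj_mem a a.2 x
    refine (he2 ⟨_, mul_mem (inv_mem a.2) hxa⟩).1 (JT.Small.a4_self _ fun u hu => ?_)
    obtain ⟨u, rfl⟩ := e.surjective u
    have huV : (u : X) ∈ V := (he2 u).1 hu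
    have hau : (a : X) * u * (a : X)⁻¹ ∈ V := hVn.conj_mem u huV a
    have h1 : x * u = u * x := mem_centralizer_comm.1 hx u huV
    have h2 : x * ((a : X) * u * (a : X)⁻¹) = ((a : X) * u * (a : X)⁻¹) * x := mem_centralizer_comm.1 hx _ hau
    rw [← map_mul, ← map_mul]
    congr 1
    refine Subtype.ext ?_
    show (a : X)⁻¹ * (x * a * x⁻¹) * u = u * ((a : X)⁻¹ * (x * a * x⁻¹))
    have h1' : x⁻¹ * (u : X) = u * x⁻¹ := ((show Commute x (u : X) from h1).inv_left).eq
    calc (a : X)⁻¹ * (x * a * x⁻¹) * u = (a : X)⁻¹ * x * a * (x⁻¹ * u) := by group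
      _ = (a : X)⁻¹ * (x * (a * u * (a : X)⁻¹)) * (a * x⁻¹) := by rw [h1']; group
      _ = (a : X)⁻¹ * (a * u * (a : X)⁻¹ * x) * (a * x⁻¹) := by rw [h2]
      _ = u * ((a : X)⁻¹ * (x * a * x⁻¹)) := by group
  have hinj : Function.Injective (fun x : ↥C => (⟨_, hmapC x x.2⟩ : ↥V)) := by
    intro x y hxy
    have h1 : (x : X) * a * (x : X)⁻¹ = (y : X) * a * (y : X)⁻¹ :=
      mul_left_cancel (congrArg Subtype.val hxy)
    set z := (y : X)⁻¹ * x with hz
    have hza : Commute z (a : X) := by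
      show z * a = a * z
      calc z * (a : X) = (y : X)⁻¹ * ((x : X) * a * (x : X)⁻¹) * x := by rw [hz]; group
        _ = a * z := by rw [h1, hz]; group
    have hzN : z ∈ centralizer (N : Set X) := mem_centralizer_comm.2 fun g hg => by
      obtain ⟨v, hv, hg'⟩ := a4_gen (e a) (e ⟨g, hg⟩) (hea ▸ ha'3) (hea ▸ ha'1)
      obtain ⟨v, rfl⟩ := e.surjective v
      have hzv : Commute z (v : X) := mem_centralizer_comm.1 (mul_mem (inv_mem y.2) x.2) v ((he2 v).1 hv)
      simp only [← map_mul, e.injective.eq_iff] at hg'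
      rcases hg' with h | h | h <;> rw [show g = _ from congrArg Subtype.val h]
      exacts [hzv.eq, (hzv.mul_right hza).eq, (hzv.mul_right (hza.mul_right hza)).eq]
    rw [hc, mem_bot, hz, inv_mul_eq_one] at hzN
    exact Subtype.ext hzN.symm
  have hV4 : Nat.card ↥V = 4 := by
    rw [← JT.Small.a4_card.2]
    exact Nat.card_congr
      { toFun := fun x => ⟨e ⟨x, x.2.1⟩, (he2 _).2 x.2⟩
        invFun := fun z => ⟨(e.symm z.1 : ↥N), (he2 _).1 (by rw [e.apply_symm_apply]; exact z.2)⟩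
        left_inv := fun x => by simp
        right_inv := fun z => by simp }
  have hC4 : Nat.card ↥C ≤ 4 := hV4 ▸ Nat.card_le_card_of_injective _ hinj
  -- the action on the three involutions of `V`
  let T := {v : ↥V // v ≠ 1}
  have hT : Nat.card T = 3 := by
    rw [show Nat.card T = ({(1 : ↥V)}ᶜ : Set ↥V).ncard from Nat.card_coe_set_eq _, Set.ncard_compl,
      Set.ncard_singleton, hV4]
  have hact : ∀ g : X, ∀ v : T, (g * (v.1 : X) * g⁻¹ ∈ V) ∧
      g * (v.1 : X) * g⁻¹ ≠ 1 := fun g v => ⟨hVn.conj_mem _ v.1.2 g, fun h => v.2 (Subtype.ext (conj_eq_one_iff.1 h))⟩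
  letI : MulAction X T :=
    { smul := fun g v => ⟨⟨g * (v.1 : X) * g⁻¹, (hact g v).1⟩, fun h => (hact g v).2 (congrArg Subtype.val h)⟩
      one_smul := fun v => Subtype.ext (Subtype.ext (show (1 : X) * (v.1 : X) * 1⁻¹ = v.1 by group))
      mul_smul := fun g h v => Subtype.ext (Subtype.ext
        (show g * h * (v.1 : X) * (g * h)⁻¹ = g * (h * (v.1 : X) * h⁻¹) * g⁻¹ by group)) }
  set f := MulAction.toPermHom X T with hf
  have hker : f.ker ≤ C := fun g hg => mem_centralizer_comm.2 fun v hv => by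
    by_cases hv1 : v = 1
    · rw [hv1, mul_one, one_mul]
    have h := congrArg (fun p : Equiv.Perm T => ((p ⟨⟨v, hv⟩, fun h => hv1 (congrArg Subtype.val h)⟩).1 : X))
      (MonoidHom.mem_ker.1 hg)
    exact mul_inv_eq_iff_eq_mul.1 h
  have hCk : C ≤ f.ker := fun g hg => MonoidHom.mem_ker.2 <| Equiv.ext fun v => Subtype.ext <| Subtype.ext <| by
    show g * (v.1 : X) * g⁻¹ = v.1
    rw [mem_centralizer_comm.1 hg _ v.1.2, mul_inv_cancel_right]
  -- the kernel contains a Sylow subgroup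
  obtain ⟨P, hP⟩ := (IsPGroup.of_card (n := 2) (show Nat.card ↥V = 2 ^ 2 from hV4)).exists_le_sylow
  have hodd : ¬ 2 ∣ f.ker.index := fun h2 => P.not_dvd_index (h2.trans (index_dvd_of_le fun g hg =>
    hCk (mem_centralizer_comm.2 fun v hv => (hab _ P.2 g hg v (hP hv)).eq)))
  have h6 : f.ker.index ∣ 6 := by
    rw [Subgroup.index_ker]
    refine (card_subgroup_dvd_card f.range).trans (dvd_of_eq ?_)
    rw [Nat.card_perm, hT]
    rfl
  have h3 : f.ker.index ≤ 3 := by
    have := Nat.le_of_dvd (by norm_num) h6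
    have : f.ker.index ≠ 6 := fun h => hodd (h ▸ by norm_num)
    have : f.ker.index ≠ 4 := fun h => hodd (h ▸ by norm_num)
    have : f.ker.index ≠ 5 := fun h => absurd (h ▸ h6) (by norm_num)
    omega
  refine eq_top_of_le_card N ?_
  rw [Nat.card_congr e.toEquiv, JT.Small.a4_card.1, ← f.ker.card_mul_index]
  exact le_trans (Nat.mul_le_mul ((card_le_of_le hker).trans hC4) h3) (by norm_num)

variable {G : Type u} [Group G] [Finite G]

/-- S1245, given the trivial field part. -/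
theorem s1245_of [IsSimpleGroup G] (hna : ¬ IsMulCommutative G) (S : Sylow 2 G)
    (hS : IsMulCommutative (S : Subgroup G)) (hF : FieldTriv G) (t : G) (ht : orderOf t = 2) (E E₀ : Subgroup G)
    (hprod : Cfsg.IsInternalDirectProduct (Subgroup.zpowers t) E (Subgroup.centralizer ({t} : Set G)))
    (hE₀E : E₀ ≤ E) (hE₀n : (E₀.subgroupOf E).Normal)
    (hE₀ : ∃ (F : Type) (_ : Field F) (_ : Fintype F), Odd (Fintype.card F) ∧
      Nonempty (E₀ ≃* Matrix.ProjectiveSpecialLinearGroup (Fin 2) F))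
    (hCE : E ⊓ Subgroup.centralizer (E₀ : Set G) = ⊥) : IsCoatom (Subgroup.centralizer ({t} : Set G)) := by
  haveI : Fact (Nat.Prime 2) := ⟨Nat.prime_two⟩
  have hab := abTwo_of_sylow S hS
  obtain ⟨F, i1, i2, hodd, hiso⟩ := hE₀
  obtain ⟨-, hEC, hcomm, hmeet, hsup⟩ := hprod
  have hE₀' := Subgroup.normal_subgroupOf_iff_le_normalizer hE₀E |>.1 hE₀n
  have htE : t ∉ E := fun e => by
    have hte : t ∈ zpowers t ⊓ E := ⟨mem_zpowers t, e⟩
    rw [hmeet, mem_bot] at hte
    rw [hte, orderOf_one] at ht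
    omega
  have hnorm : E ≤ normalizer (zpowers t : Set G) := fun e he =>
    centralizer_le_normalizer (zpowers t : Set G)
      (mem_centralizer_comm.2 fun y hy => (hcomm y hy e he).symm)
  have h : Field.TwoPSL t F E₀ := by
    refine ⟨ht, hodd, hE₀E.trans hEC, ?_, fun e => htE (hE₀E e), ?_, hiso⟩
    · rw [← hsup]
      refine sup_le (zpowers_le.2 (centralizer_le_normalizer (E₀ : Set G) ?_)) hE₀'
      exact mem_centralizer_comm.2 fun y hy => hcomm t (mem_zpowers t) y (hE₀E hy)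
    · refine le_antisymm ?_ (zpowers_le.2 ⟨mem_centralizer_singleton_iff.2 rfl,
        mem_centralizer_comm.2 fun y hy => hcomm t (mem_zpowers t) y (hE₀E hy)⟩)
      intro x hx
      have hx' : x ∈ (zpowers t ⊔ E : Subgroup G) := hsup ▸ hx.1
      rw [← SetLike.mem_coe, coe_mul_of_right_le_normalizer_left _ _ hnorm] at hx'
      obtain ⟨a, ha, e, he, rfl⟩ := hx'
      have hac : a ∈ centralizer (E₀ : Set G) :=
        mem_centralizer_comm.2 fun y hy => hcomm a ha y (hE₀E hy)
      have h1 : e = 1 := mem_bot.1 (hCE ▸ (⟨he, by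
        simpa using mul_mem (inv_mem hac) hx.2⟩ : e ∈ E ⊓ centralizer (E₀ : Set G)))
      show a * e ∈ zpowers t
      rw [h1, mul_one]
      exact ha
  by_cases h5 : 5 ≤ Fintype.card F
  · exact coatomTriv_of_fieldTriv hna hab hF t F E₀ h5 h
  -- `q = 3` does not occur
  exfalso
  have hq : Fintype.card F = 3 := by
    have := Fintype.one_lt_card (α := F)
    obtain ⟨k, hk⟩ := hodd
    omega
  obtain ⟨f, hf⟩ := Classical.SmallIso.exists_pslTwo_hom F 4 (by rw [hq])
  have hc12 : 2 * Nat.card (Matrix.ProjectiveSpecialLinearGroup (Fin 2) F) = (Fintype.card (Fin 4)).factorial := by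
    have hcard := Classical.SmallIso.natCard_pslTwo F
    rw [Classical.GL2.natCard_SL_two, hq] at hcard
    simpa [Nat.factorial] using hcard
  obtain ⟨eA⟩ := Classical.SmallIso.nonempty_mulEquiv_alternating f hf hc12
  obtain ⟨e⟩ := hiso
  haveI := hE₀n
  have hc : centralizer ((E₀.subgroupOf E : Subgroup ↥E) : Set ↥E) = ⊥ :=
    (eq_bot_iff_forall _).2 fun x hx => Subtype.ext (mem_bot.1 (hCE ▸ (⟨x.2, mem_centralizer_iff.2 fun y hy =>
      congrArg Subtype.val (mem_centralizer_iff.1 hx ⟨y, hE₀E hy⟩ hy)⟩ : (x : G) ∈ E ⊓ centralizer (E₀ : Set G))))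
  have htop := eq_top_of_a4 (hab.subgroup E) (((subgroupOfEquivOfLe hE₀E).trans e).trans eA) hc
  have hEE : E₀ = E := le_antisymm hE₀E (subgroupOf_eq_top.1 htop)
  have hab' : ∀ P : Sylow 2 G, ∀ a b : P, a * b = b * a := fun P a b =>
    Subtype.ext (hab _ P.2 a a.2 b b.2).eq
  rcases Cfsg.Agent.S0343.result hab' hq.ge t ht
    (nonempty_centralizer_equiv h (by rw [← hsup, hEE])) with ⟨m, hm, hqm, -⟩ | ⟨hq', -⟩
  · have := Nat.pow_le_pow_right (show 0 < 3 by norm_num) (show 3 ≤ 2 * m + 1 by omega)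
    omega
  · omega

end Cfsg.Agent.Walter
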