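import Cfsg.Agent.Lib.Walter.ComponentsSimple
import Cfsg.Agent.Lib.Walter.Setting

/-!
# The components of the involution centralisers

In a group with abelian Sylow 2-subgroups and no odd core the components are simple, a Sylow 2-subgroup acts on
each of them by inner automorphisms, and the group is the layer times the normalizer of the Sylow subgroup.
Applied to the centralisers of the involutions this gives the component system of the assembly.
-/

set_option autoImplicit false
set_option linter.style.haveILetI false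
set_option linter.unusedSectionVars false

namespace Cfsg.Agent.Walter

open Subgroup
open Cfsg.Agent.SEAbelian
open scoped Pointwise

universe u

variable {X : Type u} [Group X] [Finite X]

theorem subnormal_oddCore_le {K : Subgroup X} (hK : K.IsSubnormal) (hodd : Odd (Nat.card ↥K)) :
    K ≤ Cfsg.oddCore X := by
  induction hn : Nat.card X using Nat.strong_induction_on generalizing X with
  | _ n ih =>
    subst hn
    rcases hK.lt_normal with rfl | ⟨M, hMn, hKM, hMlt⟩
    · exact Agent.Cores.le_oddCore hodd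
    · haveI := hMn
      have hlt : Nat.card ↥M < Nat.card X :=
        lt_of_le_of_ne (Subgroup.card_le_card_group M) fun e => hMlt.ne (Subgroup.eq_top_of_card_eq M e)
      have h1 := ih _ hlt (hK.subgroupOf (K := M))
        (by rwa [Nat.card_congr (subgroupOfEquivOfLe hKM).toEquiv]) rfl
      rw [← map_subgroupOf_eq_of_le hKM]
      exact (Subgroup.map_mono h1).trans (Agent.Cores.map_pPrimeCore_subtype_le 2 M)

/-- A component is simple. -/
theorem component_simple (h : AbTwo X) (h0 : Cfsg.oddCore X = ⊥) {L : Subgroup X}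
    (hL : Cfsg.IsComponent L) : IsSimpleGroup ↥L ∧ ¬ IsMulCommutative ↥L := by
  classical
  haveI : Fact (Nat.Prime 2) := ⟨Nat.prime_two⟩
  have hperf : commutator ↥L = ⊤ := hL.2.1.commutator_eq_top
  -- the centre has no 2-elements
  have hZ2 : ∀ z ∈ center ↥L, ∀ k : ℕ, z ^ 2 ^ k = 1 → z = 1 := by
    intro z hz k hk
    obtain ⟨P, hP⟩ := (isPGroup_zpowers hk).exists_le_sylow
    have hzP : z ∈ (P : Subgroup ↥L) := hP (mem_zpowers z)
    haveI := isMulCommutative_sylow (h.subgroup L) P
    letI : CommGroup ↥(P : Subgroup ↥L) :=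
      { (inferInstance : Group ↥(P : Subgroup ↥L)) with
        mul_comm := fun a b => Subtype.ext ((h.subgroup L) _ P.2 a a.2 b b.2).eq }
    set τ := MonoidHom.transfer (H := (P : Subgroup ↥L)) (MonoidHom.id ↥(P : Subgroup ↥L)) with hτ
    have hker : commutator ↥L ≤ τ.ker := Abelianization.commutator_subset_ker τ
    rw [hperf] at hker
    have h1 : τ z = 1 := hker (mem_top z)
    rw [hτ, MonoidHom.transfer_eq_pow _ z fun j g _ => by
      rw [mul_assoc, ← (mem_center_iff.1 (pow_mem hz j) g)]; group] at h1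
    have h2 : z ^ (P : Subgroup ↥L).index = 1 := congrArg Subtype.val h1
    have h3 : orderOf z ∣ (P : Subgroup ↥L).index := orderOf_dvd_of_pow_eq_one h2
    obtain ⟨i, -, hi⟩ := (Nat.dvd_prime_pow Nat.prime_two).1 (orderOf_dvd_of_pow_eq_one hk)
    rw [hi] at h3
    rcases i with _ | i
    · exact orderOf_eq_one_iff.1 (by simpa using hi)
    · exact absurd ((dvd_pow_self 2 (Nat.succ_ne_zero i)).trans h3) P.not_dvd_index
  have hZ : center ↥L = ⊥ := by
    have hodd : Odd (Nat.card ↥(center ↥L)) := by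
      rw [Nat.odd_iff, ← Nat.two_dvd_ne_zero]
      intro hd
      obtain ⟨z, hz⟩ := exists_prime_orderOf_dvd_card' (G := ↥(center ↥L)) 2 hd
      refine ne_one_of_orderOf_two hz (Subtype.ext (hZ2 _ z.2 1 ?_))
      rw [pow_one, ← orderOf_dvd_iff_pow_eq_one, Subgroup.orderOf_coe, hz]
    have hsn : ((center ↥L).map L.subtype).IsSubnormal :=
      (Components.Basic.isSubnormal_map_subtype_iff hL.1 _).2 (Subgroup.Normal.isSubnormal inferInstance)
    have hle := subnormal_oddCore_le hsn (by rwa [card_map_of_injective L.subtype_injective])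
    rw [h0, le_bot_iff, Subgroup.map_eq_bot_iff_of_injective _ L.subtype_injective] at hle
    exact hle
  haveI := Components.Basic.quasisimple_nontrivial hL.2
  refine ⟨{ eq_bot_or_eq_top_of_normal := fun N hN => ?_ }, fun hc => ?_⟩
  · haveI := hN
    rcases Components.Basic.quasisimple_eq_top_or_le_center_of_normal hL.2 N with e | e
    · exact Or.inr e
    · exact Or.inl (le_bot_iff.1 (hZ ▸ e))
  · exact Components.Basic.component_not_isSolvable hL
      (Group.isSolvable_of_comm fun a b => hc.is_comm.comm a b)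

/-- A Sylow 2-subgroup normalises every component. -/
theorem sylow_le_normalizer_component (h : AbTwo X) (h0 : Cfsg.oddCore X = ⊥) (S : Sylow 2 X) {L : Subgroup X}
    (hL : Cfsg.IsComponent L) : (S : Subgroup X) ≤ normalizer (L : Set X) := by
  haveI : Fact (Nat.Prime 2) := ⟨Nat.prime_two⟩
  obtain ⟨hs, hn⟩ := component_simple h h0 hL
  -- a non-identity element of the Sylow subgroup in the component
  obtain ⟨u, hu, huL, hu1⟩ : ∃ u ∈ (S : Subgroup X), u ∈ L ∧ u ≠ 1 := by
    induction hcard : Nat.card X using Nat.strong_induction_on generalizing X with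
    | _ n ih =>
      subst hcard
      rcases hL.1.lt_normal with rfl | ⟨M, hMn, hLM, hMlt⟩
      · haveI := hs
        have hne : (S : Subgroup X) ≠ ⊥ := by
          intro e
          have h4 := four_le_sylow (X := ↥(⊤ : Subgroup X)) hn (h.subgroup ⊤) (S.subtype le_top)
          rw [Sylow.coe_subtype, Nat.card_congr (subgroupOfEquivOfLe le_top).toEquiv, e] at h4
          simp at h4
        obtain ⟨u, hu, hu1⟩ := ((S : Subgroup X).bot_or_exists_ne_one).resolve_left hne
        exact ⟨u, hu, mem_top u, hu1⟩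
      · haveI := hMn
        have hlt : Nat.card ↥M < Nat.card X :=
          lt_of_le_of_ne (Subgroup.card_le_card_group M) fun e => hMlt.ne (Subgroup.eq_top_of_card_eq M e)
        have hM0 : Cfsg.oddCore ↥M = ⊥ := by
          have h1 := Agent.Cores.map_pPrimeCore_subtype_le 2 M
          rw [show Cfsg.pPrimeCore 2 X = ⊥ from h0, le_bot_iff,
            Subgroup.map_eq_bot_iff_of_injective _ M.subtype_injective] at h1
          exact h1
        obtain ⟨T, hT⟩ : ∃ T : Sylow 2 ↥M, (T : Subgroup ↥M).map M.subtype ≤ (S : Subgroup X) := by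
          obtain ⟨T⟩ : Nonempty (Sylow 2 ↥M) := inferInstance
          obtain ⟨R, hR⟩ := (T.2.map M.subtype).exists_le_sylow
          obtain ⟨g, hg⟩ := MulAction.exists_smul_eq X R S
          refine ⟨T.comapOfInjective (MulAut.conjNormal g⁻¹ : ↥M ≃* ↥M).toMonoidHom
            (MulEquiv.injective _) (by rw [MonoidHom.range_eq_top.2 (MulEquiv.surjective _)]; exact le_top), ?_⟩
          rintro x ⟨m, hm, rfl⟩
          rw [← hg]
          refine Subgroup.mem_pointwise_smul_iff_inv_smul_mem.2 (hR ⟨_, hm, ?_⟩)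
          simp [MulAut.smul_def, MulAut.conjNormal_apply]
        have hLc : Cfsg.IsComponent (L.subgroupOf M) := Components.Basic.component_subgroupOf hL hLM
        obtain ⟨hs', hn'⟩ := component_simple (h.subgroup M) hM0 hLc
        obtain ⟨v, hv, hvL, hv1⟩ := ih _ hlt (h.subgroup M) hM0 T hLc hs' hn' rfl
        exact ⟨v, hT ⟨v, hv, rfl⟩, hvL, fun e => hv1 (Subtype.ext e)⟩
  have hkey : ∀ s ∈ (S : Subgroup X), L.map (MulAut.conj s).toMonoidHom = L := by
    intro s hs'
    by_contra hne
    have hc := commutator_eq_bot_iff_le_centralizer.1 (Components.Basic.component_commutator_eq_bot_of_ne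
      (Components.Basic.component_conj hL s) hL hne)
    refine hu1 (eq_one_of_central hs hn huL fun y hy => ?_)
    have : u ∈ L.map (MulAut.conj s).toMonoidHom :=
      ⟨u, huL, by
        show s * u * s⁻¹ = u
        rw [(h _ S.2 s hs' u hu).eq, mul_inv_cancel_right]⟩
    exact (mem_centralizer_iff.1 (hc this) y hy).symm
  intro s hs'
  refine mem_normalizer_iff.2 fun x => ⟨fun hx => ?_, fun hx => ?_⟩
  · rw [← hkey s hs']
    exact ⟨x, hx, rfl⟩
  · rw [← hkey s hs'] at hx
    obtain ⟨y, hy, e⟩ := hx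
    have : y = x := (MulAut.conj s).injective e
    rwa [← this]

/-- A Sylow 2-subgroup acts on a component by inner automorphisms. -/
theorem exists_split (h : AbTwo X) (h0 : Cfsg.oddCore X = ⊥) (S : Sylow 2 X) {L : Subgroup X}
    (hL : Cfsg.IsComponent L) {s : X} (hs : s ∈ (S : Subgroup X)) :
    ∃ w ∈ (S : Subgroup X) ⊓ L, ∃ c ∈ (S : Subgroup X) ⊓ centralizer (L : Set X), w * c = s := by
  classical
  haveI : Fact (Nat.Prime 2) := ⟨Nat.prime_two⟩
  obtain ⟨hsimp, hnc⟩ := component_simple h h0 hL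
  have hSN := sylow_le_normalizer_component h h0 S hL
  set X0 := L ⊔ (S : Subgroup X) with hX0
  set L0 := L.subgroupOf X0 with hL0
  haveI hL0n : L0.Normal := normal_subgroupOf_of_le_normalizer (sup_le le_normalizer hSN)
  let e0 : ↥L0 ≃* ↥L := subgroupOfEquivOfLe le_sup_left
  set C0 := centralizer (L0 : Set ↥X0) with hC0
  set π := QuotientGroup.mk' C0 with hπ
  have hπs : Function.Surjective π := QuotientGroup.mk'_surjective C0
  set Lb := L0.map π with hLb
  haveI : Lb.Normal := hL0n.map π hπs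
  have hcen1 : ∀ x ∈ L0, x ∈ C0 → x = 1 := fun x hx hc => by
    have h1 : ((x : ↥X0) : X) = 1 := eq_one_of_central hsimp hnc (show (x : X) ∈ L from hx) fun y hy => by
      have := mem_centralizer_iff.1 hc ⟨y, le_sup_left (b := (S : Subgroup X)) hy⟩ hy
      exact (congrArg Subtype.val this).symm
    exact Subtype.ext h1
  have hcb : centralizer (Lb : Set (↥X0 ⧸ C0)) = ⊥ := by
    refine (eq_bot_iff).2 fun q hq => ?_
    obtain ⟨x, rfl⟩ := hπs q
    refine (mem_bot).2 ((QuotientGroup.eq_one_iff x).2 (mem_centralizer_iff.2 fun l hl => ?_))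
    have h1 : π (l⁻¹ * x⁻¹ * l * x) = 1 := by
      rw [map_mul, map_mul, map_mul, map_inv, map_inv,
        mul_assoc (((π l)⁻¹ * (π x)⁻¹)), mem_centralizer_iff.1 hq _ (mem_map_of_mem π hl)]
      group
    have h2 := hcen1 _ (by
      rw [show l⁻¹ * x⁻¹ * l * x = l⁻¹ * (x⁻¹ * l * (x⁻¹)⁻¹) by group]
      exact mul_mem (inv_mem hl) (hL0n.conj_mem l hl _)) ((QuotientGroup.eq_one_iff _).1 h1)
    calc l * x = x * l * (l⁻¹ * x⁻¹ * l * x) := by group
      _ = x * l := by rw [h2, mul_one]
  have hzb : center (↥X0 ⧸ C0) = ⊥ :=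
    le_bot_iff.1 (hcb ▸ fun z hz => mem_centralizer_iff.2 fun l _ => mem_center_iff.1 hz l)
  haveI : IsSimpleGroup ↥L := hsimp
  have hLbs : ∀ N : Subgroup (↥X0 ⧸ C0), N.Normal → Odd (Nat.card ↥N) → N ≤ centralizer (Lb : Set _) := by
    intro N hN hodd
    haveI := hN
    have hinf : N ⊓ Lb = ⊥ := by
      refine eq_bot_iff.2 fun q hq => ?_
      obtain ⟨l, hl, rfl⟩ := hq.2
      have hN' : ((N.comap π).subgroupOf L0).Normal := (hN.comap π).comap L0.subtype
      haveI : Nontrivial ↥L0 := e0.toEquiv.nontrivial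
      haveI : IsSimpleGroup ↥L0 := IsSimpleGroup.isSimpleGroup_of_surjective e0.symm.toMonoidHom e0.symm.surjective
      rcases hN'.eq_bot_or_eq_top with h1 | h1
      · have : (⟨l, hl⟩ : ↥L0) ∈ (N.comap π).subgroupOf L0 := hq.1
        rw [h1, mem_bot] at this
        rw [mem_bot, show l = 1 from congrArg Subtype.val this, map_one]
      · exfalso
        have hle : Lb ≤ N := by
          rintro _ ⟨m, hm, rfl⟩
          exact subgroupOf_eq_top.1 h1 hm
        have hinj : Function.Injective (π.comp L0.subtype) := by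
          refine (injective_iff_map_eq_one _).2 fun m hm => Subtype.ext ?_
          exact hcen1 _ m.2 ((QuotientGroup.eq_one_iff _).1 hm)
        have hcard : Nat.card ↥Lb = Nat.card ↥L := by
          rw [← Nat.card_congr e0.toEquiv, hLb, ← Subgroup.card_map_of_injective
            (K := (⊤ : Subgroup ↥L0)) hinj |>.trans Subgroup.card_top, ← Subgroup.map_map,
            ← MonoidHom.range_eq_map, Subgroup.range_subtype]
        have hL' : Odd (Nat.card ↥L) := hcard ▸ hodd.of_dvd_nat (card_dvd_of_le hle)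
        haveI := S0205.result hL'
        exact hnc ⟨⟨IsSimpleGroup.comm_iff_isSolvable.2 inferInstance⟩⟩
    intro n hn
    exact mem_centralizer_iff.2 fun l hl =>
      ((Subgroup.commute_of_normal_of_disjoint N Lb hN inferInstance (disjoint_iff.2 hinf) n l hn hl).eq).symm
  have hob : Cfsg.oddCore (↥X0 ⧸ C0) = ⊥ :=
    le_bot_iff.1 (hcb ▸ hLbs _ inferInstance InvChar.Core.odd_card_oddCore)
  set S0 := S.subtype (le_sup_right : (S : Subgroup X) ≤ X0)
  set Sb := S0.mapSurjective hπs with hSb
  have htop : Lb ⊔ (Sb : Subgroup (↥X0 ⧸ C0)) = ⊤ := by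
    rw [hLb, hSb, Sylow.coe_mapSurjective, ← Subgroup.map_sup, Sylow.coe_subtype,
      show L0 ⊔ (S : Subgroup X).subgroupOf X0 = ⊤ from
        (subgroupOf_sup le_sup_left le_sup_right).symm.trans (subgroupOf_self X0),
      map_top_of_surjective π hπs]
  have hin := sylow_le_normal ((h.subgroup X0).map hπs) hob hzb Sb htop
  -- the two factors of an element of the Sylow subgroup
  have hfac : ∀ t ∈ (S : Subgroup X), ∃ l ∈ L, ∃ c ∈ centralizer (L : Set X), l * c = t := by
    intro t ht
    have h1 : π ⟨t, le_sup_right (a := L) ht⟩ ∈ Lb :=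
      hin (by
        rw [hSb, Sylow.coe_mapSurjective]
        exact mem_map_of_mem π (by rw [Sylow.coe_subtype]; exact ht))
    obtain ⟨l, hl, e⟩ := h1
    have hc := (QuotientGroup.eq).1 e
    refine ⟨l, hl, (l : X)⁻¹ * t, mem_centralizer_iff.2 fun y hy => ?_, mul_inv_cancel_left _ _⟩
    exact congrArg Subtype.val (mem_centralizer_iff.1 hc ⟨y, le_sup_left (b := (S : Subgroup X)) hy⟩ hy)
  obtain ⟨l, hl, c, hc, rfl⟩ := hfac s hs
  have hlc : ∀ y ∈ L, ∀ d ∈ centralizer (L : Set X), Commute y d := fun y hy d hd =>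
    mem_centralizer_iff.1 hd y hy
  have hdis : ∀ y ∈ L, y ∈ centralizer (L : Set X) → y = 1 := fun y hy hd =>
    eq_one_of_central hsimp hnc hy fun z hz => (mem_centralizer_iff.1 hd z hz).symm
  obtain ⟨k, hk⟩ := exists_two_pow hs
  have hl2 : l ^ 2 ^ k = 1 := hdis _ (pow_mem hl _) (by
    have h1 : l ^ 2 ^ k = (c ^ 2 ^ k)⁻¹ := eq_inv_of_mul_eq_one_left (by rw [← (hlc l hl c hc).mul_pow, hk])
    rw [h1]
    exact inv_mem (pow_mem hc _))
  have hlS : ∀ t ∈ (S : Subgroup X), Commute l t := by
    intro t ht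
    obtain ⟨l', hl', c', hc', rfl⟩ := hfac t ht
    have h1 : (l' * l)⁻¹ * (l * l') = 1 := hdis _ (mul_mem (inv_mem (mul_mem hl' hl)) (mul_mem hl hl')) (by
      have he := (h _ S.2 _ hs _ ht).eq
      have e1 : l * c * (l' * c') = l * l' * (c * c') := by
        rw [mul_assoc l c, ← mul_assoc c l', ← (hlc l' hl' c hc).eq]; group
      have e2 : l' * c' * (l * c) = l' * l * (c' * c) := by
        rw [mul_assoc l' c', ← mul_assoc c' l, ← (hlc l hl c' hc').eq]; group
      rw [e1, e2] at he
      have h3 : (l' * l)⁻¹ * (l * l') = c' * c * (c * c')⁻¹ := by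
        rw [show c' * c * (c * c')⁻¹ = (l' * l)⁻¹ * (l' * l * (c' * c)) * (c * c')⁻¹ by group, ← he]
        group
      rw [h3]
      exact mul_mem (mul_mem hc' hc) (inv_mem (mul_mem hc hc')))
    exact (show Commute l l' from (inv_mul_eq_one.1 h1).symm).mul_right (hlc l hl c' hc')
  have hlmem : l ∈ (S : Subgroup X) := by
    refine mem_sylow_of_normalizer S ?_ (k := k) hl2
    exact centralizer_le_normalizer _ (mem_centralizer_iff.2 fun t ht => (hlS t ht).symm.eq)
  exact ⟨l, ⟨hlmem, hl⟩, c, ⟨by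
    have := mul_mem (inv_mem hlmem) hs
    rwa [inv_mul_cancel_left] at this, hc⟩, rfl⟩

/-- The group is its layer times the normalizer of a Sylow 2-subgroup. -/
theorem layer_sup_normalizer (h : AbTwo X) (h0 : Cfsg.oddCore X = ⊥) (S : Sylow 2 X) :
    Cfsg.layer X ⊔ normalizer ((S : Subgroup X) : Set X) = ⊤ := by
  classical
  haveI : Fact (Nat.Prime 2) := ⟨Nat.prime_two⟩
  set E := Cfsg.layer X with hE
  set T := centralizer (E : Set X) with hT
  haveI : T.Normal := inferInstance
  -- the Sylow subgroup lies in `E T`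
  have hsplit : ∀ F : Finset {L : Subgroup X // Cfsg.IsComponent L}, ∀ s ∈ (S : Subgroup X),
      ∃ w ∈ (S : Subgroup X) ⊓ E, ∃ c ∈ (S : Subgroup X), (∀ L ∈ F, c ∈ centralizer ((L : Subgroup X) : Set X)) ∧
        w * c = s := by
    intro F
    induction F using Finset.induction with
    | empty => exact fun s hs => ⟨1, one_mem _, s, hs, by simp, one_mul s⟩
    | @insert L F hLF ih =>
      intro s hs
      obtain ⟨w, hw, c, hc, hcF, rfl⟩ := ih s hs
      obtain ⟨v, hv, d, hd, rfl⟩ := exists_split h h0 S L.2 hc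
      refine ⟨w * v, mul_mem hw ⟨hv.1, Components.Basic.le_layer L.2 hv.2⟩, d, hd.1, ?_, by group⟩
      intro K hK
      rcases Finset.mem_insert.1 hK with rfl | hK
      · exact hd.2
      · have hne : (L : Subgroup X) ≠ K := fun e => hLF (Subtype.ext e ▸ hK)
        have hv' := commutator_eq_bot_iff_le_centralizer.1
          (Components.Basic.component_commutator_eq_bot_of_ne L.2 K.2 hne) hv.2
        have := mul_mem (inv_mem hv') (hcF K hK)
        rwa [inv_mul_cancel_left] at this
  haveI : Fintype {L : Subgroup X // Cfsg.IsComponent L} := Fintype.ofFinite _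
  have hST : ∀ s ∈ (S : Subgroup X), ∃ w ∈ (S : Subgroup X) ⊓ E, ∃ c ∈ (S : Subgroup X) ⊓ T, w * c = s := by
    intro s hs
    obtain ⟨w, hw, c, hc, hcF, rfl⟩ := hsplit Finset.univ s hs
    refine ⟨w, hw, c, ⟨hc, le_centralizer_iff.1 ?_ (mem_zpowers c)⟩, rfl⟩
    refine Components.Basic.layer_le fun L hL => le_centralizer_iff.1 (zpowers_le.2 ?_)
    exact hcF ⟨L, hL⟩ (Finset.mem_univ _)
  -- the centralizer of the layer has a normal Sylow 2-subgroup
  have hTlayer : Cfsg.layer ↥T = ⊥ := by
    refine Components.Basic.layer_eq_bot_iff.2 fun K hK => ?_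
    have hK' := (Components.Basic.isComponent_map_subtype_iff
      (Subgroup.Normal.isSubnormal inferInstance) K).2 hK
    have hle : K.map T.subtype ≤ centralizer ((K.map T.subtype : Subgroup X) : Set X) :=
      (map_subtype_le K).trans (centralizer_le (Components.Basic.le_layer hK'))
    refine Components.Basic.component_ne_bot hK' ?_
    rw [← Components.Basic.component_commutator_self hK']
    exact commutator_eq_bot_iff_le_centralizer.2 hle
  have hT0 : Cfsg.oddCore ↥T = ⊥ := by
    have h1 := Agent.Cores.map_pPrimeCore_subtype_le 2 T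
    rw [show Cfsg.pPrimeCore 2 X = ⊥ from h0, le_bot_iff,
      Subgroup.map_eq_bot_iff_of_injective _ T.subtype_injective] at h1
    exact h1
  have hF : Cfsg.fittingSubgroup ↥T ≤ Cfsg.pCore 2 ↥T := by
    rw [Agent.Cores.fittingSubgroup_eq_iSup]
    refine iSup_le fun p => ?_
    rcases eq_or_ne (p : ℕ) 2 with h2 | h2
    · rw [h2]
    · haveI : Fact (p : ℕ).Prime := ⟨Nat.prime_of_mem_primeFactors p.2⟩
      obtain ⟨k, hk⟩ := IsPGroup.iff_card.mp (Agent.Cores.pCore_isPGroup (G := ↥T) p)
      have hodd : Odd (Nat.card (Cfsg.pCore (p : ℕ) ↥T)) := by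
        rw [hk]
        exact ((Nat.prime_of_mem_primeFactors p.2).odd_of_ne_two h2).pow
      exact (Agent.Cores.le_oddCore hodd).trans (hT0 ▸ bot_le)
  set Q := (Cfsg.pCore 2 ↥T).map T.subtype with hQ
  haveI hQn : Q.Normal := Agent.Cores.normal_map_subtype T _
  have hQ2 : IsPGroup 2 ↥Q := (Agent.Cores.pCore_isPGroup (G := ↥T) 2).map _
  have hQS : Q ≤ (S : Subgroup X) := (Agent.Cores.le_pCore hQ2).trans (Agent.Cores.pCore_le_sylow S)
  have hQeq : Q = (S : Subgroup X) ⊓ T := by
    refine le_antisymm (le_inf hQS (map_subtype_le _)) ?_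
    intro x hx
    have h1 : (⟨x, hx.2⟩ : ↥T) ∈ centralizer (Cfsg.generalizedFittingSubgroup ↥T : Set ↥T) := by
      refine centralizer_le (show Cfsg.generalizedFittingSubgroup ↥T ≤ Cfsg.pCore 2 ↥T from ?_) ?_
      · rw [Cfsg.generalizedFittingSubgroup, hTlayer, bot_sup_eq]
        exact hF
      · exact mem_centralizer_iff.2 fun y hy =>
          Subtype.ext (h _ S.2 _ (hQS (mem_map_of_mem _ hy)) x hx.1).eq
    have h2 := Components.Fitting.centralizer_genFitting_le h1
    rw [Cfsg.generalizedFittingSubgroup, hTlayer, bot_sup_eq] at h2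
    exact ⟨⟨x, hx.2⟩, hF h2, rfl⟩
  have hN : E ⊔ (S : Subgroup X) = E ⊔ Q := by
    refine le_antisymm (sup_le le_sup_left fun s hs => ?_) (sup_le le_sup_left (hQS.trans le_sup_right))
    obtain ⟨w, hw, c, hc, rfl⟩ := hST s hs
    exact mul_mem (mem_sup_left hw.2) (mem_sup_right (hQeq ▸ hc : c ∈ Q))
  haveI : (E ⊔ (S : Subgroup X)).Normal := hN ▸ Subgroup.sup_normal E Q
  have hfr := Sylow.normalizer_sup_eq_top (S.subtype (le_sup_right : (S : Subgroup X) ≤ E ⊔ (S : Subgroup X)))
  rw [Sylow.coe_subtype, map_subgroupOf_eq_of_le le_sup_right] at hfr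
  refine top_le_iff.1 (hfr.symm.le.trans (sup_le le_sup_right (sup_le le_sup_left ?_)))
  exact le_trans le_normalizer le_sup_right

/-! ### The component system -/

variable {G : Type u} [Group G] [Finite G]

/-- The components of the centralizer of `a`. -/
def compsOf (a : G) : Set (Subgroup G) :=
  {J | ∃ K : Subgroup ↥(centralizer ({a} : Set G)), Cfsg.IsComponent K ∧
    K.map (centralizer ({a} : Set G)).subtype = J}

/-- The component system of a group with abelian Sylow 2-subgroups whose involution centralisers have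
no odd core and only components with one class of non-identity 2-elements. -/
theorem compSys (h : AbTwo G) (S : Sylow 2 G)
    (hcore : ∀ a : G, orderOf a = 2 → Cfsg.oddCore ↥(centralizer ({a} : Set G)) = ⊥)
    (hone : ∀ a : G, orderOf a = 2 → ∀ K : Subgroup ↥(centralizer ({a} : Set G)), Cfsg.IsComponent K →
      OneTwoClass ↥K) : CompSys S compsOf := by
  haveI : Fact (Nat.Prime 2) := ⟨Nat.prime_two⟩
  have hSC : ∀ a ∈ (S : Subgroup G), (S : Subgroup G) ≤ centralizer ({a} : Set G) :=
    fun a ha s hs => mem_centralizer_singleton_iff.2 (h _ S.2 s hs a ha).eq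
  -- the component as a group
  have hequiv : ∀ (a : G) (K : Subgroup ↥(centralizer ({a} : Set G))),
      Nonempty (↥K ≃* ↥(K.map (centralizer ({a} : Set G)).subtype)) := fun a K =>
    ⟨K.equivMapOfInjective _ (Subgroup.subtype_injective _)⟩
  have hsimple : ∀ a : G, orderOf a = 2 → ∀ J ∈ compsOf a, IsSimpleGroup ↥J ∧ ¬ IsMulCommutative ↥J := by
    rintro a ha _ ⟨K, hK, rfl⟩
    obtain ⟨hs, hn⟩ := component_simple (h.subgroup _) (hcore a ha) hK
    obtain ⟨e⟩ := hequiv a K
    haveI := hs
    haveI : Nontrivial ↥(K.map (centralizer ({a} : Set G)).subtype) := e.injective.nontrivial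
    exact ⟨IsSimpleGroup.isSimpleGroup_of_surjective e.toMonoidHom e.surjective,
      fun hc => hn ⟨⟨fun x y => e.injective (by rw [map_mul, map_mul]; exact hc.is_comm.comm _ _)⟩⟩⟩
  -- the split property in the group
  have hsplit : ∀ a ∈ (S : Subgroup G), orderOf a = 2 → ∀ J ∈ compsOf a, ∀ s ∈ (S : Subgroup G),
      ∃ w ∈ (S : Subgroup G) ⊓ J, ∃ c ∈ (S : Subgroup G) ⊓ centralizer (J : Set G), w * c = s := by
    rintro a haS ha _ ⟨K, hK, rfl⟩ s hs
    obtain ⟨w, hw, c, hc, e⟩ := exists_split (h.subgroup _) (hcore a ha)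
      (S.subtype (hSC a haS)) hK (s := ⟨s, hSC a haS hs⟩) (by rw [Sylow.coe_subtype]; exact hs)
    have hw1 : (w : G) ∈ (S : Subgroup G) := by
      have := hw.1
      rwa [Sylow.coe_subtype] at this
    have hc1 : (c : G) ∈ (S : Subgroup G) := by
      have := hc.1
      rwa [Sylow.coe_subtype] at this
    refine ⟨w, ⟨hw1, w, hw.2, rfl⟩, c, ⟨hc1, mem_centralizer_iff.2 ?_⟩, congrArg Subtype.val e⟩
    rintro _ ⟨y, hy, rfl⟩
    exact congrArg Subtype.val (mem_centralizer_iff.1 hc.2 y hy)
  -- the meet with the Sylow subgroup is a Sylow subgroup of the component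
  have hmeet : ∀ a ∈ (S : Subgroup G), orderOf a = 2 → ∀ J ∈ compsOf a, ∀ P : Sylow 2 ↥J,
      ((S : Subgroup G) ⊓ J).subgroupOf J ≤ (P : Subgroup ↥J) → ((S : Subgroup G) ⊓ J).subgroupOf J = P := by
    intro a haS ha J hJ P hP
    refine le_antisymm hP fun x hx => mem_subgroupOf.2 ⟨?_, x.2⟩
    obtain ⟨k, hk⟩ := P.2 ⟨x, hx⟩
    refine mem_sylow_of_normalizer S ?_ (k := k) (congrArg (fun z : ↥(P : Subgroup ↥J) => ((z : ↥J) : G)) hk)
    refine centralizer_le_normalizer _ (mem_centralizer_iff.2 fun s hs => ?_)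
    obtain ⟨w, hw, c, hc, rfl⟩ := hsplit a haS ha J hJ s hs
    have h1 : Commute (x : G) w :=
      congrArg Subtype.val ((h.subgroup J) _ P.2 x hx ⟨w, hw.2⟩ (hP (mem_subgroupOf.2 hw))).eq
    have h2 : Commute (x : G) c := mem_centralizer_iff.1 hc.2 x x.2
    exact (h1.mul_right h2).symm.eq
  have hsyl : ∀ a ∈ (S : Subgroup G), orderOf a = 2 → ∀ J ∈ compsOf a, ∃ P : Sylow 2 ↥J,
      ((S : Subgroup G) ⊓ J).subgroupOf J = (P : Subgroup ↥J) := by
    intro a haS ha J hJ
    obtain ⟨P, hP⟩ := ((S.2.to_le inf_le_left).comap_of_injective J.subtype J.subtype_injective).exists_le_sylow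
    exact ⟨P, hmeet a haS ha J hJ P hP⟩
  refine ⟨fun x hx y hy => (h _ S.2 x hx y hy).eq, fun a _ J hJ => ?_, hsimple, ?_, ?_, ?_, hsplit, ?_, ?_⟩
  · obtain ⟨K, -, rfl⟩ := hJ
    exact map_subtype_le K
  · -- conjugation
    rintro a g ha _ ⟨K, hK, rfl⟩
    have hmap : (centralizer ({a} : Set G)).map (MulAut.conj g).toMonoidHom =
        centralizer ({g * a * g⁻¹} : Set G) := by
      ext x
      rw [mem_map, mem_centralizer_singleton_iff]
      constructor
      · rintro ⟨y, hy, rfl⟩
        rw [mem_centralizer_singleton_iff] at hy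
        show g * y * g⁻¹ * (g * a * g⁻¹) = g * a * g⁻¹ * (g * y * g⁻¹)
        calc g * y * g⁻¹ * (g * a * g⁻¹) = g * (y * a) * g⁻¹ := by group
          _ = _ := by rw [hy]; group
      · intro hx
        refine ⟨g⁻¹ * x * g, ?_, by show g * (g⁻¹ * x * g) * g⁻¹ = x; group⟩
        rw [mem_centralizer_singleton_iff]
        calc g⁻¹ * x * g * a = g⁻¹ * (x * (g * a * g⁻¹)) * g := by group
          _ = _ := by rw [hx]; group
    let e : ↥(centralizer ({a} : Set G)) ≃* ↥(centralizer ({g * a * g⁻¹} : Set G)) :=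
      ((MulAut.conj g).subgroupMap _).trans (MulEquiv.subgroupCongr hmap)
    refine ⟨K.map e.toMonoidHom, (Components.Basic.isComponent_map_equiv e K).2 hK, ?_⟩
    show _ = (K.map (centralizer ({a} : Set G)).subtype).map (MulAut.conj g).toMonoidHom
    rw [Subgroup.map_map, Subgroup.map_map]
    rfl
  · -- two components commute
    rintro a ha _ ⟨K, hK, rfl⟩ _ ⟨K', hK', rfl⟩ hne _ ⟨x, hx, rfl⟩ _ ⟨y, hy, rfl⟩
    have := commutator_eq_bot_iff_le_centralizer.1
      (Components.Basic.component_commutator_eq_bot_of_ne hK hK' fun e => hne (by rw [e])) hx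
    exact (congrArg Subtype.val (mem_centralizer_iff.1 this y hy)).symm
  · -- Frattini
    intro a haS ha
    set C := centralizer ({a} : Set G)
    have htop := layer_sup_normalizer (h.subgroup C) (hcore a ha) (S.subtype (hSC a haS))
    have h1 := congrArg (Subgroup.map C.subtype) htop
    rw [Subgroup.map_sup, ← MonoidHom.range_eq_map, Subgroup.range_subtype] at h1
    refine h1.symm.le.trans (sup_le_sup ?_ ?_)
    · refine map_le_iff_le_comap.2 (Components.Basic.layer_le fun K hK => map_le_iff_le_comap.1 ?_)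
      exact le_iSup₂ (f := fun J (_ : J ∈ compsOf a) => J) (K.map C.subtype) ⟨K, hK, rfl⟩
    · rintro _ ⟨x, hx, rfl⟩
      refine ⟨x.2, mem_normalizer_iff.2 fun s => ?_⟩
      rw [Sylow.coe_subtype] at hx
      constructor <;> intro hs
      · exact (mem_normalizer_iff.1 hx ⟨s, hSC a haS hs⟩).1 hs
      · have hsC : s ∈ C := by
          have := mul_mem (mul_mem (inv_mem x.2) (hSC a haS hs)) x.2
          simpa [mul_assoc] using this
        exact (mem_normalizer_iff.1 hx ⟨s, hsC⟩).2 hs
  · -- four elements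
    intro a haS ha J hJ
    obtain ⟨hs, hn⟩ := hsimple a ha J hJ
    obtain ⟨P, hP⟩ := hsyl a haS ha J hJ
    haveI := hs
    have := four_le_sylow hn (h.subgroup J) P
    rwa [← hP, Nat.card_congr (subgroupOfEquivOfLe inf_le_right).toEquiv] at this
  · -- transitivity
    intro a haS ha J hJ u hu hu1 v hv hv1
    obtain ⟨K, hK, rfl⟩ := hJ
    obtain ⟨e⟩ := hequiv a K
    set J := K.map (centralizer ({a} : Set G)).subtype with hJdef
    obtain ⟨P, hP⟩ := hsyl a haS ha J ⟨K, hK, rfl⟩
    set R := P.comapOfInjective e.toMonoidHom e.injective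
      (by rw [MonoidHom.range_eq_top.2 e.surjective]; exact le_top) with hR
    have hRm : ∀ z : ↥K, z ∈ (R : Subgroup ↥K) ↔ (e z : G) ∈ (S : Subgroup G) ⊓ J := fun z => by
      show e z ∈ (P : Subgroup ↥J) ↔ _
      rw [← hP]
      exact mem_subgroupOf
    have hmem : ∀ z : ↥J, (z : G) ∈ (S : Subgroup G) ⊓ J → e.symm z ∈ (R : Subgroup ↥K) := fun z hz =>
      (hRm _).2 (by rwa [MulEquiv.apply_symm_apply])
    obtain ⟨n, hn, hnu⟩ := hone a ha K hK R (e.symm ⟨u, hu.2⟩) (hmem _ hu) (e.symm ⟨v, hv.2⟩) (hmem _ hv)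
      (fun e1 => hu1 (congrArg Subtype.val ((MulEquiv.map_eq_one_iff _).1 e1)))
      (fun e1 => hv1 (congrArg Subtype.val ((MulEquiv.map_eq_one_iff _).1 e1)))
    refine ⟨(e n : G), (e n).2, fun x hx => ?_, ?_⟩
    · have h1 := (mem_normalizer_iff.1 hn (e.symm ⟨x, hx.2⟩)).1 (hmem _ hx)
      rw [hRm, map_mul, map_mul, map_inv, MulEquiv.apply_symm_apply] at h1
      simpa using h1
    · have h1 := congrArg (fun z => ((e z : ↥J) : G)) hnu
      simpa using h1

end Cfsg.Agent.Walter
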