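import Cfsg.Agent.Lib.Walter.Setting

/-!
# The involutions of `S` form an irreducible module

In a simple group with a component system the normaliser of `S` is irreducible on the involutions of `S`;
if some centraliser has a component then `S` is elementary.
-/

set_option autoImplicit false
set_option linter.unusedSectionVars false
set_option linter.style.haveILetI false

open Subgroup
open scoped Pointwise

namespace Cfsg.Agent.Walter

/-- Averaging: an invariant subgroup of an elementary abelian 2-group has an invariant complement. -/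
theorem exists_invariant_compl {V : Type*} [CommGroup V] [Finite V] {Q : Type*} [Group Q] [Finite Q]
    [MulDistribMulAction Q V] (hQ : Odd (Nat.card Q)) (hsq : ∀ v : V, v * v = 1) (A : Subgroup V)
    (hA : ∀ (q : Q) (a : V), a ∈ A → q • a ∈ A) :
    ∃ B : Subgroup V, (∀ (q : Q) (b : V), b ∈ B → q • b ∈ B) ∧ (∀ v ∈ A, v ∈ B → v = 1) ∧
      ∀ v : V, ∃ a ∈ A, ∃ b ∈ B, a * b = v := by
  classical
  have : Fintype Q := Fintype.ofFinite _
  obtain ⟨C, -, hC⟩ := Set.Finite.exists_le_maximal (Set.toFinite {C : Subgroup V | A ⊓ C = ⊥})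
    (inf_bot_eq A : A ⊓ ⊥ = ⊥)
  have htop : ∀ v, v ∈ A ⊔ C := by
    intro v
    by_contra hv
    have hz : ∀ x ∈ zpowers v, x = 1 ∨ x = v := by
      rintro x ⟨k, rfl⟩
      rcases Int.even_or_odd k with ⟨m, rfl⟩ | ⟨m, rfl⟩
      · exact Or.inl (by show v ^ (m + m) = 1; rw [← two_mul, zpow_mul]; simp [pow_two, hsq])
      · exact Or.inr (by show v ^ (2 * m + 1) = v; rw [zpow_add, zpow_mul]; simp [pow_two, hsq])
    have h1 : A ⊓ (C ⊔ zpowers v) = ⊥ := by
      refine (eq_bot_iff_forall _).2 fun x hx => ?_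
      obtain ⟨c, hc, y, hy, rfl⟩ := mem_sup.1 hx.2
      rcases hz y hy with rfl | rfl
      · rw [mul_one] at hx ⊢
        exact mem_bot.1 (hC.1 ▸ (⟨hx.1, hc⟩ : c ∈ A ⊓ C))
      · refine absurd ?_ hv
        have := mul_mem (show c⁻¹ ∈ A ⊔ C from mem_sup_right (inv_mem hc)) (show c * y ∈ A ⊔ C from mem_sup_left hx.1)
        rwa [inv_mul_cancel_left] at this
    exact hv (mem_sup_right ((hC.2 h1 le_sup_left) (mem_sup_right (mem_zpowers v))))
  choose f hfA g hgC hfg using fun v => mem_sup.1 (htop v)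
  have huniq : ∀ a ∈ A, ∀ c ∈ C, ∀ a' ∈ A, ∀ c' ∈ C, a * c = a' * c' → a = a' := by
    intro a ha c hc a' ha' c' hc' e
    have h1 : a'⁻¹ * a = c' * c⁻¹ := by
      rw [inv_mul_eq_iff_eq_mul, ← mul_assoc, ← e, mul_inv_cancel_right]
    have h2 : a'⁻¹ * a ∈ A ⊓ C := ⟨A.mul_mem (A.inv_mem ha') ha, h1 ▸ C.mul_mem hc' (C.inv_mem hc)⟩
    rw [hC.1, mem_bot] at h2
    exact (eq_of_inv_mul_eq_one h2).symm
  have hfm : ∀ x y, f (x * y) = f x * f y := fun x y =>
    huniq _ (hfA _) _ (hgC _) _ (mul_mem (hfA x) (hfA y)) _ (mul_mem (hgC x) (hgC y))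
      (by rw [hfg, mul_mul_mul_comm, hfg, hfg])
  have hfid : ∀ a ∈ A, f a = a := fun a ha =>
    huniq _ (hfA _) _ (hgC _) _ ha _ (one_mem C) (by rw [hfg, mul_one])
  let p : V →* V :=
    MonoidHom.mk' (fun v => ∏ q : Q, q • f (q⁻¹ • v)) fun x y => by
      simp only [smul_mul', hfm, Finset.prod_mul_distrib]
  have hpA : ∀ v, p v ∈ A := fun v => Subgroup.prod_mem _ fun q _ => hA q _ (hfA _)
  have hpid : ∀ a ∈ A, p a = a := fun a ha => by
    show (∏ q : Q, q • f (q⁻¹ • a)) = a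
    rw [Finset.prod_congr rfl fun q _ => by rw [hfid _ (hA _ _ ha), smul_inv_smul], Finset.prod_const,
      Finset.card_univ]
    obtain ⟨k, hk⟩ := hQ
    rw [← Nat.card_eq_fintype_card, hk, pow_succ, pow_mul, pow_two, hsq, one_pow, one_mul]
  have hpeq : ∀ (r : Q) v, p (r • v) = r • p v := fun r v => by
    show (∏ q : Q, q • f (q⁻¹ • r • v)) = r • ∏ q : Q, q • f (q⁻¹ • v)
    rw [Finset.smul_prod', ← Equiv.prod_comp (Equiv.mulLeft r) fun q : Q => q • f (q⁻¹ • r • v)]
    refine Finset.prod_congr rfl fun q _ => ?_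
    simp [mul_smul]
  refine ⟨p.ker, fun q b hb => ?_, fun v hv hb => ?_, fun v => ⟨p v, hpA v, p v * v, ?_, ?_⟩⟩
  · rw [MonoidHom.mem_ker] at hb ⊢
    rw [hpeq, hb, smul_one]
  · rw [← hpid v hv]; exact hb
  · rw [MonoidHom.mem_ker, map_mul, hpid _ (hpA v), hsq]
  · rw [← mul_assoc, hsq, one_mul]

variable {G : Type*} [Group G] [Finite G]

/-- The action of `N(S)` on an invariant subgroup. -/
def actHom (S : Sylow 2 G) (U : Subgroup G)
    (hU : normalizer ((S : Subgroup G) : Set G) ≤ normalizer (U : Set G)) :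
    ↥(normalizer ((S : Subgroup G) : Set G)) →* MulAut ↥U :=
  U.normalizerMonoidHom.comp (inclusion hU)

theorem actHom_apply (S : Sylow 2 G) (U : Subgroup G)
    (hU : normalizer ((S : Subgroup G) : Set G) ≤ normalizer (U : Set G))
    (n : ↥(normalizer ((S : Subgroup G) : Set G))) (u : ↥U) :
    ((actHom S U hU n u : ↥U) : G) = (n : G) * u * (n : G)⁻¹ := rfl

namespace CompSys

variable {S : Sylow 2 G} {comps : G → Set (Subgroup G)} (h : CompSys S comps)

include h

theorem odd_act (U : Subgroup G) (hU : normalizer ((S : Subgroup G) : Set G) ≤ normalizer (U : Set G))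
    (hUS : U ≤ (S : Subgroup G)) : Odd (Nat.card ↥(actHom S U hU).range) := by
  rw [Nat.odd_iff, ← Nat.two_dvd_ne_zero]
  intro h2
  haveI : Fact (Nat.Prime 2) := ⟨Nat.prime_two⟩
  obtain ⟨⟨q, n, rfl⟩, hq⟩ := exists_prime_orderOf_dvd_card' 2 h2
  obtain ⟨m, hm, hnm⟩ := odd_part_mem S n.2
  have h1 : (actHom S U hU n) ^ m = 1 := by
    rw [← map_pow]
    ext u
    rw [actHom_apply, MulAut.one_apply, coe_pow, h.comm _ hnm _ (hUS u.2), mul_inv_cancel_right]
  have hq' : orderOf (actHom S U hU n) = 2 := (Subgroup.orderOf_mk _ _).symm.trans hq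
  have := hq'.symm.dvd.trans (orderOf_dvd_of_pow_eq_one h1)
  obtain ⟨k, rfl⟩ := hm
  omega

omit h in
/-- The involutions of `S`, with `1`. -/
def omega (S : Sylow 2 G) (hc : ∀ x ∈ (S : Subgroup G), ∀ y ∈ (S : Subgroup G), x * y = y * x) : Subgroup G where
  carrier := {x | x ∈ (S : Subgroup G) ∧ x * x = 1}
  mul_mem' := fun {x y} hx hy => ⟨mul_mem hx.1 hy.1, by
    rw [show x * y * (x * y) = x * (y * x) * y by group, ← hc x hx.1 y hy.1,
      show x * (x * y) * y = x * x * (y * y) by group, hx.2, hy.2, one_mul]⟩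
  one_mem' := ⟨one_mem _, one_mul _⟩
  inv_mem' := fun {x} hx => ⟨inv_mem hx.1, by rw [← mul_inv_rev, hx.2, inv_one]⟩

theorem normalizer_omega :
    normalizer ((S : Subgroup G) : Set G) ≤ normalizer (omega S h.comm : Set G) := fun n hn =>
  mem_normalizer_iff.2 fun x => by
    show x ∈ (S : Subgroup G) ∧ x * x = 1 ↔ n * x * n⁻¹ ∈ (S : Subgroup G) ∧ _ = 1
    rw [← mem_normalizer_iff.1 hn x, show n * x * n⁻¹ * (n * x * n⁻¹) = n * (x * x) * n⁻¹ by group,
      conj_eq_one_iff]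

theorem conj_in_normalizer {x g : G} (hx : x ∈ (S : Subgroup G)) (hy : g * x * g⁻¹ ∈ (S : Subgroup G)) :
    ∃ n ∈ normalizer ((S : Subgroup G) : Set G), g * x * g⁻¹ = n * x * n⁻¹ := by
  haveI : Fact (Nat.Prime 2) := ⟨Nat.prime_two⟩
  haveI : IsMulCommutative ↥(S : Subgroup G) := ⟨⟨fun a b => Subtype.ext (h.comm a a.2 b b.2)⟩⟩
  obtain ⟨n, hn, e⟩ := S.conj_eq_normalizer_conj_of_mem x g⁻¹ hx (by rw [inv_inv]; exact hy)
  exact ⟨n⁻¹, inv_mem hn, by simpa using e⟩

/-- An invariant subgroup either contains the Sylow subgroup of a component or centralises it. -/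
theorem comp_dichotomy {a : G} (haS : a ∈ (S : Subgroup G)) (ha : orderOf a = 2) {J : Subgroup G}
    (hJ : J ∈ comps a) (A : Subgroup G) (hAS : A ≤ (S : Subgroup G))
    (hA : ∀ n ∈ normalizer ((S : Subgroup G) : Set G), ∀ x ∈ A, n * x * n⁻¹ ∈ A) :
    (S : Subgroup G) ⊓ J ≤ A ∨ A ≤ centralizer (J : Set G) := by
  refine or_iff_not_imp_right.2 fun hn => ?_
  obtain ⟨v, hv, hvJ⟩ := SetLike.not_le_iff_exists.1 hn
  obtain ⟨w, hw, c, hc, rfl⟩ := h.split a haS ha J hJ v (hAS hv)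
  have hw1 : w ≠ 1 := fun e => hvJ (by rw [e, one_mul]; exact hc.2)
  have hne : ∃ w' ∈ (S : Subgroup G) ⊓ J, w' ≠ 1 ∧ w' ≠ w := by
    by_contra hcon
    push Not at hcon
    have hsub : (((S : Subgroup G) ⊓ J : Subgroup G) : Set G) ⊆ {1, w} := fun x hx => by
      by_cases h1 : x = 1
      · exact Or.inl h1
      · exact Or.inr (hcon x hx h1)
    have h2 := Set.ncard_le_ncard hsub (Set.toFinite _)
    have h3 : ({1, w} : Set G).ncard ≤ 2 := (Set.ncard_insert_le _ _).trans (by simp)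
    have h4 : (((S : Subgroup G) ⊓ J : Subgroup G) : Set G).ncard =
      Nat.card ↥((S : Subgroup G) ⊓ J) := rfl
    have := h.four a haS ha J hJ
    omega
  obtain ⟨w', hw', hw'1, hww'⟩ := hne
  obtain ⟨t, -, htN, htw, htc⟩ := h.exists_torus haS ha hJ hw hw1 hw' hw'1
  have h5 : w' * w⁻¹ ∈ A := by
    have := mul_mem (hA t htN _ hv) (inv_mem hv)
    rwa [show t * (w * c) * t⁻¹ = t * w * t⁻¹ * (t * c * t⁻¹) by group, htw, htc c hc,
      show w' * c * (w * c)⁻¹ = w' * w⁻¹ by group] at this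
  intro x hx
  by_cases hx1 : x = 1
  · exact hx1 ▸ one_mem A
  obtain ⟨s, -, hsN, hsw, -⟩ := h.exists_torus haS ha hJ (mul_mem hw' (inv_mem hw))
    (fun e => hww' (mul_inv_eq_one.1 e)) hx hx1
  exact hsw ▸ hA s hsN _ h5

/-- Conjugates of elements of two invariant complementary subgroups commute. -/
theorem conj_commute (A B : Subgroup G) (hAS : A ≤ (S : Subgroup G)) (hBS : B ≤ (S : Subgroup G))
    (hA : ∀ n ∈ normalizer ((S : Subgroup G) : Set G), ∀ x ∈ A, n * x * n⁻¹ ∈ A)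
    (hB : ∀ n ∈ normalizer ((S : Subgroup G) : Set G), ∀ x ∈ B, n * x * n⁻¹ ∈ B)
    (hAB : ∀ x ∈ A, x ∈ B → x = 1) {v u : G} (hv : v ∈ A) (hu : u ∈ B) (hv2 : v * v = 1) (hu2 : u * u = 1)
    (hv1 : v ≠ 1) (g : G) : g * v * g⁻¹ * u = u * (g * v * g⁻¹) := by
  haveI : Fact (Nat.Prime 2) := ⟨Nat.prime_two⟩
  set v' := g * v * g⁻¹ with hv'
  have hv'2 : v' * v' = 1 := by
    rw [hv', show g * v * g⁻¹ * (g * v * g⁻¹) = g * (v * v) * g⁻¹ by group, hv2, mul_one, mul_inv_cancel]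
  have hvi : v'⁻¹ = v' := inv_eq_of_mul_eq_one_right hv'2
  have hui : u⁻¹ = u := inv_eq_of_mul_eq_one_right hu2
  set p := v' * u with hp
  have hinv : ∀ k : ℕ, u * p ^ k * u⁻¹ = (p ^ k)⁻¹ ∧ v' * p ^ k * v'⁻¹ = (p ^ k)⁻¹ := fun k => by
    rw [← conj_pow, ← conj_pow, ← inv_pow, hp, mul_inv_rev, hui, hvi,
      show u * (v' * u) * u = u * v' * (u * u) by group, hu2, mul_one,
      show v' * (v' * u) * v' = v' * v' * (u * v') by group, hv'2, one_mul]
    exact ⟨rfl, rfl⟩
  rcases Nat.even_or_odd (orderOf p) with hev | hodd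
  swap
  · exfalso
    obtain ⟨k, hk⟩ := hodd
    have hp1 : p ^ (k + 1) * p ^ (k + 1) = p := by
      rw [← pow_add, show k + 1 + (k + 1) = orderOf p + 1 by omega, pow_succ, pow_orderOf_eq_one, one_mul]
    have he : p ^ (k + 1) * u * (p ^ (k + 1))⁻¹ = v' := by
      rw [← (hinv (k + 1)).1, show p ^ (k + 1) * u * (u * p ^ (k + 1) * u⁻¹) =
        p ^ (k + 1) * (u * u) * p ^ (k + 1) * u⁻¹ by group, hu2, mul_one, hp1, hp, mul_inv_cancel_right]
    have he2 : (g⁻¹ * p ^ (k + 1)) * u * (g⁻¹ * p ^ (k + 1))⁻¹ = v := by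
      rw [show (g⁻¹ * p ^ (k + 1)) * u * (g⁻¹ * p ^ (k + 1))⁻¹ =
        g⁻¹ * (p ^ (k + 1) * u * (p ^ (k + 1))⁻¹) * g by group, he, hv']
      group
    obtain ⟨n, hn, e⟩ := h.conj_in_normalizer (hBS hu) (he2.symm ▸ hAS hv)
    rw [he2] at e
    exact hv1 (hAB v hv (e ▸ hB n hn u hu))
  · set z := p ^ (orderOf p / 2) with hz
    have hz2 : orderOf z = 2 := by
      rw [hz, orderOf_pow' _ (by have := orderOf_pos p; obtain ⟨k, hk⟩ := hev; omega)]
      obtain ⟨k, hk⟩ := hev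
      have := orderOf_pos p
      rw [show orderOf p / 2 = k by omega, hk, show Nat.gcd (k + k) k = k by simp,
        show k + k = 2 * k by omega, Nat.mul_div_cancel _ (by omega)]
    have hzi : z⁻¹ = z := inv_eq_of_mul_eq_one_right (by
      rw [← pow_two]; exact orderOf_dvd_iff_pow_eq_one.1 hz2.dvd)
    have hzu : u * z = z * u := by
      have := (hinv (orderOf p / 2)).1
      rw [← hz, hzi] at this
      exact mul_inv_eq_iff_eq_mul.1 this
    have hzv : v' * z = z * v' := by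
      have := (hinv (orderOf p / 2)).2
      rw [← hz, hzi] at this
      exact mul_inv_eq_iff_eq_mul.1 this
    -- move `z` and `u` into `S`
    let P : Subgroup G := zpowers z ⊔ zpowers u
    have hP : IsPGroup 2 ↥P := by
      have h1 : ∀ {x : G}, x * x = 1 → IsPGroup 2 ↥(zpowers x) := fun {x} hx y => by
        refine ⟨1, Subtype.ext ?_⟩
        obtain ⟨m, hm⟩ := y.2
        rw [pow_one, SubgroupClass.coe_pow, ← hm, ← zpow_natCast, ← zpow_mul, mul_comm, zpow_mul,
          zpow_natCast, pow_two, hx, one_zpow, coe_one]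
      refine IsPGroup.to_sup_of_normal_left' (h1 (by rw [← pow_two]; exact orderOf_dvd_iff_pow_eq_one.1 hz2.dvd))
        (h1 hu2) ?_
      refine zpowers_le.2 (mem_normalizer_iff.2 fun x => ?_)
      refine ⟨fun hx => ?_, fun hx => ?_⟩
      · obtain ⟨m, rfl⟩ := hx
        exact ⟨m, by show z ^ m = _; rw [((show Commute u z from hzu).zpow_right m).eq, mul_inv_cancel_right]⟩
      · obtain ⟨m, hm⟩ := hx
        exact ⟨m, by
          show z ^ m = _
          calc z ^ m = u⁻¹ * (z ^ m) * u := by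
                rw [((show Commute u z from hzu).inv_left.zpow_right m).eq, inv_mul_cancel_right]
            _ = x := by rw [show z ^ m = u * x * u⁻¹ from hm]; group⟩
    obtain ⟨T, hT⟩ := hP.exists_le_sylow
    obtain ⟨c, hc⟩ := MulAction.exists_smul_eq G T S
    have hmove : ∀ x ∈ P, c * x * c⁻¹ ∈ (S : Subgroup G) := fun x hx => by
      rw [← hc, Sylow.coe_subgroup_smul]
      exact conj_mem_conj (hT hx)
    have hz0S := hmove z (mem_sup_left (mem_zpowers z))
    have hu0S := hmove u (mem_sup_right (mem_zpowers u))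
    set z0 := c * z * c⁻¹
    set u0 := c * u * c⁻¹
    have hu0 : u0 ∈ B := by
      obtain ⟨n, hn, e⟩ := h.conj_in_normalizer (hBS hu) hu0S
      rw [show u0 = c * u * c⁻¹ from rfl, e]
      exact hB n hn u hu
    have hz0 : orderOf z0 = 2 := by rw [← hz2]; exact (MulAut.conj c).orderOf_eq z
    -- `v` inside the centraliser
    set C := centralizer ({z0} : Set G)
    have hv0C : c * v' * c⁻¹ ∈ C := mem_centralizer_one.2 (by
      show c * v' * c⁻¹ * (c * z * c⁻¹) = c * z * c⁻¹ * (c * v' * c⁻¹)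
      rw [show c * v' * c⁻¹ * (c * z * c⁻¹) = c * (v' * z) * c⁻¹ by group, hzv]
      group)
    set v0 : ↥C := ⟨c * v' * c⁻¹, hv0C⟩
    obtain ⟨R, hR⟩ := (show IsPGroup 2 ↥(zpowers v0) from fun y => ⟨1, Subtype.ext (by
      obtain ⟨m, hm⟩ := y.2
      have hv0 : v0 * v0 = 1 := Subtype.ext (by
        show c * v' * c⁻¹ * (c * v' * c⁻¹) = 1
        rw [show c * v' * c⁻¹ * (c * v' * c⁻¹) = c * (v' * v') * c⁻¹ by group, hv'2, mul_one, mul_inv_cancel])
      rw [pow_one, SubgroupClass.coe_pow, ← hm, ← zpow_natCast, ← zpow_mul, mul_comm, zpow_mul,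
        zpow_natCast, pow_two, hv0, one_zpow, coe_one])⟩).exists_le_sylow
    obtain ⟨d, hd⟩ := MulAction.exists_smul_eq ↥C R (S.subtype (h.sylow_le hz0S))
    have hv1S : (d : G) * (c * v' * c⁻¹) * (d : G)⁻¹ ∈ (S : Subgroup G) := by
      have h1 : d * v0 * d⁻¹ ∈ (S.subtype (h.sylow_le hz0S) : Subgroup ↥C) := by
        rw [← hd, Sylow.coe_subgroup_smul]
        exact conj_mem_conj (hR (mem_zpowers v0))
      rw [Sylow.coe_subtype, mem_subgroupOf] at h1
      exact h1
    set v1 := (d : G) * (c * v' * c⁻¹) * (d : G)⁻¹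
    have hv1A : v1 ∈ A := by
      have e : v1 = ((d : G) * c * g) * v * ((d : G) * c * g)⁻¹ := by simp only [v1, hv']; group
      rw [e] at hv1S ⊢
      obtain ⟨n, hn, e'⟩ := h.conj_in_normalizer (hAS hv) hv1S
      rw [e']
      exact hA n hn v hv
    -- decompose `d⁻¹`
    have hdC : (d : G)⁻¹ ∈ compSup comps z0 ⊔ (C ⊓ normalizer ((S : Subgroup G) : Set G)) :=
      h.frattini z0 hz0S hz0 (inv_mem d.2)
    rw [← SetLike.mem_coe, coe_mul_of_right_le_normalizer_left _ _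
      (inf_le_left.trans (h.centralizer_normalizes hz0))] at hdC
    obtain ⟨e, he, n, hn, hen⟩ := hdC
    set v2 := n * v1 * n⁻¹
    have hv2A : v2 ∈ A := hA n hn.2 v1 hv1A
    -- the subgroup commuting with `u0`
    set R' : Subgroup G := A ⊔ ⨆ J ∈ {J | J ∈ comps z0 ∧ B ≤ centralizer (J : Set G)}, J
    have hR'u : R' ≤ centralizer ({u0} : Set G) := by
      refine sup_le (fun x hx => mem_centralizer_one.2 (h.comm x (hAS hx) u0 hu0S)) (iSup₂_le fun J hJ x hx => ?_)
      exact mem_centralizer_one.2 (mem_centralizer_comm.1 (hJ.2 hu0) x hx).symm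
    have hnorm : ∀ J ∈ comps z0, ∀ j ∈ J, ∀ x ∈ R', j * x * j⁻¹ ∈ R' := by
      intro J hJ j hj
      have hle : R' ≤ R'.comap (MulAut.conj j).toMonoidHom := by
        refine sup_le (fun x hx => ?_) (iSup₂_le fun K hK x hx => ?_)
        · show j * x * j⁻¹ ∈ R'
          by_cases hBJ : B ≤ centralizer (J : Set G)
          · have hjR : j ∈ R' := mem_sup_right
              (le_iSup₂ (f := fun K (_ : K ∈ {J | J ∈ comps z0 ∧ B ≤ centralizer (J : Set G)}) => K)
                J ⟨hJ, hBJ⟩ hj)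
            exact mul_mem (mul_mem hjR (mem_sup_left hx)) (inv_mem hjR)
          · have hAJ : A ≤ centralizer (J : Set G) := by
              refine (h.comp_dichotomy hz0S hz0 hJ A hAS hA).resolve_left fun hWA => hBJ ?_
              refine (h.comp_dichotomy hz0S hz0 hJ B hBS hB).resolve_left fun hWB => ?_
              have := h.four z0 hz0S hz0 J hJ
              rw [(eq_bot_iff_forall ((S : Subgroup G) ⊓ J)).2 fun x hx => hAB x (hWA hx) (hWB hx),
                card_bot] at this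
              omega
            rw [← mem_centralizer_comm.1 (hAJ hx) j hj, mul_inv_cancel_right]
            exact mem_sup_left hx
        · show j * x * j⁻¹ ∈ R'
          refine mem_sup_right (le_iSup₂ (f := fun K (_ : K ∈ {J | J ∈ comps z0 ∧ B ≤ centralizer (J : Set G)})
            => K) K hK ?_)
          exact (mem_normalizer_iff.1 (h.compSup_normalizes hz0 hK.1 (h.le_compSup hJ hj)) x).1 hx
      exact fun x hx => hle hx
    have heR : ∀ x ∈ R', e * x * e⁻¹ ∈ R' := by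
      let K : Subgroup G :=
        { carrier := {e | ∀ x ∈ R', e * x * e⁻¹ ∈ R' ∧ e⁻¹ * x * e ∈ R'}
          mul_mem' := fun {e₁ e₂} h₁ h₂ x hx => ⟨by
            rw [show e₁ * e₂ * x * (e₁ * e₂)⁻¹ = e₁ * (e₂ * x * e₂⁻¹) * e₁⁻¹ by group]
            exact (h₁ _ (h₂ x hx).1).1, by
            rw [show (e₁ * e₂)⁻¹ * x * (e₁ * e₂) = e₂⁻¹ * (e₁⁻¹ * x * e₁) * e₂ by group]
            exact (h₂ _ (h₁ x hx).2).2⟩
          one_mem' := fun x hx => by simp [hx]
          inv_mem' := fun {e} he x hx => by rw [inv_inv]; exact ⟨(he x hx).2, (he x hx).1⟩ }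
      have hle : compSup comps z0 ≤ K := iSup₂_le fun J hJ j hj x hx =>
        ⟨hnorm J hJ j hj x hx, by simpa using hnorm J hJ j⁻¹ (inv_mem hj) x hx⟩
      exact fun x hx => (hle he x hx).1
    have hfin := mem_centralizer_one.1 (hR'u (heR v2 (mem_sup_left hv2A)))
    have e0 : e * v2 * e⁻¹ = c * v' * c⁻¹ := by
      calc e * v2 * e⁻¹ = e * n * v1 * (e * n)⁻¹ := by simp only [v2]; group
        _ = (d : G)⁻¹ * v1 * ((d : G)⁻¹)⁻¹ := by rw [show e * n = (d : G)⁻¹ from hen]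
        _ = c * v' * c⁻¹ := by simp only [v1]; group
    rw [e0, show c * v' * c⁻¹ * (c * u * c⁻¹) = c * (v' * u) * c⁻¹ by group,
      show c * u * c⁻¹ * (c * v' * c⁻¹) = c * (u * v') * c⁻¹ by group] at hfin
    exact mul_left_cancel (mul_right_cancel hfin)

/-- Irreducibility. -/
theorem irreducible [IsSimpleGroup G] (hna : ¬ IsMulCommutative G) (A : Subgroup G)
    (hAO : A ≤ omega S h.comm) (hA : ∀ n ∈ normalizer ((S : Subgroup G) : Set G), ∀ x ∈ A, n * x * n⁻¹ ∈ A) :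
    A = ⊥ ∨ omega S h.comm ≤ A := by
  set U := omega S h.comm
  have hUN := h.normalizer_omega
  have hUS : U ≤ (S : Subgroup G) := fun x hx => hx.1
  letI : CommGroup ↥U :=
    { (inferInstance : Group ↥U) with mul_comm := fun a b => Subtype.ext (h.comm _ (hUS a.2) _ (hUS b.2)) }
  haveI : Finite ↥(actHom S U hUN).range := inferInstance
  letI : MulDistribMulAction ↥(actHom S U hUN).range ↥U :=
    { smul := fun q u => (q : MulAut ↥U) u
      one_smul := fun u => rfl
      mul_smul := fun q r u => rfl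
      smul_mul := fun q u v => map_mul (q : MulAut ↥U) u v
      smul_one := fun q => map_one (q : MulAut ↥U) }
  obtain ⟨B', hB', hdisj, hspan⟩ := exists_invariant_compl (V := ↥U) (Q := ↥(actHom S U hUN).range)
    (h.odd_act U hUN hUS) (fun v => Subtype.ext v.2.2) (A.subgroupOf U) (by
      rintro ⟨q, n, rfl⟩ a ha
      show ((actHom S U hUN n a : ↥U) : G) ∈ A
      rw [actHom_apply]
      exact hA n n.2 _ ha)
  set B := B'.map U.subtype
  have hBmem : ∀ x, x ∈ B ↔ ∃ hx : x ∈ U, (⟨x, hx⟩ : ↥U) ∈ B' := fun x => by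
    constructor
    · rintro ⟨⟨y, hy⟩, hy', rfl⟩; exact ⟨hy, hy'⟩
    · rintro ⟨hx, hx'⟩; exact ⟨⟨x, hx⟩, hx', rfl⟩
  have hB : ∀ n ∈ normalizer ((S : Subgroup G) : Set G), ∀ x ∈ B, n * x * n⁻¹ ∈ B := by
    intro n hn x hx
    obtain ⟨hxU, hx'⟩ := (hBmem x).1 hx
    have := hB' ⟨_, ⟨n, hn⟩, rfl⟩ _ hx'
    exact (hBmem _).2 ⟨(actHom S U hUN ⟨n, hn⟩ ⟨x, hxU⟩).2, this⟩
  by_cases hBbot : B' = ⊥
  · refine Or.inr fun x hx => ?_
    obtain ⟨a, ha, b, hb, e⟩ := hspan ⟨x, hx⟩
    rw [hBbot, mem_bot] at hb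
    rw [hb, mul_one] at e
    rw [e] at ha
    exact ha
  refine Or.inl ((eq_bot_iff_forall A).2 fun v hv => ?_)
  by_contra hv1
  obtain ⟨u', hu', hu'1⟩ := (Subgroup.bot_or_exists_ne_one B').resolve_left hBbot
  have hu : (u' : G) ∈ B := (hBmem _).2 ⟨u'.2, hu'⟩
  have hu1 : (u' : G) ≠ 1 := fun e => hu'1 (Subtype.ext e)
  have hAB : ∀ x ∈ A, x ∈ B → x = 1 := fun x hx hxB => by
    obtain ⟨hxU, hx'⟩ := (hBmem x).1 hxB
    exact congrArg Subtype.val (hdisj ⟨x, hxU⟩ hx hx')
  have hcl : normalClosure ({v} : Set G) ≤ centralizer ({(u' : G)} : Set G) := by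
    refine (closure_le _).2 fun x hx => ?_
    obtain ⟨v'', rfl, hconj⟩ := Group.mem_conjugatesOfSet_iff.1 hx
    obtain ⟨g, rfl⟩ := isConj_iff.1 hconj
    exact mem_centralizer_one.2
      (h.conj_commute A B (hAO.trans hUS) (fun x hx => hUS ((hBmem x).1 hx).1) hA hB hAB hv hu
        (hAO hv).2 u'.2.2 hv1 g)
  have htop : normalClosure ({v} : Set G) = ⊤ :=
    (normalClosure_normal.eq_bot_or_eq_top).resolve_left fun e => hv1 (mem_bot.1
      (e ▸ subset_normalClosure rfl))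
  have hz : (u' : G) ∈ center G := mem_center_iff.2 fun x => mem_centralizer_one.1 (hcl (htop ▸ mem_top x))
  rcases (inferInstance : (center G).Normal).eq_bot_or_eq_top with e | e
  · exact hu1 (mem_bot.1 (e ▸ hz))
  · exact hna ⟨⟨fun a b => mem_center_iff.1 (e ▸ mem_top b) a⟩⟩

end CompSys

end Cfsg.Agent.Walter
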