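import Cfsg.Agent.Lib.Walter.ShapeFinal
import Cfsg.Agent.Lib.Walter.Field.Defs
import Cfsg.Agent.Lib.SEAbelian.ReduceSimple
import Cfsg.Agent.Lib.SEAbelian.Main

/-!
# The dichotomy for simple groups with abelian Sylow 2-subgroups

From component systems with trivial odd core: `PSL(2, q)`, `q = 0, 3, 5 (mod 8)`, or the Janko-Ree shape.
-/

set_option autoImplicit false
set_option linter.unusedSectionVars false
set_option linter.style.haveILetI false

open Subgroup
open scoped Pointwise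

namespace Cfsg.Agent.Walter

universe u

variable {G : Type u} [Group G] [Finite G]

/-- Some centraliser of an involution is not solvable. -/
def HasNonsolvCent (G : Type u) [Group G] : Prop :=
  ∃ t : G, orderOf t = 2 ∧ ¬ Group.IsSolvable ↥(centralizer ({t} : Set G))

/-- If some involution centraliser is not solvable, the centralisers have component systems and no odd core
(without the hypothesis this fails in `PSL(2, 11)`). -/
def CentFact (G : Type u) [Group G] : Prop :=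
  HasNonsolvCent G → ∀ S : Sylow 2 G, ∃ comps : G → Set (Subgroup G), CompSys S comps ∧
    ∀ t ∈ (S : Subgroup G), orderOf t = 2 → ∀ N : Subgroup G, N ≤ centralizer ({t} : Set G) →
      Odd (Nat.card ↥N) → centralizer ({t} : Set G) ≤ normalizer (N : Set G) → N = ⊥

/-- `PSL(2, q)`, `q ≡ 0, 3, 5 (mod 8)`. -/
def IsSmallPSL (G : Type u) [Group G] : Prop :=
  ∃ (F : Type) (_ : Field F) (_ : Fintype F),
    ((∃ n : ℕ, 3 ≤ n ∧ Fintype.card F = 2 ^ n) ∨
      ((Fintype.card F % 8 = 3 ∨ Fintype.card F % 8 = 5) ∧ 3 < Fintype.card F)) ∧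
    Nonempty (G ≃* Matrix.ProjectiveSpecialLinearGroup (Fin 2) F)

/-- The Janko-Ree shape. -/
def JRShape (G : Type u) [Group G] : Prop :=
  (∀ S : Sylow 2 G, Nat.card ↥(S : Subgroup G) = 8) ∧
    (∀ u v : G, orderOf u = 2 → orderOf v = 2 → IsConj u v) ∧
    ∃ (t : G) (E E₀ : Subgroup G) (F : Type) (_ : Field F) (_ : Fintype F),
      Cfsg.IsInternalDirectProduct (zpowers t) E (centralizer ({t} : Set G)) ∧ E₀ ≤ E ∧
      (E₀.subgroupOf E).Normal ∧ E ⊓ centralizer (E₀ : Set G) = ⊥ ∧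
      (Fintype.card F % 8 = 3 ∨ Fintype.card F % 8 = 5) ∧ 3 < Fintype.card F ∧
      Field.TwoPSL t F E₀

theorem isSmallPSL_of_out [IsSimpleGroup G] (hnc : ¬ IsMulCommutative G) (h : SEAbelian.AbTwo G)
    (ho : SEAbelian.Out G) : IsSmallPSL G := by
  haveI : Fact (Nat.Prime 2) := ⟨Nat.prime_two⟩
  obtain ⟨F, i1, i2, hF | ⟨n, hn, hF⟩, ⟨e⟩⟩ := ho
  · exact ⟨F, i1, i2, Or.inr ⟨hF.1, by omega⟩, ⟨e⟩⟩
  rcases Nat.lt_or_ge n 3 with hlt | hge
  swap
  · exact ⟨F, i1, i2, Or.inl ⟨n, hge, hF⟩, ⟨e⟩⟩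
  obtain rfl : n = 2 := by omega
  have hq := Cfsg.Agent.Classical.SmallIso.natCard_pslTwo F
  rw [Cfsg.Agent.Classical.GL2.natCard_SL_two, ← Nat.card_congr e.toEquiv, hF] at hq
  norm_num at hq
  obtain ⟨S⟩ := (inferInstance : Nonempty (Sylow 2 G))
  have h4 : Nat.card ↥(S : Subgroup G) = 4 := by
    have hpow : 2 ^ 2 ∣ Nat.card ↥(S : Subgroup G) := S.pow_dvd_card_of_pow_dvd_card (by rw [hq]; norm_num)
    have hd : Nat.card ↥(S : Subgroup G) ∣ 60 := hq ▸ Subgroup.card_subgroup_dvd_card _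
    obtain ⟨k, hk⟩ := IsPGroup.iff_card.1 S.2
    rw [hk] at hpow hd ⊢
    have h2 : 2 ≤ k := (Nat.pow_dvd_pow_iff_le_right (by norm_num)).1 hpow
    by_contra hne
    have h3 : 2 ^ 3 ∣ 60 := (pow_dvd_pow 2 (show 3 ≤ k by
      rcases Nat.lt_or_ge k 3 with hk3 | hk3
      · obtain rfl : k = 2 := by omega
        norm_num at hne
      · exact hk3)).trans hd
    norm_num at h3
  obtain ⟨y, hy, hoy, s, hs, hys⟩ := SEAbelian.exists_acting hnc h S
  have hle : SEAbelian.omegaOf h S ≤ (S : Subgroup G) := fun x hx => hx.1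
  obtain ⟨hΩ, -⟩ := SEAbelian.acting_moves h S ((Subgroup.card_le_of_le hle).trans h4.le) hy hoy hs hys
  have heq := eq_of_le_of_card_ge hle (h4.le.trans hΩ.ge)
  obtain ⟨K, j1, j2, hK, hK3, hiso⟩ := psl_of_four hnc S (fun x hx => (heq.ge hx).2) h4
  exact ⟨K, j1, j2, Or.inr ⟨hK, hK3⟩, hiso⟩

/-- All centralisers are solvable without components. -/
theorem CompSys.solvable_of_empty {S : Sylow 2 G} {comps : G → Set (Subgroup G)} (h : CompSys S comps)
    (hno : ∀ a ∈ (S : Subgroup G), orderOf a = 2 → ∀ J, J ∉ comps a) (t : G) (ht : orderOf t = 2) :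
    Group.IsSolvable ↥(centralizer ({t} : Set G)) := by
  haveI : Fact (Nat.Prime 2) := ⟨Nat.prime_two⟩
  have hP : IsPGroup 2 ↥(zpowers t) := IsPGroup.of_card (n := 1) (by rw [Nat.card_zpowers, ht, pow_one])
  obtain ⟨T, hT⟩ := hP.exists_le_sylow
  obtain ⟨g, hg⟩ := MulAction.exists_smul_eq G T S
  have hgS : g * t * g⁻¹ ∈ (S : Subgroup G) := by
    rw [← hg, Sylow.coe_subgroup_smul]
    exact conj_mem_conj (hT (mem_zpowers t))
  have ha : orderOf (g * t * g⁻¹) = 2 := by rw [← ht]; exact (MulAut.conj g).orderOf_eq t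
  have hle : centralizer ({g * t * g⁻¹} : Set G) ≤ normalizer ((S : Subgroup G) : Set G) :=
    (h.frattini _ hgS ha).trans (sup_le (iSup₂_le fun J hJ => absurd hJ (hno _ hgS ha J)) inf_le_right)
  haveI := isSolvable_normalizer S h.comm
  let φ : ↥(centralizer ({t} : Set G)) →* ↥(normalizer ((S : Subgroup G) : Set G)) :=
    MonoidHom.codRestrict ((MulAut.conj g).toMonoidHom.comp (centralizer ({t} : Set G)).subtype) _
      fun x => hle (mem_centralizer_one.2 (by
        show g * (x : G) * g⁻¹ * (g * t * g⁻¹) = g * t * g⁻¹ * (g * (x : G) * g⁻¹)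
        rw [show g * (x : G) * g⁻¹ * (g * t * g⁻¹) = g * ((x : G) * t) * g⁻¹ by group,
          mem_centralizer_one.1 x.2]
        group))
  exact Group.isSolvable_of_isSolvable_injective (f := φ) fun x y e =>
    Subtype.ext ((MulAut.conj g).injective (congrArg Subtype.val e))

/-- The dichotomy. -/
theorem main [IsSimpleGroup G] (hnc : ¬ IsMulCommutative G) (S : Sylow 2 G)
    (hS : IsMulCommutative ↥(S : Subgroup G)) (hcent : CentFact G) : IsSmallPSL G ∨ JRShape G := by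
  haveI : Fact (Nat.Prime 2) := ⟨Nat.prime_two⟩
  have out : (∀ t : G, orderOf t = 2 → Group.IsSolvable ↥(centralizer ({t} : Set G))) → IsSmallPSL G :=
    fun hsol => isSmallPSL_of_out hnc (SEAbelian.abTwo_of_sylow S hS)
      (SEAbelian.simpleCase SEAbelian.coreLemma G hnc (SEAbelian.abTwo_of_sylow S hS) hsol)
  by_cases hsol : ∀ t : G, orderOf t = 2 → Group.IsSolvable ↥(centralizer ({t} : Set G))
  · exact Or.inl (out hsol)
  push Not at hsol
  obtain ⟨comps, h, hO⟩ := hcent hsol S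
  by_cases hno : ∀ a ∈ (S : Subgroup G), orderOf a = 2 → ∀ J, J ∉ comps a
  · exact Or.inl (out (h.solvable_of_empty hno))
  push Not at hno
  obtain ⟨b, hbS, hb, L, hL⟩ := hno
  obtain ⟨h8, hcl, t, E, ht, hprod, E₀, hE₀E, hn, ⟨F, i1, i2, hF, hF3, hiso⟩, hcent'⟩ :=
    h.shape_centralizer hnc hbS hb hL hO
  refine Or.inr ⟨fun T => ((S.equiv T).toEquiv |> Nat.card_congr).symm.trans h8, hcl, t, E, E₀, F, i1, i2,
    hprod, hE₀E, hn, hcent', hF, hF3, ?_⟩
  obtain ⟨-, hEC, hcomm, hmeet, hsup⟩ := hprod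
  have hE₀ := Subgroup.normal_subgroupOf_iff_le_normalizer hE₀E |>.1 hn
  have htE : t ∉ E := fun e => by
    have hte : t ∈ zpowers t ⊓ E := ⟨mem_zpowers t, e⟩
    rw [hmeet, mem_bot] at hte
    rw [hte, orderOf_one] at ht
    omega
  refine ⟨ht, ?_, hE₀E.trans hEC, ?_, fun e => htE (hE₀E e), ?_, hiso⟩
  · rw [Nat.odd_iff]
    omega
  · rw [← hsup]
    refine sup_le (zpowers_le.2 (centralizer_le_normalizer (E₀ : Set G) ?_)) hE₀
    exact mem_centralizer_comm.2 fun y hy => hcomm t (mem_zpowers t) y (hE₀E hy)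
  · refine le_antisymm ?_ (zpowers_le.2 ⟨mem_centralizer_singleton_iff.2 rfl,
      mem_centralizer_comm.2 fun y hy => hcomm t (mem_zpowers t) y (hE₀E hy)⟩)
    intro x hx
    have hnorm : E ≤ normalizer (zpowers t : Set G) := fun e he =>
      centralizer_le_normalizer (zpowers t : Set G)
        (mem_centralizer_comm.2 fun y hy => (hcomm y hy e he).symm)
    have hx' : x ∈ (zpowers t ⊔ E : Subgroup G) := hsup ▸ hx.1
    rw [← SetLike.mem_coe, coe_mul_of_right_le_normalizer_left _ _ hnorm] at hx'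
    obtain ⟨a, ha, e, he, rfl⟩ := hx'
    have hac : a ∈ centralizer (E₀ : Set G) :=
      mem_centralizer_comm.2 fun y hy => hcomm a ha y (hE₀E hy)
    have h1 : e = 1 := mem_bot.1 (hcent' ▸ (⟨he, by
      simpa using mul_mem (inv_mem hac) hx.2⟩ : e ∈ E ⊓ centralizer (E₀ : Set G)))
    show a * e ∈ zpowers t
    rw [h1, mul_one]
    exact ha

end Cfsg.Agent.Walter
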