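import Cfsg.Agent.Lib.Walter.SEEndDefs
import Cfsg.Agent.Lib.Walter.OddTransitive
import Cfsg.Agent.Lib.SEAbelian.ReduceSignalizer
import Cfsg.Agent.Lib.SECoreTwoClosed.Core.Main
import Cfsg.Agent.Lib.SECoreTwoClosed.Core.Step

/-!
# The strongly embedded end

A simple group with abelian Sylow 2-subgroups of rank at least three has no odd subgroup `W ≠ 1`
whose normalizer contains the centralizers of the involutions of a Sylow 2-subgroup.
-/

set_option autoImplicit false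
set_option linter.style.haveILetI false
set_option linter.unusedSectionVars false

namespace Cfsg.Agent.Walter

open Subgroup
open Cfsg.Agent.Involutions
open Cfsg.Agent.SEAbelian (AbTwo omegaOf prodN le_prodN_left le_prodN_right prodN_le_normalizer)

universe u

variable {G : Type u} [Group G] [Finite G]

/-- An involution modulo an odd normal subgroup lifts to an involution. -/
theorem exists_lift_involution {N : Subgroup G} [N.Normal] (hN : Odd (Nat.card ↥N)) {q : G ⧸ N}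
    (hq : orderOf q = 2) : ∃ x : G, orderOf x = 2 ∧ QuotientGroup.mk' N x = q := by
  set f := QuotientGroup.mk' N with hf
  obtain ⟨x₀, rfl⟩ := QuotientGroup.mk'_surjective N q
  obtain ⟨y, ⟨k, hk⟩, hyx⟩ := SECoreTwoClosed.exists_twoEl_mod (N := N) (x := x₀) ⟨1, by
    rw [← QuotientGroup.eq_one_iff, pow_one, QuotientGroup.mk_pow]
    exact hq ▸ pow_orderOf_eq_one _⟩
  have hy : f y = f x₀ := QuotientGroup.eq.2 hyx
  have hyy : y * y = 1 := by
    refine SETwoClosed.TwoEl.eq_one_of_odd ⟨k, ?_⟩ (SECore.odd_orderOf_of_mem hN ?_)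
    · rw [← pow_two, ← pow_mul, mul_comm, pow_mul, hk, one_pow]
    · rw [← QuotientGroup.eq_one_iff]
      show f (y * y) = 1
      rw [map_mul, hy]
      exact Basic.inv_sq_one hq
  refine ⟨y, Basic.orderOf_two_iff.2 ⟨hyy, fun e => ?_⟩, hy⟩
  rw [e, map_one] at hy
  exact Basic.ne_one hq hy.symm

/-- The general form: a strongly embedded subgroup whose quotient by its odd core has no socle to
exclude has its odd normal subgroups in the odd core of the whole group. -/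
theorem se_le_oddCore (h : AbTwo G) {M : Subgroup G} (hM : Cfsg.IsStronglyEmbedded M)
    (h8 : ∃ A : Subgroup G, A ≤ M ∧ Cfsg.IsElementaryAbelian 2 A ∧ 8 ≤ Nat.card ↥A)
    (hX : NoTransSocle (↥M ⧸ Cfsg.oddCore ↥M)) :
    (Cfsg.oddCore ↥M).map M.subtype ≤ Cfsg.oddCore G := by
  haveI : Fact (Nat.Prime 2) := ⟨Nat.prime_two⟩
  set N := Cfsg.oddCore ↥M with hNdef
  haveI : N.Normal := inferInstance
  have hNodd : Odd (Nat.card ↥N) := Agent.Cores.oddCore_odd
  set f := QuotientGroup.mk' N with hf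
  have hAX : AbTwo (↥M ⧸ N) := (h.subgroup M).map (QuotientGroup.mk'_surjective N)
  have h0 : Cfsg.oddCore (↥M ⧸ N) = ⊥ := Agent.Cores.pPrimeCore_quotient_self 2
  obtain ⟨u, huM, hu⟩ := StronglyEmbedded.exists_involution_notMem hM
  set D := (M ⊓ M.map (MulAut.conj u).toMonoidHom).subgroupOf M with hD
  have hDodd : Odd (Nat.card ↥(D.map f)) := by
    refine Odd.of_dvd_nat ?_ (Subgroup.card_map_dvd _ _)
    rw [hD, Nat.card_congr (subgroupOfEquivOfLe inf_le_left).toEquiv]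
    exact hM.2.2 u huM
  have htr : ∀ a b : ↥M ⧸ N, orderOf a = 2 → orderOf b = 2 →
      ∃ q ∈ D.map f, q * a * q⁻¹ = b := by
    intro a b ha hb
    obtain ⟨x, hx, rfl⟩ := exists_lift_involution hNodd ha
    obtain ⟨y, hy, rfl⟩ := exists_lift_involution hNodd hb
    obtain ⟨d, hd, hdx⟩ := StronglyEmbedded.exists_conj_in_inter hM hu huM
      (s := (x : G)) (t := (y : G)) (by rw [Subgroup.orderOf_coe, hx]) x.2
      (by rw [Subgroup.orderOf_coe, hy]) y.2
    refine ⟨f ⟨d, hd.1⟩, mem_map_of_mem f (mem_subgroupOf.2 hd), ?_⟩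
    rw [← map_mul, ← map_inv, ← map_mul]
    exact congrArg f (Subtype.ext hdx)
  obtain ⟨A, hAM, ⟨hAc, hAe⟩, hA8⟩ := h8
  -- the image of the elementary abelian subgroup
  have hA' : ∃ B : Subgroup (↥M ⧸ N), Cfsg.IsElementaryAbelian 2 B ∧ 8 ≤ Nat.card ↥B := by
    refine ⟨(A.subgroupOf M).map f, ⟨⟨⟨?_⟩⟩, ?_⟩, ?_⟩
    · rintro ⟨_, a, ha, rfl⟩ ⟨_, b, hb, rfl⟩
      refine Subtype.ext ?_
      show f a * f b = f b * f a
      rw [← map_mul, ← map_mul, show a * b = b * a from Subtype.ext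
        (congrArg Subtype.val (hAc.is_comm.comm ⟨(a : G), ha⟩ ⟨(b : G), hb⟩) :)]
    · rintro _ ⟨a, ha, rfl⟩
      rw [← map_pow, show a ^ 2 = 1 from Subtype.ext (hAe _ ha), map_one]
    · refine hA8.trans (le_of_eq ?_)
      rw [← Nat.card_congr (subgroupOfEquivOfLe hAM).toEquiv]
      refine Nat.card_congr (Equiv.ofBijective
        (fun a => (⟨f a.1, mem_map_of_mem f a.2⟩ : ↥((A.subgroupOf M).map f))) ⟨?_, ?_⟩)
      · intro a b e
        have e' : f a.1 = f b.1 := congrArg Subtype.val e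
        have h1 : (a.1)⁻¹ * b.1 = 1 := by
          refine SETwoClosed.TwoEl.eq_one_of_odd ⟨1, Subtype.ext ?_⟩
            (SECore.odd_orderOf_of_mem hNodd (QuotientGroup.eq.1 e'))
          simpa using hAe _ (mul_mem (inv_mem a.2) b.2)
        exact Subtype.ext (inv_mul_eq_one.1 h1)
      · rintro ⟨_, a, ha, rfl⟩
        exact ⟨⟨a, ha⟩, rfl⟩
  -- the quotient is 2-closed
  have hclosed : ∀ S : Sylow 2 (↥M ⧸ N), (S : Subgroup (↥M ⧸ N)).Normal := by
    rcases OddTransitive.closed_or_simple hAX h0 htr with hn | ⟨T, hTn, hTs, hTc, hC, hall⟩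
    · exact hn
    · exact (hX hAX _ hDodd htr hA' T hTn hTs hTc hC hall).elim
  obtain ⟨P⟩ : Nonempty (Sylow 2 (↥M ⧸ N)) := inferInstance
  haveI := hclosed P
  have hinP : ∀ x : ↥M, (∃ k : ℕ, x ^ 2 ^ k ∈ N) → f x ∈ (P : Subgroup (↥M ⧸ N)) := by
    rintro x ⟨k, hk⟩
    refine SEAbelian.mem_sylow_of_normalizer P (by rw [normalizer_eq_top]; exact mem_top _) (k := k) ?_
    rw [← map_pow]
    exact (QuotientGroup.eq_one_iff _).2 hk
  refine SECoreTwoClosed.coreLemma G M _ ⟨hM, map_subtype_le _, ?_,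
    hNodd.of_dvd_nat (Subgroup.card_map_dvd _ _), ?_, A, hAM, ⟨hAc, hAe⟩, hA8⟩
  · intro g hg
    refine mem_normalizer_iff.2 fun z => ⟨?_, ?_⟩
    · rintro ⟨y, hy, rfl⟩
      exact ⟨⟨g, hg⟩ * y * ⟨g, hg⟩⁻¹, (inferInstance : N.Normal).conj_mem y hy _, rfl⟩
    · rintro ⟨y, hy, e⟩
      refine ⟨⟨g, hg⟩⁻¹ * y * ⟨g, hg⟩, by
        simpa using (inferInstance : N.Normal).conj_mem y hy (⟨g, hg⟩ : ↥M)⁻¹, ?_⟩
      rw [map_mul, map_mul, map_inv, e]
      show g⁻¹ * (g * z * g⁻¹) * g = z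
      group
  · rintro a ha b hb ⟨i, a', ha', ea⟩ ⟨j, b', hb', eb⟩
    have h1 := hinP ⟨a, ha⟩ ⟨i, by
      rwa [show (⟨a, ha⟩ : ↥M) ^ 2 ^ i = a' from Subtype.ext ea.symm]⟩
    have h2 := hinP ⟨b, hb⟩ ⟨j, by
      rwa [show (⟨b, hb⟩ : ↥M) ^ 2 ^ j = b' from Subtype.ext eb.symm]⟩
    obtain ⟨k, hk⟩ := P.2 ⟨_, mul_mem h1 h2⟩
    refine ⟨k, (⟨a, ha⟩ * ⟨b, hb⟩ : ↥M) ^ 2 ^ k, (QuotientGroup.eq_one_iff _).1 ?_, rfl⟩
    show f ((⟨a, ha⟩ * ⟨b, hb⟩ : ↥M) ^ 2 ^ k) = 1
    rw [map_pow, map_mul]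
    exact congrArg Subtype.val hk

/-- An odd subgroup normalized by a four-group lies in any subgroup containing the centralizers
of its involutions. -/
theorem le_of_omega (h : AbTwo G) (S : Sylow 2 G) (h8 : 8 ≤ Nat.card ↥(omegaOf h S))
    {W M : Subgroup G} (hW : Odd (Nat.card ↥W))
    (hN : (S : Subgroup G) ≤ normalizer (W : Set G))
    (hM : ∀ a ∈ omegaOf h S, a ≠ 1 → centralizer ({a} : Set G) ≤ M) : W ≤ M := by
  obtain ⟨a, ha, b, hb, ha2, hb2, hab⟩ := SEAbelian.exists_two_omega h S h8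
  refine SECore.le_of_four hW ha.2 hb.2 (h _ S.2 a ha.1 b hb.1) (hN ha.1) (hN hb.1) ?_
  rintro y - (hy | hy | hy)
  · exact hM a ha (Basic.ne_one ha2) (mem_centralizer_singleton_iff.2 hy.eq)
  · exact hM b hb (Basic.ne_one hb2) (mem_centralizer_singleton_iff.2 hy.eq)
  · refine hM (a * b) (mul_mem ha hb) (fun e => hab ?_) (mem_centralizer_singleton_iff.2 hy.eq)
    rw [← Basic.inv_eq hb2]
    exact eq_inv_of_mul_eq_one_left e

/-- A proper subgroup containing the centralizers of the involutions of a Sylow 2-subgroup and its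
normalizer is strongly embedded. -/
theorem isStronglyEmbedded_of (h : AbTwo G) (S : Sylow 2 G) {M : Subgroup G} (hne : M ≠ ⊤)
    (hS : normalizer ((S : Subgroup G) : Set G) ≤ M) (h8 : 8 ≤ Nat.card ↥(omegaOf h S))
    (hC : ∀ a ∈ omegaOf h S, a ≠ 1 → centralizer ({a} : Set G) ≤ M) : Cfsg.IsStronglyEmbedded M := by
  haveI : Fact (Nat.Prime 2) := ⟨Nat.prime_two⟩
  have hSM : (S : Subgroup G) ≤ M := le_normalizer.trans hS
  obtain ⟨a, ha, -, -, ha2, -, -⟩ := SEAbelian.exists_two_omega h S h8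
  have heven : Even (Nat.card ↥M) := by
    rw [even_iff_two_dvd, ← ha2]
    exact orderOf_coe (⟨a, hSM ha.1⟩ : M) ▸ orderOf_dvd_natCard _
  have hinto : ∀ x ∈ M, orderOf x = 2 → ∃ m ∈ M, m * x * m⁻¹ ∈ (S : Subgroup G) := by
    intro x hx hx2
    have hp : IsPGroup 2 ↥(zpowers (⟨x, hx⟩ : M)) := SEAbelian.isPGroup_zpowers (k := 1) (Subtype.ext (by
      rw [Subgroup.coe_pow, pow_one, pow_two, Subgroup.coe_one]
      exact Basic.inv_sq_one hx2))
    obtain ⟨T, hT⟩ := hp.exists_le_sylow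
    obtain ⟨m, hm⟩ := MulAction.exists_smul_eq M T (S.subtype hSM)
    refine ⟨m, m.2, ?_⟩
    have h1 : m * ⟨x, hx⟩ * m⁻¹ ∈ ((m • T : Sylow 2 M) : Subgroup M) := by
      rw [Sylow.coe_subgroup_smul]
      exact ⟨_, hT (mem_zpowers _), rfl⟩
    rw [hm, Sylow.coe_subtype, mem_subgroupOf] at h1
    simpa using h1
  refine StronglyEmbedded.of_conj hne heven fun t ht ht2 g hg => ?_
  obtain ⟨m, hm, hmS⟩ := hinto t ht ht2
  obtain ⟨m', hm', hm'S⟩ := hinto (g * t * g⁻¹) hg (by rw [Basic.orderOf_conj, ht2])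
  set c := m * t * m⁻¹ with hc
  set k := m' * g * m⁻¹ with hk
  have hcS : c ∈ omegaOf h S := ⟨hmS, Basic.inv_sq_one (by rw [hc, Basic.orderOf_conj, ht2])⟩
  have hkc : (k⁻¹)⁻¹ * c * k⁻¹ ∈ (S : Subgroup G) := by
    rw [hk, hc]
    simpa [mul_assoc] using hm'S
  haveI : IsMulCommutative ↥(S : Subgroup G) :=
    ⟨⟨fun x y => Subtype.ext (h _ S.2 x x.2 y y.2).eq⟩⟩
  obtain ⟨n, hn, hne'⟩ := S.conj_eq_normalizer_conj_of_mem c k⁻¹ hmS hkc
  have h1 : n * k ∈ centralizer ({c} : Set G) := by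
    refine mem_centralizer_singleton_iff.2 ?_
    rw [inv_inv] at hne'
    calc n * k * c = n * (k * c * k⁻¹) * k := by group
      _ = n * (n⁻¹ * c * n) * k := by rw [hne']
      _ = c * (n * k) := by group
  have h2 : k ∈ M := by
    have := mul_mem (inv_mem (hS hn : n ∈ M)) (hC c hcS (fun e => by
      have h3 : orderOf c = 2 := by rw [hc, Basic.orderOf_conj, ht2]
      rw [e, orderOf_one] at h3
      omega) h1)
    rwa [show n⁻¹ * (n * k) = k by group] at this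
  have := mul_mem (mul_mem (inv_mem hm') h2) hm
  simpa [hk, mul_assoc] using this

/-- The strongly embedded end of the Walter programme. -/
theorem seEnd [IsSimpleGroup G] (h : AbTwo G) (S : Sylow 2 G) (h8 : 8 ≤ Nat.card ↥(omegaOf h S))
    {W : Subgroup G} (hW1 : W ≠ ⊥) (hW : Odd (Nat.card ↥W))
    (hC : ∀ a ∈ omegaOf h S, a ≠ 1 → centralizer ({a} : Set G) ≤ normalizer (W : Set G))
    (hX : ∀ M : Subgroup G, M ≠ ⊤ → NoTransSocle (↥M ⧸ Cfsg.oddCore ↥M)) : False := by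
  haveI : Fact (Nat.Prime 2) := ⟨Nat.prime_two⟩
  obtain ⟨a, ha, -, -, ha2, -, -⟩ := SEAbelian.exists_two_omega h S h8
  have ha1 : a ≠ 1 := Basic.ne_one ha2
  have h2G : 2 ∣ Nat.card G := ha2 ▸ orderOf_dvd_natCard a
  have hNtop : normalizer (W : Set G) ≠ ⊤ := by
    intro e
    rcases IsSimpleGroup.eq_bot_or_eq_top_of_normal _ (normalizer_eq_top_iff.1 e) with h1 | h1
    · exact hW1 h1
    · rw [h1, Subgroup.card_top, Nat.odd_iff] at hW
      omega
  set NS := normalizer ((S : Subgroup G) : Set G) with hNS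
  set M₁ : Subgroup G := ⨆ c : {c : G // c ∈ omegaOf h S ∧ c ≠ 1}, centralizer ({(c : G)} : Set G) with hM₁
  have hCM : ∀ c ∈ omegaOf h S, c ≠ 1 → centralizer ({c} : Set G) ≤ M₁ := fun c hc hc1 =>
    le_iSup (fun d : {d : G // d ∈ omegaOf h S ∧ d ≠ 1} => centralizer ({(d : G)} : Set G)) ⟨c, hc, hc1⟩
  have hM₁N : M₁ ≤ normalizer (W : Set G) := iSup_le fun c => hC c.1 c.2.1 c.2.2
  have hSM₁ : (S : Subgroup G) ≤ M₁ := fun s hs => hCM a ha ha1 (SEAbelian.sylow_le_centralizer h S ha.1 hs)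
  have key : ∀ n ∈ NS, ∀ x ∈ M₁, n * x * n⁻¹ ∈ M₁ := by
    intro n hn x hx
    have hle : M₁ ≤ M₁.comap (MulAut.conj n).toMonoidHom := iSup_le fun c y hy => by
      have hb : n * c.1 * n⁻¹ ∈ omegaOf h S := ⟨(mem_normalizer_iff.1 hn _).1 c.2.1.1, by
        rw [show n * c.1 * n⁻¹ * (n * c.1 * n⁻¹) = n * (c.1 * c.1) * n⁻¹ by group, c.2.1.2, mul_one,
          mul_inv_cancel]⟩
      refine hCM _ hb (fun e => c.2.2 (conj_eq_one_iff.1 e)) (mem_centralizer_singleton_iff.2 ?_)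
      show n * y * n⁻¹ * (n * c.1 * n⁻¹) = n * c.1 * n⁻¹ * (n * y * n⁻¹)
      calc n * y * n⁻¹ * (n * c.1 * n⁻¹) = n * (y * c.1) * n⁻¹ := by group
        _ = n * (c.1 * y) * n⁻¹ := by rw [mem_centralizer_singleton_iff.1 hy]
        _ = _ := by group
    exact hle hx
  have hNM₁ : NS ≤ normalizer (M₁ : Set G) := fun n hn => mem_normalizer_iff.2 fun x =>
    ⟨key n hn x, fun hx => by simpa [mul_assoc] using key n⁻¹ (inv_mem hn) _ hx⟩
  set M := prodN M₁ NS hNM₁ with hMdef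
  have hMN : M ≤ normalizer (M₁ : Set G) := prodN_le_normalizer
  have hMtop : M ≠ ⊤ := by
    intro e
    rcases IsSimpleGroup.eq_bot_or_eq_top_of_normal _
      (normalizer_eq_top_iff.1 (top_unique (e ▸ hMN))) with h1 | h1
    · exact ha1 (mem_bot.1 (h1 ▸ hSM₁ ha.1))
    · exact hNtop (top_unique (h1 ▸ hM₁N))
  have hSE : Cfsg.IsStronglyEmbedded M := isStronglyEmbedded_of h S hMtop le_prodN_right h8
    fun c hc hc1 => (hCM c hc hc1).trans le_prodN_left
  have hWM₁ : W ≤ M₁ := le_of_omega h S h8 hW (hSM₁.trans hM₁N) hCM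
  have hWcore : W ≤ (Cfsg.oddCore ↥M).map M.subtype := by
    haveI : (W.subgroupOf M₁).Normal := (normal_subgroupOf_iff_le_normalizer hWM₁).2 hM₁N
    have h1 : W.subgroupOf M₁ ≤ Cfsg.oddCore ↥M₁ := Agent.Cores.le_oddCore
      (by rwa [Nat.card_congr (subgroupOfEquivOfLe hWM₁).toEquiv])
    haveI : (M₁.subgroupOf M).Normal := (normal_subgroupOf_iff_le_normalizer le_prodN_left).2 hMN
    intro w hw
    let e : ↥(M₁.subgroupOf M) ≃* ↥M₁ := subgroupOfEquivOfLe le_prodN_left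
    have h2 : ((Cfsg.oddCore ↥M₁).map e.symm.toMonoidHom).map (M₁.subgroupOf M).subtype ≤ Cfsg.oddCore ↥M := by
      haveI : ((Cfsg.oddCore ↥M₁).map e.symm.toMonoidHom).Normal :=
        Subgroup.Normal.map inferInstance _ e.symm.surjective
      exact (Subgroup.map_mono (Agent.Cores.le_oddCore
        ((Agent.Cores.oddCore_odd (G := ↥M₁)).of_dvd_nat (Subgroup.card_map_dvd _ _)))).trans
          (Agent.Cores.map_pPrimeCore_subtype_le 2 _)
    refine ⟨⟨w, le_prodN_left (hWM₁ hw)⟩, h2 ⟨e.symm ⟨w, hWM₁ hw⟩, ⟨_, h1 (mem_subgroupOf.2 hw), rfl⟩, ?_⟩, rfl⟩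
    exact Subtype.ext rfl
  have hA : ∃ A : Subgroup G, A ≤ M ∧ Cfsg.IsElementaryAbelian 2 A ∧ 8 ≤ Nat.card ↥A :=
    ⟨omegaOf h S, fun x hx => le_prodN_left (hSM₁ hx.1),
      ⟨⟨⟨fun x y => Subtype.ext (h _ S.2 x x.2.1 y y.2.1).eq⟩⟩, fun x hx => by rw [pow_two]; exact hx.2⟩, h8⟩
  have hle := hWcore.trans (se_le_oddCore h hSE hA (hX M hMtop))
  rcases IsSimpleGroup.eq_bot_or_eq_top_of_normal (Cfsg.oddCore G) inferInstance with h1 | h1
  · exact hW1 (le_bot_iff.1 (h1 ▸ hle))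
  · have hodd := Agent.Cores.oddCore_odd (G := G)
    rw [h1, Subgroup.card_top, Nat.odd_iff] at hodd
    omega

end Cfsg.Agent.Walter
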