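import Mathlib

/-!
# The linear step of Walter's theorem

An odd group `Q` acting on an elementary abelian 2-group `V = W × X`, with elements fixing `X` and transitive
on the non-identity elements of `W`, such that the conjugates of `X` meet pairwise trivially and `W` is moved,
only exists for `|V| = 8`, `|X| = 2`, and then `Q` is transitive on `V`.
-/

set_option autoImplicit false
set_option linter.unusedSectionVars false

open scoped Pointwise

namespace Cfsg.Agent.Walter

variable {V : Type*} [CommGroup V] {Q : Type*} [Group Q] [MulDistribMulAction Q V]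

/-- The hypotheses of the linear step. -/
structure SpreadHyp (Q : Type*) [Group Q] [MulDistribMulAction Q V] (W X : Subgroup V) : Prop where
  odd : Odd (Nat.card Q)
  sq : ∀ v : V, v * v = 1
  disj : ∀ v ∈ W, v ∈ X → v = 1
  span : ∀ v : V, ∃ w ∈ W, ∃ x ∈ X, w * x = v
  four : 4 ≤ Nat.card W
  xne : ∃ x ∈ X, x ≠ 1
  trans : ∀ u ∈ W, u ≠ 1 → ∀ v ∈ W, v ≠ 1 → ∃ q : Q, q • u = v ∧ ∀ x ∈ X, q • x = x
  stab : ∀ q : Q, q • X = X → q • W = W
  dis : ∀ q : Q, q • X ≠ X → ∀ v ∈ X, v ∈ q • X → v = 1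
  move : ∃ q : Q, q • W ≠ W

namespace SpreadHyp

variable [Finite V] [Finite Q] {W X : Subgroup V} (h : SpreadHyp Q W X)

include h

theorem smul_X_of_fix {t : Q} (ht : ∀ x ∈ X, t • x = x) : t • X = X := by
  have hle : ∀ x ∈ X, x ∈ t • X := fun x hx => by
    have := Subgroup.smul_mem_pointwise_smul x t X hx
    rwa [ht x hx] at this
  refine le_antisymm ?_ hle
  intro v hv
  rw [Subgroup.mem_pointwise_smul_iff_inv_smul_mem] at hv
  have := ht _ hv
  rw [smul_inv_smul] at this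
  rwa [← this] at hv

theorem fix_shift {t : Q} (ht : ∀ x ∈ X, t • x = x) (v : V) : t • v * v ∈ W := by
  obtain ⟨w, hw, x, hx, rfl⟩ := h.span v
  have h1 : t • w ∈ W := by
    rw [← h.stab t (h.smul_X_of_fix ht)]
    exact Subgroup.smul_mem_pointwise_smul w t W hw
  rw [smul_mul', ht x hx, mul_mul_mul_comm, h.sq x, mul_one]
  exact mul_mem h1 hw

theorem exists_other {w : V} : ∃ w' ∈ W, w' ≠ 1 ∧ w' ≠ w := by
  by_contra hcon
  push Not at hcon
  have hsub : (W : Set V) ⊆ {1, w} := fun v hv => by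
    by_cases h1 : v = 1
    · exact Or.inl h1
    · exact Or.inr (hcon v hv h1)
  have h2 := Set.ncard_le_ncard hsub (Set.toFinite _)
  have h3 : ({1, w} : Set V).ncard ≤ 2 := (Set.ncard_insert_le _ _).trans (by simp)
  have h4 : (W : Set V).ncard = Nat.card W := rfl
  have := h.four
  omega

theorem mem_of_fixed {v : V} (hv : ∀ t : Q, (∀ x ∈ X, t • x = x) → t • v = v) : v ∈ X := by
  obtain ⟨w, hw, x, hx, rfl⟩ := h.span v
  by_cases h1 : w = 1
  · simpa [h1] using hx
  · obtain ⟨w', hw', hw'1, hne⟩ := h.exists_other (w := w)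
    obtain ⟨t, htw, htX⟩ := h.trans w hw h1 w' hw' hw'1
    have := hv t htX
    rw [smul_mul', htX x hx, htw] at this
    exact absurd (mul_right_cancel this) hne

theorem eq_of_common {a b : Q} {v : V} (ha : v ∈ a • X) (hb : v ∈ b • X) (hv : v ≠ 1) : a • X = b • X := by
  by_contra hne
  have h1 : (a⁻¹ * b) • X ≠ X := fun e => hne (by
    calc a • X = a • ((a⁻¹ * b) • X) := by rw [e]
      _ = b • X := by rw [smul_smul, mul_inv_cancel_left])
  rw [Subgroup.mem_pointwise_smul_iff_inv_smul_mem] at ha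
  have h2 : a⁻¹ • v ∈ (a⁻¹ * b) • X := by
    rw [mul_smul]
    exact Subgroup.smul_mem_pointwise_smul v _ _ hb
  exact hv (by simpa using congrArg (a • ·) (h.dis _ h1 _ ha h2))

/-- Two moved copies of `W` span `V`. -/
theorem join {q : Q} (hq : q • X ≠ X) (v : V) : ∃ w ∈ W, ∃ w' ∈ q • W, w * w' = v := by
  classical
  have : Fintype Q := Fintype.ofFinite _
  set Y := W ⊔ q • W with hY
  let K : Subgroup Q :=
    { carrier := {r | ∀ u : V, r • u * u ∈ Y}
      mul_mem' := fun {r s} hr hs u => by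
        have := mul_mem (hr (s • u)) (hs u)
        rwa [smul_smul, mul_assoc, ← mul_assoc (s • u), h.sq, one_mul] at this
      one_mem' := fun u => by rw [one_smul, h.sq]; exact one_mem _
      inv_mem' := fun {r} hr u => by
        have := hr (r⁻¹ • u)
        rwa [smul_inv_smul, mul_comm] at this }
  have hT : ∀ t : Q, (∀ x ∈ X, t • x = x) → t ∈ K := fun t ht u =>
    Subgroup.mem_sup_left (h.fix_shift ht u)
  have hT' : ∀ t : Q, (∀ x ∈ X, t • x = x) → q * t * q⁻¹ ∈ K := fun t ht u => by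
    refine Subgroup.mem_sup_right ?_
    rw [Subgroup.mem_pointwise_smul_iff_inv_smul_mem, smul_mul', smul_smul, ← mul_assoc,
      inv_mul_cancel_left, mul_smul]
    exact h.fix_shift ht (q⁻¹ • u)
  set v' := ∏ r : ↥K, (r : Q) • v with hv'
  have hfix : ∀ r : ↥K, (r : Q) • v' = v' := fun r => by
    rw [hv', Finset.smul_prod', ← Equiv.prod_comp (Equiv.mulLeft r) fun s : ↥K => (s : Q) • v]
    exact Finset.prod_congr rfl fun s _ => smul_smul _ _ _
  have h1 : v' ∈ X := h.mem_of_fixed fun t ht => hfix ⟨t, hT t ht⟩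
  have h2 : v' ∈ q • X := by
    rw [Subgroup.mem_pointwise_smul_iff_inv_smul_mem]
    refine h.mem_of_fixed fun t ht => ?_
    have := congrArg (q⁻¹ • ·) (hfix ⟨_, hT' t ht⟩)
    simpa [smul_smul, mul_assoc] using this
  have h3 : v' = 1 := h.dis q hq v' h1 h2
  have h4 : (∏ r : ↥K, ((r : Q) • v * v)) ∈ Y := Subgroup.prod_mem _ fun r _ => r.2 v
  have hodd : Odd (Fintype.card ↥K) := by
    rw [← Nat.card_eq_fintype_card]
    exact h.odd.of_dvd_nat (Subgroup.card_subgroup_dvd_card K)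
  obtain ⟨k, hk⟩ := hodd
  rw [Finset.prod_mul_distrib, ← hv', h3, one_mul, Finset.prod_const, Finset.card_univ, hk, pow_succ,
    pow_mul, pow_two, h.sq, one_pow, one_mul] at h4
  exact Subgroup.mem_sup.1 h4

/-- A non-identity element of `X` lies in a moved copy of `W`. -/
theorem exists_meet : ∃ z ∈ X, z ≠ 1 ∧ ∃ q : Q, q • X ≠ X ∧ z ∈ q • W := by
  obtain ⟨q, hq⟩ := h.move
  have hqX : q • X ≠ X := fun e => hq (h.stab q e)
  have key : ∀ (r : Q) (z : V), z ∈ X → z ≠ 1 → z ∈ r • W → r • X ≠ X := fun r z hz hz1 hzr e =>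
    hz1 (h.disj z (by rwa [h.stab r e] at hzr) hz)
  by_contra hcon
  push Not at hcon
  have hno : ∀ (r : Q) (z : V), z ∈ X → z ≠ 1 → z ∉ r • W := fun r z hz hz1 hzr =>
    hcon z hz hz1 r (key r z hz hz1 hzr) hzr
  obtain ⟨x, hx, hx1⟩ := h.xne
  have hxq : q • x ∉ X := fun e =>
    hx1 (by simpa using congrArg (q⁻¹ • ·) (h.dis q hqX _ e (Subgroup.smul_mem_pointwise_smul x q X hx)))
  obtain ⟨w₂, hw₂, b, hb, hv⟩ := h.span (q • x)
  by_cases hb1 : b = 1
  · refine hno q⁻¹ x hx hx1 ?_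
    rw [Subgroup.mem_pointwise_smul_iff_inv_smul_mem, inv_inv, ← hv, hb1, mul_one]
    exact hw₂
  obtain ⟨w, hw, w', hw', hbw⟩ := h.join hqX b
  have hw1 : w ≠ 1 := fun e => hno q b hb hb1 (by rw [e, one_mul] at hbw; exact hbw ▸ hw')
  have hw₂1 : w₂ ≠ 1 := fun e => hxq (by rw [← hv, e, one_mul]; exact hb)
  obtain ⟨t, htw, htX⟩ := h.trans w hw hw1 w₂ hw₂ hw₂1
  have h5 : t • w' = q • x := by
    have e : w' = w * b := by rw [← hbw, ← mul_assoc, h.sq, one_mul]
    rw [e, smul_mul', htw, htX b hb, hv]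
  refine hno (q⁻¹ * (t * q)) x hx hx1 ?_
  rw [mul_smul, Subgroup.mem_pointwise_smul_iff_inv_smul_mem, inv_inv, ← h5, mul_smul]
  exact Subgroup.smul_mem_pointwise_smul _ t _ hw'

/-- No two copies meet each other's `W`. -/
theorem antisymm {q : Q} {b w : V} (hb : b ∈ X) (hb1 : b ≠ 1) (hbq : b ∈ q • W) (hw : w ∈ W) (hw1 : w ≠ 1)
    (hwq : w ∈ q • X) : False := by
  have hqX : q • X ≠ X := fun e => hb1 (h.disj b (by rwa [h.stab q e] at hbq) hb)
  rw [Subgroup.mem_pointwise_smul_iff_inv_smul_mem] at hbq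
  have hb1' : q⁻¹ • b ≠ 1 := fun e => hb1 (by simpa using congrArg (q • ·) e)
  obtain ⟨t, htw, htX⟩ := h.trans w hw hw1 _ hbq hb1'
  have h1 : (t * q) • X = q⁻¹ • X := h.eq_of_common (v := q⁻¹ • b)
    (by rw [← htw, mul_smul]; exact Subgroup.smul_mem_pointwise_smul _ _ _ hwq)
    (Subgroup.smul_mem_pointwise_smul _ _ _ hb) hb1'
  have h2 : (q * t) • X = q • X := by rw [mul_smul, h.smul_X_of_fix htX]
  have h3 : ((q * t) ^ 2) • X = X := by
    rw [pow_two, mul_smul, h2, smul_smul, mul_assoc, mul_smul, h1, smul_inv_smul]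
  obtain ⟨k, hk⟩ := h.odd.of_dvd_nat (orderOf_dvd_natCard (q * t))
  have h4 : ((q * t) ^ 2) ^ (k + 1) = q * t := by
    rw [← pow_mul, show 2 * (k + 1) = orderOf (q * t) + 1 by omega, pow_succ, pow_orderOf_eq_one, one_mul]
  have h5 : ∀ n : ℕ, (((q * t) ^ 2) ^ n) • X = X := fun n => by
    induction n with
    | zero => rw [pow_zero, one_smul]
    | succ n ih => rw [pow_succ, mul_smul, h3, ih]
  exact hqX (h2 ▸ h4 ▸ h5 (k + 1))

omit h in
/-- The right classes entering the count. -/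
def Outp (W X : Subgroup V) (q : Q) : Prop := ∃ w ∈ W, w ≠ 1 ∧ w ∈ q • X

omit h in
def Inp (W X : Subgroup V) (q : Q) : Prop := ∃ b ∈ X, b ≠ 1 ∧ b ∈ q • W

omit h in
theorem outp_inv {q : Q} : Outp W X q⁻¹ ↔ Inp W X q := by
  constructor
  · rintro ⟨w, hw, hw1, hwq⟩
    refine ⟨q • w, ?_, fun e => hw1 (by simpa using congrArg (q⁻¹ • ·) e),
      Subgroup.smul_mem_pointwise_smul _ _ _ hw⟩
    rwa [Subgroup.mem_pointwise_smul_iff_inv_smul_mem, inv_inv] at hwq
  · rintro ⟨b, hb, hb1, hbq⟩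
    refine ⟨q⁻¹ • b, ?_, fun e => hb1 (by simpa using congrArg (q • ·) e),
      Subgroup.smul_mem_pointwise_smul _ _ _ hb⟩
    rwa [Subgroup.mem_pointwise_smul_iff_inv_smul_mem] at hbq

/-- The count: `|X| = 2`, and every moved copy of `X` is in one of the two classes. -/
theorem count : Nat.card X = 2 ∧ Nat.card W * 2 = Nat.card V ∧
    ∀ v : V, v ≠ 1 → ∃ q : Q, v ∈ q • X ∧ (q • X = X ∨ Outp W X q ∨ Inp W X q) := by
  classical
  have : Fintype Q := Fintype.ofFinite _
  have : Fintype V := Fintype.ofFinite _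
  obtain ⟨z, hz, hz1, q₂, hq₂, hzq⟩ := h.exists_meet
  obtain ⟨x₀, hx₀, hx₀1⟩ := h.xne
  set u := q₂ • x₀ with hu
  have huq : u ∈ q₂ • X := Subgroup.smul_mem_pointwise_smul _ _ _ hx₀
  have hu1 : u ≠ 1 := fun e => hx₀1 (by simpa [hu] using congrArg (q₂⁻¹ • ·) e)
  obtain ⟨y, hy, c, hc, hyc⟩ := h.span u
  have hy1 : y ≠ 1 := fun e => hu1 (h.dis q₂ hq₂ u (by rw [← hyc, e, one_mul]; exact hc) huq)
  set H : Finset Q := Finset.univ.filter fun q => q • X = X with hH
  set A : Finset Q := Finset.univ.filter fun q => Outp W X q with hA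
  set B : Finset Q := Finset.univ.filter fun q => Inp W X q with hB
  set W' : Finset V := Finset.univ.filter fun v => v ∈ W ∧ v ≠ 1 with hW'
  set X' : Finset V := Finset.univ.filter fun v => v ∈ X ∧ v ≠ 1 with hX'
  have hT : ∀ w : V, ∃ t : Q, w ∈ W → w ≠ 1 → t • y = w ∧ ∀ x ∈ X, t • x = x := fun w => by
    by_cases hw : w ∈ W ∧ w ≠ 1
    · obtain ⟨t, ht⟩ := h.trans y hy hy1 w hw.1 hw.2
      exact ⟨t, fun _ _ => ht⟩
    · exact ⟨1, fun h1 h2 => absurd ⟨h1, h2⟩ hw⟩
  choose t ht using hT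
  -- the class `B` is large
  have hB1 : (W' ×ˢ H).card ≤ B.card := by
    refine Finset.card_le_card_of_injOn (fun p => t p.1 * q₂ * p.2) ?_ ?_
    · rintro ⟨w, k⟩ hp
      simp only [hW', hH, Finset.coe_product, Set.mem_prod, Finset.coe_filter, Finset.mem_univ, true_and,
        Set.mem_ofPred_eq] at hp
      simp only [hB, Finset.coe_filter, Finset.mem_univ, true_and, Set.mem_ofPred_eq]
      refine ⟨z, hz, hz1, ?_⟩
      rw [mul_smul, h.stab k hp.2, mul_smul]
      have := Subgroup.smul_mem_pointwise_smul _ (t w) _ hzq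
      rwa [(ht w hp.1.1 hp.1.2).2 z hz] at this
    · rintro ⟨w, k⟩ hp ⟨w', k'⟩ hp' e
      simp only [hW', hH, Finset.coe_product, Set.mem_prod, Finset.coe_filter, Finset.mem_univ, true_and,
        Set.mem_ofPred_eq] at hp hp'
      obtain ⟨htw, htX⟩ := ht w hp.1.1 hp.1.2
      obtain ⟨htw', htX'⟩ := ht w' hp'.1.1 hp'.1.2
      have e' : t w * q₂ * k = t w' * q₂ * k' := e
      have hXX : t w • (q₂ • X) = t w' • (q₂ • X) := by
        rw [← mul_smul, ← mul_smul]
        calc (t w * q₂) • X = (t w * q₂ * k) • X := by rw [mul_smul (t w * q₂), hp.2]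
          _ = (t w' * q₂) • X := by rw [e', mul_smul (t w' * q₂), hp'.2]
      have h7 : t w • u * t w' • u = w * w' := by
        rw [← hyc, smul_mul', smul_mul', htw, htw', htX c hc, htX' c hc, mul_mul_mul_comm, h.sq, mul_one]
      have h8 : w * w' ∈ t w • (q₂ • X) := by
        rw [← h7]
        exact mul_mem (Subgroup.smul_mem_pointwise_smul _ _ _ huq)
          (hXX ▸ Subgroup.smul_mem_pointwise_smul _ _ _ huq)
      have hww : w * w' = 1 := by
        by_contra hne
        rw [← mul_smul] at h8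
        refine h.antisymm hz hz1 ?_ (mul_mem hp.1.1 hp'.1.1) hne h8
        have := Subgroup.smul_mem_pointwise_smul _ (t w) _ hzq
        rwa [htX z hz, ← mul_smul] at this
      have hwe : w = w' := by
        calc w = w * (w' * w') := by rw [h.sq, mul_one]
          _ = w' := by rw [← mul_assoc, hww, one_mul]
      subst hwe
      rw [mul_left_cancel e']
  have hAB : A.card = B.card := Finset.card_bij' (fun q _ => q⁻¹) (fun q _ => q⁻¹)
    (fun q hq => by
      simp only [hA, hB, Finset.mem_filter, Finset.mem_univ, true_and] at hq ⊢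
      exact outp_inv.1 (by rwa [inv_inv]))
    (fun q hq => by
      simp only [hA, hB, Finset.mem_filter, Finset.mem_univ, true_and] at hq ⊢
      exact outp_inv.2 hq)
    (fun q _ => inv_inv q) (fun q _ => inv_inv q)
  have hd1 : Disjoint A B := Finset.disjoint_left.2 fun q ha hb => by
    simp only [hA, hB, Finset.mem_filter, Finset.mem_univ, true_and] at ha hb
    obtain ⟨w, hw, hw1, hwq⟩ := ha
    obtain ⟨b, hb, hb1, hbq⟩ := hb
    exact h.antisymm hb hb1 hbq hw hw1 hwq
  have hd2 : Disjoint (A ∪ B) H := Finset.disjoint_left.2 fun q hab hq => by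
    simp only [hA, hB, hH, Finset.mem_union, Finset.mem_filter, Finset.mem_univ, true_and] at hab hq
    rcases hab with ⟨w, hw, hw1, hwq⟩ | ⟨b, hb, hb1, hbq⟩
    · exact hw1 (h.disj w hw (hq ▸ hwq))
    · exact hb1 (h.disj b (h.stab q hq ▸ hbq) hb)
  -- the fibres
  set P : Finset (Q × V) := (A ∪ B ∪ H) ×ˢ X' with hP
  set N : Finset V := Finset.univ.filter fun v => v ≠ 1 with hN
  set I : Finset V := P.image fun p => p.1 • p.2 with hI
  have hfib : P.card ≤ H.card * I.card := by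
    refine Finset.card_le_mul_card_image P H.card fun v hv => ?_
    obtain ⟨⟨a, b⟩, hab, rfl⟩ := Finset.mem_image.1 hv
    refine Finset.card_le_card_of_injOn (fun p => a⁻¹ * p.1) ?_ ?_
    · rintro ⟨a', b'⟩ hp
      simp only [Finset.coe_filter, Set.mem_ofPred_eq] at hp
      simp only [hP, hX', Finset.mem_product, Finset.mem_filter, Finset.mem_univ, true_and] at hab hp
      simp only [hH, Finset.coe_filter, Finset.mem_univ, true_and, Set.mem_ofPred_eq]
      have hne : a • b ≠ 1 := fun e => hab.2.2 (by simpa using congrArg (a⁻¹ • ·) e)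
      have := h.eq_of_common (Subgroup.smul_mem_pointwise_smul b a X hab.2.1)
        (hp.2 ▸ Subgroup.smul_mem_pointwise_smul b' a' X hp.1.2.1) hne
      rw [mul_smul, ← this, inv_smul_smul]
    · rintro ⟨a', b'⟩ hp ⟨a'', b''⟩ hp' e
      simp only [Finset.coe_filter, Set.mem_ofPred_eq] at hp hp'
      obtain rfl : a' = a'' := mul_left_cancel e
      obtain rfl : b' = b'' := by
        have := congrArg (a'⁻¹ • ·) (hp.2.trans hp'.2.symm)
        simpa using this
      rfl
  have hIN : I ⊆ N := fun v hv => by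
    obtain ⟨⟨a, b⟩, hab, rfl⟩ := Finset.mem_image.1 hv
    simp only [hP, hX', Finset.mem_product, Finset.mem_filter, Finset.mem_univ, true_and] at hab
    simp only [hN, Finset.mem_filter, Finset.mem_univ, true_and]
    exact fun e => hab.2.2 (by simpa using congrArg (a⁻¹ • ·) e)
  have hcN : N.card + 1 = Nat.card V := by
    rw [hN, Finset.filter_ne', Finset.card_erase_add_one (Finset.mem_univ _), Finset.card_univ,
      Nat.card_eq_fintype_card]
  have hcW : W'.card + 1 = Nat.card W := by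
    have e : W' = (Finset.univ.filter fun v => v ∈ W).erase 1 := by
      ext v; simp [hW', and_comm]
    rw [e, Finset.card_erase_add_one (by simp), Nat.card_eq_fintype_card, Fintype.card_subtype]
  have hcX : X'.card + 1 = Nat.card X := by
    have e : X' = (Finset.univ.filter fun v => v ∈ X).erase 1 := by
      ext v; simp [hX', and_comm]
    rw [e, Finset.card_erase_add_one (by simp), Nat.card_eq_fintype_card, Fintype.card_subtype]
  have hcV : Nat.card W * Nat.card X = Nat.card V := by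
    rw [← Nat.card_prod]
    refine Nat.card_congr (Equiv.ofBijective (fun p : ↥W × ↥X => (p.1 : V) * p.2) ⟨?_, fun v => ?_⟩)
    · rintro ⟨⟨a, ha⟩, ⟨b, hb⟩⟩ ⟨⟨a', ha'⟩, ⟨b', hb'⟩⟩ (e : a * b = a' * b')
      have e1 : a * a' = b * b' := by
        calc a * a' = (a * b) * (b * a') := by rw [mul_assoc, ← mul_assoc b, h.sq, one_mul]
          _ = (a' * b') * (b * a') := by rw [e]
          _ = (a' * a') * (b * b') := by simp only [mul_comm, mul_left_comm]
          _ = b * b' := by rw [h.sq, one_mul]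
      have h9 : a * a' = 1 := h.disj _ (mul_mem ha ha') (e1 ▸ mul_mem hb hb')
      obtain rfl : a = a' := by
        calc a = a * (a' * a') := by rw [h.sq, mul_one]
          _ = a' := by rw [← mul_assoc, h9, one_mul]
      obtain rfl := mul_left_cancel e
      rfl
    · obtain ⟨w, hw, x, hx, e⟩ := h.span v
      exact ⟨⟨⟨w, hw⟩, ⟨x, hx⟩⟩, e⟩
  have hHpos : 0 < H.card := Finset.card_pos.2 ⟨1, by simp [hH]⟩
  have hXpos : 0 < X'.card := Finset.card_pos.2 ⟨x₀, by simp [hX', hx₀, hx₀1]⟩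
  have hM := h.four
  rw [Finset.card_product] at hB1
  have hPc : P.card = (A.card + B.card + H.card) * X'.card := by
    rw [hP, Finset.card_product, Finset.card_union_of_disjoint hd2, Finset.card_union_of_disjoint hd1]
  have hle := Finset.card_le_card hIN
  have h10 : (2 * W'.card + 1) * X'.card ≤ I.card := by
    refine Nat.le_of_mul_le_mul_left (le_trans ?_ (hPc ▸ hfib)) hHpos
    rw [← mul_assoc, hAB]
    exact Nat.mul_le_mul_right _ (by nlinarith [hB1])
  have hXone : X'.card = 1 := by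
    by_contra hne
    have h2 : 2 ≤ X'.card := by omega
    rw [← hcW, ← hcX] at hcV
    nlinarith
  have hI_eq : I = N := by
    refine Finset.eq_of_subset_of_card_le hIN ?_
    rw [← hcW, ← hcX, hXone] at hcV
    rw [hXone, mul_one] at h10
    omega
  refine ⟨by omega, by rw [← hcX, hXone] at hcV; exact hcV, fun v hv => ?_⟩
  have hvI : v ∈ I := hI_eq ▸ (by simp [hN, hv])
  obtain ⟨⟨a, b⟩, hab, rfl⟩ := Finset.mem_image.1 hvI
  simp only [hP, hX', hA, hB, hH, Finset.mem_product, Finset.mem_union, Finset.mem_filter, Finset.mem_univ,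
    true_and] at hab
  refine ⟨a, Subgroup.smul_mem_pointwise_smul _ _ _ hab.2.1, ?_⟩
  rcases hab.1 with (ha | hb) | hh
  · exact Or.inr (Or.inl ha)
  · exact Or.inr (Or.inr hb)
  · exact Or.inl hh

/-- The element of `X`, and the transitivity. -/
theorem orbit : ∃ z ∈ X, z ≠ 1 ∧ (∀ x ∈ X, x = 1 ∨ x = z) ∧
    (∀ {v : V} {a : Q}, v ≠ 1 → v ∈ a • X → a • z = v) ∧ ∀ v : V, v ≠ 1 → ∃ q : Q, q • z = v := by
  obtain ⟨hX2, -, hcov⟩ := h.count
  obtain ⟨z, hz, hz1⟩ := h.xne
  have hXz : ∀ x ∈ X, x = 1 ∨ x = z := fun x hx => by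
    by_contra hcon
    push Not at hcon
    have hsub : ({1, z, x} : Set V) ⊆ X := by
      rintro v (rfl | rfl | rfl)
      exacts [one_mem _, hz, hx]
    have := Set.ncard_le_ncard hsub (Set.toFinite _)
    rw [Set.ncard_insert_of_notMem (by simp [Ne.symm hz1, Ne.symm hcon.1]) (Set.toFinite _),
      Set.ncard_pair (Ne.symm hcon.2)] at this
    have h4 : (X : Set V).ncard = 2 := hX2
    omega
  have hmem : ∀ {v : V} {a : Q}, v ≠ 1 → v ∈ a • X → a • z = v := by
    intro v a hv ha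
    rw [Subgroup.mem_pointwise_smul_iff_inv_smul_mem] at ha
    rcases hXz _ ha with e | e
    · exact absurd (by simpa using congrArg (a • ·) e) hv
    · rw [← e, smul_inv_smul]
  refine ⟨z, hz, hz1, hXz, hmem, fun v hv => ?_⟩
  obtain ⟨q, hq, -⟩ := hcov v hv
  exact ⟨q, hmem hv hq⟩

omit h in
theorem parity_false (a₁ a₂ a₃ b₁ b₂ b₃ : Prop) (p : ¬a₁ ↔ (¬a₂ ↔ ¬a₃)) (q : ¬b₁ ↔ (¬b₂ ↔ ¬b₃))
    (r : ¬(a₁ ↔ b₁) ↔ (¬(a₂ ↔ b₂) ↔ ¬(a₃ ↔ b₃))) : False := by
  by_cases a₁ <;> by_cases a₂ <;> by_cases a₃ <;> by_cases b₁ <;> by_cases b₂ <;> by_cases b₃ <;> simp_all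

omit h in
theorem parity_shift (a₁ a₂ a₃ : Prop) (e : ¬a₃ ↔ (¬a₁ ↔ ¬a₂)) : ¬a₁ ↔ (¬a₂ ↔ ¬a₃) := by
  by_cases a₁ <;> by_cases a₂ <;> by_cases a₃ <;> simp_all

/-- The tournament bounds `V`. -/
theorem card_le_eight : Nat.card V ≤ 8 := by
  classical
  obtain ⟨z, hz, hz1, hXz, hmem, horb⟩ := h.orbit
  obtain ⟨-, -, hcov⟩ := h.count
  choose rep hrep using horb
  -- the tournament
  let R : V → V → Prop := fun u v => ∃ hu : u ≠ 1, v ∈ rep u hu • W
  have hR : ∀ {u v : V} (q : Q), u ≠ 1 → q • z = u → (R u v ↔ v ∈ q • W) := by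
    intro u v q hu hq
    have e : rep u hu • X = q • X := h.eq_of_common
      (by have h' := Subgroup.smul_mem_pointwise_smul z (rep u hu) X hz; rwa [hrep u hu] at h')
      (by have h' := Subgroup.smul_mem_pointwise_smul z q X hz; rwa [hq] at h') hu
    have e2 : (q⁻¹ * rep u hu) • W = W := h.stab _ (by rw [mul_smul, e, inv_smul_smul])
    have e3 : rep u hu • W = q • W := by
      have e4 : rep u hu • W = q • ((q⁻¹ * rep u hu) • W) := by rw [smul_smul, mul_inv_cancel_left]
      rwa [e2] at e4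
    exact ⟨fun ⟨_, h1⟩ => e3 ▸ h1, fun h1 => ⟨hu, e3 ▸ h1⟩⟩
  have hxor : ∀ u v : V, u ≠ 1 → v ≠ 1 → u ≠ v → (R u v ↔ ¬ R v u) := by
    intro u v hu hv huv
    obtain ⟨a, ha⟩ : ∃ a : Q, a • z = u := ⟨rep u hu, hrep u hu⟩
    obtain ⟨b, hb⟩ : ∃ b : Q, b • z = v := ⟨rep v hv, hrep v hv⟩
    have hav : a⁻¹ • v ≠ 1 := fun e => hv (by simpa using congrArg (a • ·) e)
    obtain ⟨r, hr, hcase⟩ := hcov _ hav
    have hrz : r • z = a⁻¹ • v := hmem hav hr
    have harz : (a * r) • z = v := by rw [mul_smul, hrz, smul_inv_smul]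
    rw [hR a hu ha, hR (a * r) hv harz, Subgroup.mem_pointwise_smul_iff_inv_smul_mem]
    have hin : u ∈ (a * r) • W ↔ z ∈ r • W := by
      rw [← ha, mul_smul]
      exact Subgroup.smul_mem_pointwise_smul_iff
    rw [hin]
    rcases hcase with hH | ⟨w, hw, hw1, hwr⟩ | ⟨b', hb', hb'1, hbr⟩
    · refine absurd ?_ huv
      have : r • z ∈ X := hH ▸ Subgroup.smul_mem_pointwise_smul _ _ _ hz
      rcases hXz _ this with e | e
      · exact absurd (hrz ▸ e) hav
      · rw [hrz] at e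
        rw [← ha, ← e, smul_inv_smul]
    · have e : r • z = w := hmem hw1 hwr
      rw [← hrz, e]
      exact ⟨fun _ hzr => h.antisymm hz hz1 hzr hw hw1 hwr, fun _ => hw⟩
    · rcases hXz _ hb' with e | e
      · exact absurd e hb'1
      subst e
      refine ⟨fun hv' _ => h.antisymm hz hz1 hbr hv' hav hr, fun hn => absurd hbr hn⟩
  have hhalf : ∀ u : V, u ≠ 1 → ∀ x y : V, R u (x * y) ↔ (R u x ↔ R u y) := by
    intro u hu x y
    simp only [hR (rep u hu) hu (hrep u hu), Subgroup.mem_pointwise_smul_iff_inv_smul_mem, smul_mul']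
    have hclass : ∀ v : V, v ∈ W ∨ v * z ∈ W := fun v => by
      obtain ⟨w, hw, x, hx, e⟩ := h.span v
      rcases hXz x hx with hx1 | hx1
      · exact Or.inl (by rw [← e, hx1, mul_one]; exact hw)
      · exact Or.inr (by rw [← e, hx1, mul_assoc, h.sq, mul_one]; exact hw)
    generalize (rep u hu)⁻¹ • x = a
    generalize (rep u hu)⁻¹ • y = b
    constructor
    · intro hab
      exact ⟨fun ha => (Subgroup.mul_mem_cancel_left W ha).1 hab,
        fun hb => (Subgroup.mul_mem_cancel_right W hb).1 hab⟩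
    · intro hiff
      by_cases ha : a ∈ W
      · exact mul_mem ha (hiff.1 ha)
      · have h1 := (hclass a).resolve_left ha
        have h2 := (hclass b).resolve_left fun hb => ha (hiff.2 hb)
        have := mul_mem h1 h2
        rwa [mul_mul_mul_comm, h.sq, mul_one] at this
  by_contra hbig
  obtain ⟨v₁, -, hv₁⟩ := h.xne
  obtain ⟨v₂, -, hv₂, hne⟩ := h.exists_other (w := v₁)
  set v₃ := v₁ * v₂ with hv₃def
  have hv₃ : v₃ ≠ 1 := fun e => hne (by
    calc v₂ = v₁ * v₁ * v₂ := by rw [h.sq, one_mul]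
      _ = v₁ := by rw [mul_assoc, ← hv₃def, e, mul_one])
  set P : Set V := {1, v₁, v₂, v₃} with hP
  have hPc : P.ncard ≤ 4 := by
    refine (Set.ncard_insert_le _ _).trans ?_
    refine Nat.succ_le_succ ((Set.ncard_insert_le _ _).trans ?_)
    exact Nat.succ_le_succ ((Set.ncard_insert_le _ _).trans (by simp))
  obtain ⟨u, hu⟩ : ∃ u, u ∉ P := by
    by_contra hall
    push Not at hall
    rw [show P = Set.univ from Set.eq_univ_of_forall hall, Set.ncard_univ] at hPc
    omega
  obtain ⟨u', hu'⟩ : ∃ u', u' ∉ P ∪ (u * ·) '' P := by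
    by_contra hall
    push Not at hall
    have := (Set.ncard_union_le P ((u * ·) '' P)).trans
      (Nat.add_le_add hPc ((Set.ncard_image_le (Set.toFinite P)).trans hPc))
    rw [show P ∪ (u * ·) '' P = Set.univ from Set.eq_univ_of_forall hall, Set.ncard_univ] at this
    omega
  have hu'' : u * u' ∉ P := fun hm => hu' (Or.inr ⟨_, hm, show u * (u * u') = u' by rw [← mul_assoc, h.sq, one_mul]⟩)
  have par : ∀ s : V, s ∉ P → ((¬ R v₁ s ↔ (¬ R v₂ s ↔ ¬ R v₃ s))) := by
    intro s hs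
    simp only [hP, Set.mem_insert_iff, Set.mem_singleton_iff, not_or] at hs
    obtain ⟨s0, s1, s2, s3⟩ := hs
    have e := hhalf s s0 v₁ v₂
    rw [← hv₃def, hxor s v₁ s0 hv₁ s1, hxor s v₂ s0 hv₂ s2, hxor s v₃ s0 hv₃ s3] at e
    exact parity_shift _ _ _ e
  have p1 := par u hu
  have p2 := par u' fun hm => hu' (Or.inl hm)
  have p3 := par (u * u') hu''
  rw [hhalf v₁ hv₁, hhalf v₂ hv₂, hhalf v₃ hv₃] at p3
  exact parity_false _ _ _ _ _ _ p1 p2 p3

/-- The conclusion of the linear step. -/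
theorem main : Nat.card V = 8 ∧ Nat.card X = 2 ∧ Nat.card W = 4 ∧
    ∀ u v : V, u ≠ 1 → v ≠ 1 → ∃ q : Q, q • u = v := by
  obtain ⟨z, -, -, -, -, horb⟩ := h.orbit
  obtain ⟨hX2, hWV, -⟩ := h.count
  have h8 := h.card_le_eight
  have h4 := h.four
  refine ⟨by omega, hX2, by omega, fun u v hu hv => ?_⟩
  obtain ⟨a, ha⟩ := horb u hu
  obtain ⟨b, hb⟩ := horb v hv
  exact ⟨b * a⁻¹, by rw [← ha, mul_smul, inv_smul_smul, hb]⟩

end SpreadHyp

end Cfsg.Agent.Walter
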