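import Cfsg.Agent.Lib.Walter.Linear
import Cfsg.Agent.Lib.Walter.Balance
import Cfsg.Agent.Lib.Walter.Irreducible

/-!
# The shape of a simple group with abelian Sylow 2-subgroups and a component

If some involution centraliser has a component then `|S| = 8`, `N(S)` is transitive on `S#` and some
centraliser has exactly one component, with Sylow 2-subgroup a four group.
-/

set_option autoImplicit false
set_option linter.unusedSectionVars false
set_option linter.style.haveILetI false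

open Subgroup
open scoped Pointwise

namespace Cfsg.Agent.Walter

variable {G : Type*} [Group G] [Finite G]

theorem mem_inf_conj {S : Sylow 2 G} {J : Subgroup G} {n x : G}
    (hn : n ∈ normalizer ((S : Subgroup G) : Set G)) :
    x ∈ (S : Subgroup G) ⊓ MulAut.conj n • J ↔ n⁻¹ * x * n ∈ (S : Subgroup G) ⊓ J := by
  rw [mem_inf, mem_inf, mem_conj, mem_normalizer_iff''.1 hn x]

theorem mem_cent_conj {S : Sylow 2 G} {J : Subgroup G} {n x : G}
    (hn : n ∈ normalizer ((S : Subgroup G) : Set G)) :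
    x ∈ (S : Subgroup G) ⊓ centralizer ((MulAut.conj n • J : Subgroup G) : Set G) ↔
      n⁻¹ * x * n ∈ (S : Subgroup G) ⊓ centralizer (J : Set G) := by
  rw [mem_inf, mem_inf, mem_normalizer_iff''.1 hn x, mem_centralizer_comm, mem_centralizer_comm]
  refine and_congr_right fun _ => ⟨fun h y hy => ?_, fun h y hy => ?_⟩
  · have := h _ (conj_mem_conj (g := n) hy)
    calc n⁻¹ * x * n * y = n⁻¹ * (x * (n * y * n⁻¹)) * n := by group
      _ = y * (n⁻¹ * x * n) := by rw [this]; group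
  · have := h _ (mem_conj.1 hy)
    calc x * y = n * (n⁻¹ * x * n * (n⁻¹ * y * n)) * n⁻¹ := by group
      _ = y * x := by rw [this]; group

theorem inf_conj_eq {S : Sylow 2 G} {J : Subgroup G} {n : G}
    (hn : n ∈ normalizer ((S : Subgroup G) : Set G)) :
    (S : Subgroup G) ⊓ MulAut.conj n • J = MulAut.conj n • ((S : Subgroup G) ⊓ J) :=
  Subgroup.ext fun _ => (mem_inf_conj hn).trans mem_conj.symm

theorem cent_conj_eq {S : Sylow 2 G} {J : Subgroup G} {n : G}
    (hn : n ∈ normalizer ((S : Subgroup G) : Set G)) :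
    (S : Subgroup G) ⊓ centralizer ((MulAut.conj n • J : Subgroup G) : Set G) =
      MulAut.conj n • ((S : Subgroup G) ⊓ centralizer (J : Set G)) :=
  Subgroup.ext fun _ => (mem_cent_conj hn).trans mem_conj.symm

theorem card_conj (n : G) (A : Subgroup G) : Nat.card ↥(MulAut.conj n • A) = Nat.card ↥A :=
  (Nat.card_congr (equivSMul (MulAut.conj n) A).toEquiv).symm

theorem card_mul_le {U A B : Subgroup G} (hA : A ≤ U) (hB : B ≤ U) (hd : ∀ x ∈ A, x ∈ B → x = 1) :
    Nat.card ↥A * Nat.card ↥B ≤ Nat.card ↥U := by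
  rw [← Nat.card_prod]
  refine Nat.card_le_card_of_injective (fun p : ↥A × ↥B => (⟨(p.1 : G) * p.2,
    mul_mem (hA p.1.2) (hB p.2.2)⟩ : ↥U)) ?_
  rintro ⟨⟨a, ha⟩, ⟨b, hb⟩⟩ ⟨⟨a', ha'⟩, ⟨b', hb'⟩⟩ e
  have e' : a * b = a' * b' := congrArg Subtype.val e
  have h1 : a'⁻¹ * a = b' * b⁻¹ := by
    rw [inv_mul_eq_iff_eq_mul, ← mul_assoc, ← e', mul_inv_cancel_right]
  have h2 : a' = a := eq_of_inv_mul_eq_one
    (hd _ (mul_mem (inv_mem ha') ha) (h1 ▸ mul_mem hb' (inv_mem hb)))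
  subst h2
  obtain rfl := mul_left_cancel e'
  rfl

/-- Involutions are all conjugate under a strongly embedded subgroup. -/
theorem one_class [IsSimpleGroup G] {S : Sylow 2 G} (M : Subgroup G) (hM : M ≠ ⊤)
    (hSM : (S : Subgroup G) ≤ M)
    (hC : ∀ z ∈ (S : Subgroup G), orderOf z = 2 → centralizer ({z} : Set G) ≤ M)
    {u v : G} (hu : u ∈ (S : Subgroup G)) (hu2 : orderOf u = 2) (hv : v ∈ (S : Subgroup G))
    (hv2 : orderOf v = 2) : IsConj u v := by
  haveI : Fact (Nat.Prime 2) := ⟨Nat.prime_two⟩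
  have hC' : ∀ z ∈ M, orderOf z = 2 → centralizer ({z} : Set G) ≤ M := by
    intro z hz hz2
    have hP : IsPGroup 2 ↥((zpowers z).subgroupOf M) := by
      refine IsPGroup.of_equiv (IsPGroup.of_card (p := 2) (n := 1) ?_)
        (subgroupOfEquivOfLe (zpowers_le.2 hz)).symm
      rw [Nat.card_zpowers, hz2, pow_one]
    obtain ⟨T, hT⟩ := hP.exists_le_sylow
    obtain ⟨m, hm⟩ := MulAction.exists_smul_eq ↥M T (S.subtype hSM)
    have h1 : m * ⟨z, hz⟩ * m⁻¹ ∈ (S.subtype hSM : Subgroup ↥M) := by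
      rw [← hm, Sylow.coe_subgroup_smul]
      exact conj_mem_conj (hT (mem_subgroupOf.2 (mem_zpowers z)))
    rw [Sylow.coe_subtype, mem_subgroupOf] at h1
    have h2 : (m : G) * z * (m : G)⁻¹ ∈ (S : Subgroup G) := h1
    have h3 : orderOf ((m : G) * z * (m : G)⁻¹) = 2 := by rw [← hz2]; exact (MulAut.conj (m : G)).orderOf_eq z
    intro x hx
    have h4 : (m : G) * x * (m : G)⁻¹ ∈ M := hC _ h2 h3 (mem_centralizer_one.2 (by
      rw [show (m : G) * x * (m : G)⁻¹ * ((m : G) * z * (m : G)⁻¹) = m * (x * z) * (m : G)⁻¹ by group,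
        mem_centralizer_one.1 hx]
      group))
    have := mul_mem (mul_mem (inv_mem m.2) h4) m.2
    rwa [show (m : G)⁻¹ * ((m : G) * x * (m : G)⁻¹) * m = x by group] at this
  obtain ⟨w, hw2, hwM⟩ : ∃ w : G, orderOf w = 2 ∧ w ∉ M := by
    by_contra hcon
    push Not at hcon
    refine hM (eq_top_iff.2 ?_)
    have htop : normalClosure ({u} : Set G) = ⊤ :=
      normalClosure_normal.eq_bot_or_eq_top.resolve_left fun e => by
        have h1 : u ∈ normalClosure ({u} : Set G) := subset_normalClosure rfl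
        rw [e, mem_bot] at h1
        have := h1
        rw [this, orderOf_one] at hu2
        omega
    rw [← htop]
    refine (closure_le _).2 fun x hx => hcon x ?_
    obtain ⟨u', rfl, hconj⟩ := Group.mem_conjugatesOfSet_iff.1 hx
    obtain ⟨g, rfl⟩ := isConj_iff.1 hconj
    rw [← hu2]
    exact (MulAut.conj g).orderOf_eq u'
  suffices key : ∀ s ∈ M, orderOf s = 2 → IsConj s w from
    (key u (hSM hu) hu2).trans (key v (hSM hv) hv2).symm
  intro s hs hs2
  have hs' : s * s = 1 := by rw [← pow_two]; exact orderOf_dvd_iff_pow_eq_one.1 hs2.dvd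
  have hw' : w * w = 1 := by rw [← pow_two]; exact orderOf_dvd_iff_pow_eq_one.1 hw2.dvd
  set p := s * w with hp
  have hinv : ∀ k : ℕ, w * p ^ k * w⁻¹ = (p ^ k)⁻¹ ∧ s * p ^ k * s⁻¹ = (p ^ k)⁻¹ := fun k => by
    rw [← conj_pow, ← conj_pow, ← inv_pow, hp, mul_inv_rev, inv_eq_of_mul_eq_one_right hw',
      inv_eq_of_mul_eq_one_right hs', show w * (s * w) * w = w * s * (w * w) by group, hw', mul_one,
      show s * (s * w) * s = s * s * (w * s) by group, hs', one_mul]
    exact ⟨rfl, rfl⟩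
  rcases Nat.even_or_odd (orderOf p) with hev | hodd
  swap
  · obtain ⟨k, hk⟩ := hodd
    have hp1 : p ^ (k + 1) * p ^ (k + 1) = p := by
      rw [← pow_add, show k + 1 + (k + 1) = orderOf p + 1 by omega, pow_succ, pow_orderOf_eq_one, one_mul]
    have he : p ^ (k + 1) * w * (p ^ (k + 1))⁻¹ = s := by
      rw [← (hinv (k + 1)).1, show p ^ (k + 1) * w * (w * p ^ (k + 1) * w⁻¹) =
        p ^ (k + 1) * (w * w) * p ^ (k + 1) * w⁻¹ by group, hw', mul_one, hp1, hp, mul_inv_cancel_right]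
    exact (isConj_iff.2 ⟨_, he⟩).symm
  · exfalso
    obtain ⟨k, hk⟩ := hev
    have hpos := orderOf_pos p
    have hz2 : orderOf (p ^ k) = 2 := by
      rw [orderOf_pow' _ (by omega), hk, show Nat.gcd (k + k) k = k by simp, show k + k = 2 * k by omega,
        Nat.mul_div_cancel _ (by omega)]
    have hzi : (p ^ k)⁻¹ = p ^ k := inv_eq_of_mul_eq_one_right (by
      rw [← pow_two]; exact orderOf_dvd_iff_pow_eq_one.1 hz2.dvd)
    have hzs := (hinv k).2
    have hzw := (hinv k).1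
    rw [hzi, mul_inv_eq_iff_eq_mul] at hzs hzw
    have hzM : p ^ k ∈ M := hC' s hs hs2 (mem_centralizer_one.2 hzs.symm)
    exact hwM (hC' _ hzM hz2 (mem_centralizer_one.2 hzw))

namespace CompSys

variable {S : Sylow 2 G} {comps : G → Set (Subgroup G)} (h : CompSys S comps)

include h

theorem not_commute_self {a : G} (ha : orderOf a = 2) {J : Subgroup G} (hJ : J ∈ comps a)
    {x : G} (hx : x ∈ (S : Subgroup G) ⊓ J) (hc : x ∈ (S : Subgroup G) ⊓ centralizer (J : Set G)) : x = 1 :=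
  h.meet_bot ha hJ hx.2 hc.2

theorem one_lt_inf {a : G} (haS : a ∈ (S : Subgroup G)) (ha : orderOf a = 2) {J : Subgroup G}
    (hJ : J ∈ comps a) : ∃ w ∈ (S : Subgroup G) ⊓ J, w ≠ 1 := by
  by_contra hcon
  push Not at hcon
  have := h.four a haS ha J hJ
  rw [(eq_bot_iff_forall ((S : Subgroup G) ⊓ J)).2 hcon, card_bot] at this
  omega

theorem mem_cent_self {a : G} (haS : a ∈ (S : Subgroup G)) (ha : orderOf a = 2) {J : Subgroup G}
    (hJ : J ∈ comps a) : a ∈ (S : Subgroup G) ⊓ centralizer (J : Set G) :=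
  ⟨haS, mem_centralizer_comm.2 fun _ hy => (mem_centralizer_one.1 (h.le a ha J hJ hy)).symm⟩

theorem card_split {a : G} (haS : a ∈ (S : Subgroup G)) (ha : orderOf a = 2) {J : Subgroup G}
    (hJ : J ∈ comps a) :
    Nat.card ↥((S : Subgroup G) ⊓ J) * Nat.card ↥((S : Subgroup G) ⊓ centralizer (J : Set G)) =
      Nat.card ↥(S : Subgroup G) := by
  refine le_antisymm (card_mul_le inf_le_left inf_le_left fun x hx hc => h.not_commute_self ha hJ hx hc) ?_
  rw [← Nat.card_prod]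
  refine Nat.card_le_card_of_surjective (fun p : ↥((S : Subgroup G) ⊓ J) ×
    ↥((S : Subgroup G) ⊓ centralizer (J : Set G)) => (⟨(p.1 : G) * p.2,
    mul_mem p.1.2.1 p.2.2.1⟩ : ↥(S : Subgroup G))) fun s => ?_
  obtain ⟨w, hw, c, hc, e⟩ := h.split a haS ha J hJ s s.2
  exact ⟨(⟨w, hw⟩, ⟨c, hc⟩), Subtype.ext e⟩

/-- `S` is elementary abelian. -/
theorem elementary [IsSimpleGroup G] (hna : ¬ IsMulCommutative G) {a : G} (haS : a ∈ (S : Subgroup G))
    (ha : orderOf a = 2) {J : Subgroup G} (hJ : J ∈ comps a) : ∀ x ∈ (S : Subgroup G), x * x = 1 := by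
  haveI : Fact (Nat.Prime 2) := ⟨Nat.prime_two⟩
  by_contra hcon
  push Not at hcon
  obtain ⟨x, hx, hx2⟩ := hcon
  obtain ⟨i, hi⟩ := IsPGroup.iff_orderOf.1 S.2 ⟨x, hx⟩
  rw [orderOf_mk] at hi
  have hi2 : 2 ≤ i := by
    by_contra hlt
    refine hx2 ?_
    rw [← pow_two]
    refine orderOf_dvd_iff_pow_eq_one.1 (hi ▸ ?_)
    exact (pow_dvd_pow 2 (show i ≤ 1 by omega)).trans (by norm_num)
  let A : Subgroup G :=
    { carrier := {y | y * y = 1 ∧ ∃ s ∈ (S : Subgroup G), s * s = y}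
      mul_mem' := by
        rintro y₁ y₂ ⟨h1, s₁, hs₁, rfl⟩ ⟨h2, s₂, hs₂, rfl⟩
        have hc : Commute s₁ s₂ := h.comm _ hs₁ _ hs₂
        have hc' : Commute (s₁ * s₁) (s₂ * s₂) := (hc.mul_left hc).mul_right (hc.mul_left hc)
        refine ⟨?_, s₁ * s₂, mul_mem hs₁ hs₂, hc.symm.mul_mul_mul_comm s₁ s₂⟩
        rw [hc'.symm.mul_mul_mul_comm, h1, h2, one_mul]
      one_mem' := ⟨one_mul _, 1, one_mem _, one_mul _⟩
      inv_mem' := by
        rintro y ⟨h1, s, hs, rfl⟩
        exact ⟨by rw [← mul_inv_rev, h1, inv_one], s⁻¹, inv_mem hs, by rw [← mul_inv_rev]⟩ }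
  have hAinv : ∀ n ∈ normalizer ((S : Subgroup G) : Set G), ∀ y ∈ A, n * y * n⁻¹ ∈ A := by
    rintro n hn y ⟨h1, s, hs, rfl⟩
    refine ⟨?_, n * s * n⁻¹, (mem_normalizer_iff.1 hn s).1 hs, by group⟩
    rw [show n * (s * s) * n⁻¹ * (n * (s * s) * n⁻¹) = n * (s * s * (s * s)) * n⁻¹ by group, h1, mul_one,
      mul_inv_cancel]
  have hne : A ≠ ⊥ := by
    obtain ⟨j, rfl⟩ : ∃ j, i = j + 2 := ⟨i - 2, by omega⟩
    intro e
    have hmem : x ^ 2 ^ (j + 1) ∈ A := ⟨by
      rw [← pow_add, show 2 ^ (j + 1) + 2 ^ (j + 1) = 2 ^ (j + 2) by ring, ← hi, pow_orderOf_eq_one],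
      x ^ 2 ^ j, pow_mem hx _, by rw [← pow_add]; ring_nf⟩
    rw [e, mem_bot] at hmem
    have := Nat.le_of_dvd (by positivity) (hi ▸ orderOf_dvd_of_pow_eq_one hmem)
    have := Nat.pow_lt_pow_right (show 1 < 2 by norm_num) (show j + 1 < j + 2 by omega)
    omega
  have hle := (h.irreducible hna A (fun y hy => ⟨by
    obtain ⟨-, s, hs, rfl⟩ := hy
    exact mul_mem hs hs, hy.1⟩) hAinv).resolve_left hne
  obtain ⟨w, hw, hw1⟩ := h.one_lt_inf haS ha hJ
  obtain ⟨-, s, hs, hsw⟩ := hle ⟨hw.1, h.sq_mem haS ha hJ hw⟩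
  obtain ⟨w', hw', c, hc, rfl⟩ := h.split a haS ha J hJ s hs
  refine hw1 (h.not_commute_self ha hJ hw ⟨hw.1, ?_⟩)
  have e : w = c * c := by
    rw [← hsw, (show Commute c w' from h.comm c hc.1 w' hw'.1).mul_mul_mul_comm,
      h.sq_mem haS ha hJ hw', one_mul]
  rw [e]
  exact mul_mem hc.2 hc.2

/-- An invariant subgroup of an elementary `S` is trivial or everything. -/
theorem eq_bot_or_top [IsSimpleGroup G] (hna : ¬ IsMulCommutative G) (hel : ∀ x ∈ (S : Subgroup G), x * x = 1)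
    (A : Subgroup G) (hAS : A ≤ (S : Subgroup G))
    (hA : ∀ n ∈ normalizer ((S : Subgroup G) : Set G), ∀ x ∈ A, n * x * n⁻¹ ∈ A) :
    A = ⊥ ∨ A = (S : Subgroup G) := by
  rcases h.irreducible hna A (fun x hx => ⟨hAS hx, hel x (hAS hx)⟩) hA with e | e
  · exact Or.inl e
  · exact Or.inr (le_antisymm hAS fun x hx => e ⟨hx, hel x hx⟩)

/-- A component is moved by `N(S)`. -/
theorem exists_moved [IsSimpleGroup G] (hna : ¬ IsMulCommutative G) (hel : ∀ x ∈ (S : Subgroup G), x * x = 1)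
    {a : G} (haS : a ∈ (S : Subgroup G)) (ha : orderOf a = 2) {J : Subgroup G} (hJ : J ∈ comps a) :
    ∃ n ∈ normalizer ((S : Subgroup G) : Set G),
      MulAut.conj n • ((S : Subgroup G) ⊓ J) ≠ (S : Subgroup G) ⊓ J := by
  by_contra hcon
  push Not at hcon
  rcases h.eq_bot_or_top hna hel _ inf_le_left
    (fun n hn x hx => hcon n hn ▸ conj_mem_conj hx) with e | e
  · obtain ⟨w, hw, hw1⟩ := h.one_lt_inf haS ha hJ
    exact hw1 (mem_bot.1 (e ▸ hw))
  · have := h.not_commute_self ha hJ (e.symm ▸ haS) (h.mem_cent_self haS ha hJ)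
    rw [this, orderOf_one] at ha
    omega

/-- Conjugates commute only when the centraliser is larger. -/
theorem no_swap {a : G} (haS : a ∈ (S : Subgroup G)) (ha : orderOf a = 2) {J : Subgroup G} (hJ : J ∈ comps a)
    {n : G} (hn : n ∈ normalizer ((S : Subgroup G) : Set G))
    (hcomm : ∀ x ∈ J, ∀ y ∈ MulAut.conj n • J, x * y = y * x)
    (hle : Nat.card ↥((S : Subgroup G) ⊓ centralizer (J : Set G)) ≤ Nat.card ↥((S : Subgroup G) ⊓ J)) :
    False := by
  set W := (S : Subgroup G) ⊓ J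
  set X := (S : Subgroup G) ⊓ centralizer (J : Set G)
  have h1 : MulAut.conj n • W = X := by
    refine eq_of_le_of_card_ge (fun x hx => ?_) (by rw [card_conj]; exact hle)
    rw [← inf_conj_eq hn] at hx
    exact ⟨hx.1, mem_centralizer_comm.2 fun y hy => (hcomm y hy x hx.2).symm⟩
  have hX : Nat.card ↥X = Nat.card ↥W := by rw [← h1, card_conj]
  have h2 : MulAut.conj n • X = W := by
    refine (eq_of_le_of_card_ge (fun x hx => ?_) (by rw [card_conj, hX])).symm
    rw [← cent_conj_eq hn]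
    exact ⟨hx.1, mem_centralizer_comm.2 fun y hy => hcomm x hx.2 y hy⟩
  obtain ⟨m, hm, hnm⟩ := odd_part_mem S hn
  have hfix : MulAut.conj (n ^ m) • W = W := by
    ext x
    rw [mem_conj]
    have hcomm' : ∀ y ∈ W, (n ^ m)⁻¹ * y * n ^ m = y := fun y hy => by
      rw [mul_assoc, h.comm y hy.1 _ hnm, inv_mul_cancel_left]
    refine ⟨fun hx => ?_, fun hx => by rw [hcomm' x hx]; exact hx⟩
    have hxS : x ∈ (S : Subgroup G) := by
      have := mul_mem (mul_mem hnm hx.1) (inv_mem hnm)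
      rwa [show n ^ m * ((n ^ m)⁻¹ * x * n ^ m) * (n ^ m)⁻¹ = x by group] at this
    rwa [mul_assoc, h.comm x hxS _ hnm, inv_mul_cancel_left] at hx
  have heven : ∀ k : ℕ, MulAut.conj (n ^ (2 * k)) • W = W := fun k => by
    induction k with
    | zero => simp
    | succ k ih =>
      rw [show 2 * (k + 1) = 2 * k + 1 + 1 by ring, pow_succ, pow_succ, map_mul, map_mul, mul_smul, h1,
        mul_smul, h2, ih]
  obtain ⟨k, rfl⟩ := hm
  rw [pow_succ', map_mul, mul_smul, heven k, h1] at hfix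
  obtain ⟨w, hw, hw1⟩ := h.one_lt_inf haS ha hJ
  exact hw1 (h.not_commute_self ha hJ hw (show w ∈ X from hfix ▸ hw))

/-- The case of two conjugates with disjoint centralisers. -/
theorem spread_case [IsSimpleGroup G] (hna : ¬ IsMulCommutative G) (hel : ∀ x ∈ (S : Subgroup G), x * x = 1)
    {a : G} (haS : a ∈ (S : Subgroup G)) (ha : orderOf a = 2) {J : Subgroup G} (hJ : J ∈ comps a)
    (hJm : IsMax S comps J)
    {n₀ : G} (hn₀ : n₀ ∈ normalizer ((S : Subgroup G) : Set G))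
    (hd₀ : ∀ v ∈ (S : Subgroup G), v ∈ centralizer (J : Set G) →
      v ∈ centralizer ((MulAut.conj n₀ • J : Subgroup G) : Set G) → v = 1) :
    Nat.card ↥(S : Subgroup G) = 8 ∧ Nat.card ↥((S : Subgroup G) ⊓ centralizer (J : Set G)) = 2 ∧
      Nat.card ↥((S : Subgroup G) ⊓ J) = 4 ∧
      ∀ u ∈ (S : Subgroup G), u ≠ 1 → ∀ v ∈ (S : Subgroup G), v ≠ 1 →
        ∃ n ∈ normalizer ((S : Subgroup G) : Set G), n * u * n⁻¹ = v := by
  set X := (S : Subgroup G) ⊓ centralizer (J : Set G)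
  set W := (S : Subgroup G) ⊓ J
  have hXW : Nat.card ↥X ≤ Nat.card ↥W := by
    have h1 := card_mul_le (U := (S : Subgroup G)) (A := X)
      (B := (S : Subgroup G) ⊓ centralizer ((MulAut.conj n₀ • J : Subgroup G) : Set G))
      inf_le_left inf_le_left fun v hv hv' => hd₀ v hv.1 hv.2 hv'.2
    rw [cent_conj_eq hn₀, card_conj, ← h.card_split haS ha hJ] at h1
    exact Nat.le_of_mul_le_mul_right h1 Nat.card_pos
  have hcase : ∀ n ∈ normalizer ((S : Subgroup G) : Set G), MulAut.conj n • J = J ∨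
      ∀ v ∈ X, v ∈ MulAut.conj n • X → v = 1 := fun n hn => by
    rcases h.max_pair hJm (h.max_conj hJm hn) with e | e | e
    · exact Or.inl e.symm
    · exact (h.no_swap haS ha hJ hn e hXW).elim
    · refine Or.inr fun v hv hv' => ?_
      rw [← cent_conj_eq hn] at hv'
      exact e v hv.1 hv.2 hv'.2
  have haX := h.mem_cent_self haS ha hJ
  have ha1 : a ≠ 1 := fun e => by rw [e, orderOf_one] at ha; omega
  have hstab : ∀ n ∈ normalizer ((S : Subgroup G) : Set G), MulAut.conj n • X = X →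
      MulAut.conj n • W = W := fun n hn e => by
    rcases hcase n hn with hJ' | hJ'
    · rw [← inf_conj_eq hn, hJ']
    · exact absurd (hJ' a haX (e.symm ▸ haX)) ha1
  -- the action on `S`
  set U := (S : Subgroup G)
  letI : CommGroup ↥U :=
    { (inferInstance : Group ↥U) with mul_comm := fun a b => Subtype.ext (h.comm _ a.2 _ b.2) }
  have hsmul : ∀ (A : Subgroup G) (n : ↥(normalizer (U : Set G))),
      (actHom S U le_rfl).rangeRestrict n • A.subgroupOf U =
        (MulAut.conj (n : G) • A).subgroupOf U := fun A n => Subgroup.ext fun x => by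
    refine mem_pointwise_smul_iff_inv_smul_mem.trans ?_
    refine Iff.trans ?_ (mem_conj (J := A) (g := (n : G)) (x := (x : G))).symm
    show ((((actHom S U le_rfl n)⁻¹ : MulAut ↥U) x : ↥U) : G) ∈ A ↔ _
    rw [← map_inv, actHom_apply, coe_inv, inv_inv]
  have hinj : ∀ A B : Subgroup G, A ≤ U → B ≤ U → A.subgroupOf U = B.subgroupOf U → A = B :=
    fun A B hA hB e => by rw [← map_subgroupOf_eq_of_le hA, e, map_subgroupOf_eq_of_le hB]
  have hcU : ∀ (n : ↥(normalizer (U : Set G))) (A : Subgroup G), A ≤ U → MulAut.conj (n : G) • A ≤ U :=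
    fun n A hA x hx => (mem_normalizer_iff''.1 n.2 x).2 (hA (mem_conj.1 hx))
  have hsp : SpreadHyp (V := ↥U) ↥(actHom S U le_rfl).range (W.subgroupOf U) (X.subgroupOf U) := by
    refine ⟨h.odd_act U le_rfl le_rfl, fun v => Subtype.ext (hel v v.2), fun v hw hx =>
      Subtype.ext (h.not_commute_self ha hJ hw hx), fun v => ?_, ?_, ⟨⟨a, haS⟩, haX, fun e =>
      ha1 (congrArg Subtype.val e)⟩, fun u hu hu1 v hv hv1 => ?_, ?_, ?_, ?_⟩
    · obtain ⟨w, hw, c, hc, e⟩ := h.split a haS ha J hJ v v.2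
      exact ⟨⟨w, hw.1⟩, hw, ⟨c, hc.1⟩, hc, Subtype.ext e⟩
    · rw [Nat.card_congr (subgroupOfEquivOfLe (inf_le_left : W ≤ U)).toEquiv]
      exact h.four a haS ha J hJ
    · obtain ⟨g, -, hgN, hgu, hgc⟩ := h.exists_torus haS ha hJ hu (fun e => hu1 (Subtype.ext e)) hv
        (fun e => hv1 (Subtype.ext e))
      exact ⟨(actHom S U le_rfl).rangeRestrict ⟨g, hgN⟩, Subtype.ext hgu, fun x hx => Subtype.ext (hgc x hx)⟩
    · intro q hq
      obtain ⟨n, rfl⟩ := (actHom S U le_rfl).rangeRestrict_surjective q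
      exact (hsmul W n).trans (congrArg (fun A : Subgroup G => A.subgroupOf U)
        (hstab n n.2 (hinj _ _ (hcU n X inf_le_left) inf_le_left ((hsmul X n).symm.trans hq))))
    · intro q hq v hv hv'
      obtain ⟨n, rfl⟩ := (actHom S U le_rfl).rangeRestrict_surjective q
      rcases hcase n n.2 with hJ' | hJ'
      · refine absurd ((hsmul X n).trans (congrArg (fun A : Subgroup G => A.subgroupOf U) ?_)) hq
        rw [← cent_conj_eq n.2, hJ']
      · exact Subtype.ext (hJ' v hv ((Subgroup.ext_iff.1 (hsmul X n) v).1 hv'))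
    · obtain ⟨n, hn, hne⟩ := h.exists_moved hna hel haS ha hJ
      refine ⟨(actHom S U le_rfl).rangeRestrict ⟨n, hn⟩, fun e => hne ?_⟩
      exact hinj _ _ (hcU ⟨n, hn⟩ W inf_le_left) inf_le_left ((hsmul W ⟨n, hn⟩).symm.trans e)
  obtain ⟨h8, h2, h4, htr⟩ := hsp.main
  rw [Nat.card_congr (subgroupOfEquivOfLe (inf_le_left : X ≤ U)).toEquiv] at h2
  rw [Nat.card_congr (subgroupOfEquivOfLe (inf_le_left : W ≤ U)).toEquiv] at h4
  refine ⟨h8, h2, h4, fun u hu hu1 v hv hv1 => ?_⟩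
  obtain ⟨q, e⟩ := htr ⟨u, hu⟩ ⟨v, hv⟩ (fun e => hu1 (congrArg Subtype.val e))
    (fun e => hv1 (congrArg Subtype.val e))
  obtain ⟨n, rfl⟩ := (actHom S U le_rfl).rangeRestrict_surjective q
  exact ⟨n, n.2, congrArg Subtype.val e⟩

/-- Maximal components all commuting is impossible. -/
theorem blocks_case [IsSimpleGroup G] (hna : ¬ IsMulCommutative G) (hel : ∀ x ∈ (S : Subgroup G), x * x = 1)
    (hno : ∀ J, IsMax S comps J → ∀ n ∈ normalizer ((S : Subgroup G) : Set G), MulAut.conj n • J = J ∨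
      ∀ x ∈ J, ∀ y ∈ MulAut.conj n • J, x * y = y * x)
    {J₀ : Subgroup G} (hJ₀ : IsMax S comps J₀) : False := by
  classical
  have hbig : ∀ J, IsMax S comps J →
      Nat.card ↥((S : Subgroup G) ⊓ J) < Nat.card ↥((S : Subgroup G) ⊓ centralizer (J : Set G)) := by
    intro J hJ
    obtain ⟨a, haS, ha, hJa⟩ := hJ.1
    obtain ⟨n, hn, hne⟩ := h.exists_moved hna hel haS ha hJa
    rcases hno J hJ n hn with e | e
    · exact absurd (by rw [← inf_conj_eq hn, e]) hne
    · exact lt_of_not_ge (h.no_swap haS ha hJa hn e)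
  have hall : ∀ J J', IsMax S comps J → IsMax S comps J' → J = J' ∨ ∀ x ∈ J, ∀ y ∈ J', x * y = y * x := by
    intro J J' hJ hJ'
    rcases h.max_pair hJ hJ' with e | e | e
    · exact Or.inl e
    · exact Or.inr e
    · exfalso
      have hb := hbig J hJ
      have hb' := hbig J' hJ'
      obtain ⟨a, haS, ha, hJa⟩ := hJ.1
      obtain ⟨a', haS', ha', hJa'⟩ := hJ'.1
      have h1 := card_mul_le (U := (S : Subgroup G)) (A := (S : Subgroup G) ⊓ centralizer (J : Set G))
        (B := (S : Subgroup G) ⊓ centralizer (J' : Set G)) inf_le_left inf_le_left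
        fun v hv hv' => e v hv.1 hv.2 hv'.2
      have h2 := h.card_split haS ha hJa
      have h3 := h.card_split haS' ha' hJa'
      nlinarith
  set E₀ := ⨆ J ∈ {J | IsMax S comps J}, J with hE₀
  have hleE : ∀ J, IsMax S comps J → J ≤ E₀ := fun J hJ =>
    le_iSup₂ (f := fun J (_ : J ∈ {J | IsMax S comps J}) => J) J hJ
  set M := normalizer (E₀ : Set G)
  have hNM : normalizer ((S : Subgroup G) : Set G) ≤ M := by
    have key : ∀ n ∈ normalizer ((S : Subgroup G) : Set G), ∀ x ∈ E₀, n * x * n⁻¹ ∈ E₀ := by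
      intro n hn
      have : E₀ ≤ E₀.comap (MulAut.conj n).toMonoidHom :=
        iSup₂_le fun J hJ x hx => hleE _ (h.max_conj hJ hn) (conj_mem_conj hx)
      exact fun x hx => this hx
    intro n hn
    refine mem_normalizer_iff.2 fun x => ⟨key n hn x, fun hx => ?_⟩
    have := key n⁻¹ (inv_mem hn) _ hx
    simpa [mul_assoc] using this
  have hC : ∀ z ∈ (S : Subgroup G), orderOf z = 2 → centralizer ({z} : Set G) ≤ M := fun z hzS hz =>
    (h.frattini z hzS hz).trans (sup_le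
      (iSup₂_le fun J hJ => by
        obtain ⟨K, hK, hle⟩ := h.exists_max ⟨z, hzS, hz, hJ⟩
        exact hle.trans ((hleE K hK).trans le_normalizer))
      (inf_le_right.trans hNM))
  obtain ⟨a, haS, ha, hJa⟩ := hJ₀.1
  have ha1 : a ≠ 1 := fun e => by rw [e, orderOf_one] at ha; omega
  have hM : M ≠ ⊤ := by
    intro e
    haveI : E₀.Normal := normalizer_eq_top_iff.1 e
    obtain ⟨w, hw, hw1⟩ := h.one_lt_inf haS ha hJa
    have hE : E₀ = ⊤ := (‹E₀.Normal›).eq_bot_or_eq_top.resolve_left fun e' =>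
      hw1 (mem_bot.1 (e' ▸ hleE J₀ hJ₀ hw.2))
    have hJn : J₀.Normal := normalizer_eq_top_iff.1 (top_le_iff.1 (hE ▸ iSup₂_le fun K hK => by
      rcases hall K J₀ hK hJ₀ with e' | e'
      · exact e' ▸ le_normalizer
      · exact le_trans (fun x hx => mem_centralizer_comm.2 fun y hy => e' x hx y hy)
          (centralizer_le_normalizer (J₀ : Set G))))
    have htop : J₀ = ⊤ := hJn.eq_bot_or_eq_top.resolve_left fun e' => hw1 (mem_bot.1 (e' ▸ hw.2))
    exact ha1 (eq_one_of_central (h.simple a ha J₀ hJa).1 (h.simple a ha J₀ hJa).2 (htop ▸ mem_top a)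
      fun y hy => (mem_centralizer_one.1 (h.le a ha J₀ hJa hy)).symm)
  obtain ⟨n, hn, hne⟩ := h.exists_moved hna hel haS ha hJa
  have hn' : MulAut.conj n • J₀ ≠ J₀ := fun e => hne (by rw [← inf_conj_eq hn, e])
  have hJ₁ := h.max_conj hJ₀ hn
  obtain ⟨a', haS', ha', hJa'⟩ := hJ₁.1
  obtain ⟨w, hw, hw1⟩ := h.one_lt_inf haS ha hJa
  obtain ⟨w', hw', hw'1⟩ := h.one_lt_inf haS' ha' hJa'
  have hcomm := (hall _ _ hJ₀ hJ₁).resolve_left fun e => hn' e.symm
  have hw'X : w' ∈ (S : Subgroup G) ⊓ centralizer (J₀ : Set G) :=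
    ⟨hw'.1, mem_centralizer_comm.2 fun y hy => (hcomm y hy w' hw'.2).symm⟩
  have hne1 : w * w' ≠ 1 := fun e => hw1 (h.not_commute_self ha hJa hw (by
    rw [eq_inv_of_mul_eq_one_left e]; exact inv_mem hw'X))
  obtain ⟨g, hg⟩ := isConj_iff.1 (one_class (S := S) M hM (le_normalizer.trans hNM) hC hw.1
    (orderOf_eq_prime (by rw [pow_two]; exact hel w hw.1) hw1) (mul_mem hw.1 hw'.1)
    (orderOf_eq_prime (by rw [pow_two]; exact hel _ (mul_mem hw.1 hw'.1)) hne1))
  obtain ⟨q, hq, e⟩ := h.conj_in_normalizer (g := g) hw.1 (hg.symm ▸ mul_mem hw.1 hw'.1)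
  have hmem : w * w' ∈ MulAut.conj q • J₀ := by rw [← hg, e]; exact conj_mem_conj hw.2
  rcases hall _ _ hJ₀ (h.max_conj hJ₀ hq) with e' | e'
  · rw [← e'] at hmem
    refine hw'1 (h.not_commute_self ha hJa ⟨hw'.1, ?_⟩ hw'X)
    simpa using J₀.mul_mem (J₀.inv_mem hw.2) hmem
  · have h1 : w * w' ∈ centralizer (J₀ : Set G) :=
      mem_centralizer_comm.2 fun y hy => (e' y hy _ hmem).symm
    refine hw1 (h.not_commute_self ha hJa hw ⟨hw.1, ?_⟩)
    simpa using mul_mem h1 (inv_mem hw'X.2)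

/-- The shape theorem. -/
theorem shape [IsSimpleGroup G] (hna : ¬ IsMulCommutative G) {b : G} (hbS : b ∈ (S : Subgroup G))
    (hb : orderOf b = 2) {L : Subgroup G} (hL : L ∈ comps b) :
    Nat.card ↥(S : Subgroup G) = 8 ∧ (∀ x ∈ (S : Subgroup G), x * x = 1) ∧
      (∀ u ∈ (S : Subgroup G), u ≠ 1 → ∀ v ∈ (S : Subgroup G), v ≠ 1 →
        ∃ n ∈ normalizer ((S : Subgroup G) : Set G), n * u * n⁻¹ = v) ∧
      ∃ t ∈ (S : Subgroup G), orderOf t = 2 ∧ ∃ J, comps t = {J} ∧
        Nat.card ↥((S : Subgroup G) ⊓ J) = 4 ∧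
        (S : Subgroup G) ⊓ centralizer (J : Set G) = zpowers t := by
  have hel := h.elementary hna hbS hb hL
  obtain ⟨J₁, hJ₁, -⟩ := h.exists_max ⟨b, hbS, hb, hL⟩
  have hex : ∃ J, IsMax S comps J ∧ ∃ n ∈ normalizer ((S : Subgroup G) : Set G),
      ∀ v ∈ (S : Subgroup G), v ∈ centralizer (J : Set G) →
        v ∈ centralizer ((MulAut.conj n • J : Subgroup G) : Set G) → v = 1 := by
    by_contra hcon
    refine h.blocks_case hna hel (fun J hJ n hn => ?_) hJ₁
    rcases h.max_pair hJ (h.max_conj hJ hn) with e | e | e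
    · exact Or.inl e.symm
    · exact Or.inr e
    · exact absurd ⟨J, hJ, n, hn, e⟩ hcon
  obtain ⟨J, hJm, n, hn, hd⟩ := hex
  obtain ⟨t, htS, ht, hJt⟩ := hJm.1
  obtain ⟨h8, h2, h4, htr⟩ := h.spread_case hna hel htS ht hJt hJm hn hd
  have hX : (S : Subgroup G) ⊓ centralizer (J : Set G) = zpowers t :=
    (eq_of_le_of_card_ge (zpowers_le.2 (h.mem_cent_self htS ht hJt))
      (by rw [h2, Nat.card_zpowers, ht])).symm
  refine ⟨h8, hel, htr, t, htS, ht, J, Set.eq_singleton_iff_unique_mem.2 ⟨hJt, fun K hK => ?_⟩, h4, hX⟩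
  by_contra hne
  have h1 : (S : Subgroup G) ⊓ K ≤ (S : Subgroup G) ⊓ centralizer (J : Set G) := fun x hx =>
    ⟨hx.1, mem_centralizer_comm.2 fun y hy => h.commute t ht K hK J hJt hne x hx.2 y hy⟩
  have := (Subgroup.card_le_of_le h1).trans h2.le
  have := h.four t htS ht K hK
  omega

end CompSys

end Cfsg.Agent.Walter
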