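import Cfsg.Agent.Lib.Walter.ReeDegrees
import Cfsg.Agent.Lib.Hall.Solvable
import Cfsg.Agent.Lib.FiveOrders.Sylow
import Cfsg.Agent.S0205

/-!
# No large odd subgroup in a group of Ree type

A group of the shape of `ReeDegrees` over `q = 3^f` has no subgroup of odd order with order a multiple of
`q² (q² - q + 1)` up to a factor dividing `f`: a Hall subgroup for the primes `3` and those of `q² - q + 1`
has a minimal normal subgroup on which the other part acts without fixed points, and this is too small.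
-/

set_option autoImplicit false
set_option linter.unusedSectionVars false
set_option linter.style.haveILetI false

namespace Cfsg.Agent.Walter

open Subgroup

universe u v

/-- `2 f < 3^n` when `5 n ≥ 4 f` and `f ≥ 3`. -/
theorem two_mul_lt_three_pow {f n : ℕ} (hf : 3 ≤ f) (h : 4 * f ≤ 5 * n) : 2 * f < 3 ^ n := by
  have key : ∀ n, 3 ≤ n → 3 * n < 3 ^ n := by
    intro n hn
    induction n, hn using Nat.le_induction with
    | base => norm_num
    | succ n hn ih => rw [pow_succ]; omega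
  have := key n (by omega)
  omega

/-- The arithmetic when the primes of `q² - q + 1` act without fixed points on a 3-group. -/
theorem three_case_arith {f b c : ℕ} (hf : Odd f) (hf3 : 3 ≤ f) (hb1 : 1 ≤ b) (hb : b ≤ 3 * f)
    (hc3 : c ∣ 3 ^ b - 1) (hcN : c ∣ 3 ^ f * 3 ^ f - 3 ^ f + 1) (hco : ¬ 2 ∣ c)
    (hbig : 3 ^ f * 3 ^ f - 3 ^ f + 1 ≤ f * c) : False := by
  set q := 3 ^ f with hq
  have hqf : f < q := Nat.lt_pow_self (by norm_num)
  have hq3 : 3 ≤ q := by omega
  have hqq : q * 3 ≤ q * q := Nat.mul_le_mul_left q hq3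
  set N := q * q - q + 1 with hN
  have hNq : q < N := by omega
  have hcases : c = 1 → False := fun e => by subst e; omega
  have h6 : c ∣ 3 ^ (6 * f) - 1 := by
    refine hcN.trans ?_
    have h1 : N * (q + 1) = q ^ 3 + 1 := by zify [hN, Nat.le_mul_self q]; ring
    have h2 : 3 ^ (6 * f) - 1 = (q ^ 3 + 1) * (q ^ 3 - 1) := by
      rw [← Nat.sq_sub_sq, one_pow, hq, ← pow_mul, ← pow_mul]; ring_nf
    rw [h2, ← h1]
    exact (dvd_mul_right N (q + 1)).mul_right _
  have hd : c ∣ 3 ^ Nat.gcd b (6 * f) - 1 := by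
    rw [← Nat.pow_sub_one_gcd_pow_sub_one]
    exact Nat.dvd_gcd hc3 h6
  set d := Nat.gcd b (6 * f) with hd'
  obtain ⟨k, hk⟩ : d ∣ 6 * f := Nat.gcd_dvd_right _ _
  have hd3 : d ≤ 3 * f := (Nat.le_of_dvd hb1 (Nat.gcd_dvd_left _ _)).trans hb
  have hk1 : 2 ≤ k := by
    rcases k with _ | _ | k
    · omega
    · omega
    · omega
  have hz : (c : ℤ) ∣ (q : ℤ) ^ 2 - q + 1 := by
    have := Int.natCast_dvd_natCast.2 hcN
    push_cast [hN, Nat.le_mul_self q] at this
    rwa [sq]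
  have hpow : (c : ℤ) ∣ (3 : ℤ) ^ d - 1 := by
    have := Int.natCast_dvd_natCast.2 hd
    rwa [Nat.cast_sub (Nat.one_le_pow d 3 (by norm_num)), Nat.cast_pow, Nat.cast_one] at this
  rcases Nat.lt_or_ge k 5 with hk5 | hk5
  · interval_cases k
    · -- `c` divides `q³ - 1` and `q³ + 1`
      have e : d = f * 3 := by omega
      rw [e, pow_mul] at hpow
      have h2 : (c : ℤ) ∣ ((2 : ℕ) : ℤ) := by
        have h3 := dvd_sub (dvd_mul_of_dvd_left hz ((q : ℤ) + 1)) hpow
        have e2 : ((q : ℤ) ^ 2 - q + 1) * (q + 1) - (((3 : ℤ) ^ f) ^ 3 - 1) = ((2 : ℕ) : ℤ) := by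
          rw [hq]; push_cast; ring
        rwa [e2] at h3
      rcases (Nat.dvd_prime Nat.prime_two).1 (Int.natCast_dvd_natCast.1 h2) with h | h
      · exact hcases h
      · exact hco (h ▸ dvd_rfl)
    · -- `c` divides `q² - 1`
      have e : d = f * 2 := by omega
      rw [e, pow_mul] at hpow
      have h3 : (c : ℤ) ∣ ((3 : ℕ) : ℤ) := by
        have h4 : (c : ℤ) ∣ (q : ℤ) - 2 := by
          have h5 := dvd_sub hpow hz
          have e2 : ((3 : ℤ) ^ f) ^ 2 - 1 - ((q : ℤ) ^ 2 - q + 1) = (q : ℤ) - 2 := by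
            rw [hq]; push_cast; ring
          rwa [e2] at h5
        have h5 := dvd_sub hz (dvd_mul_of_dvd_left h4 ((q : ℤ) + 1))
        have e2 : (q : ℤ) ^ 2 - q + 1 - ((q : ℤ) - 2) * ((q : ℤ) + 1) = ((3 : ℕ) : ℤ) := by
          push_cast; ring
        rwa [e2] at h5
      rcases (Nat.dvd_prime Nat.prime_three).1 (Int.natCast_dvd_natCast.1 h3) with h | h
      · exact hcases h
      · subst h
        have h8 : 3 ∣ q := dvd_pow_self 3 (by omega)
        have h7 : 3 ∣ q * q := dvd_mul_of_dvd_left h8 _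
        omega
    · obtain ⟨j, hj⟩ := hf
      omega
  · have hd5 : 5 * d ≤ 6 * f := by nlinarith
    have hle : c ≤ 3 ^ d := (Nat.le_of_dvd (by
      have := Nat.one_lt_pow (show d ≠ 0 from fun e => by rw [e, zero_mul] at hk; omega) (show 1 < 3 by norm_num)
      omega) hd).trans (Nat.sub_le _ _)
    obtain ⟨n, hn⟩ : ∃ n, 2 * f = d + n := ⟨2 * f - d, by omega⟩
    have hn4 : 2 * f < 3 ^ n := two_mul_lt_three_pow hf3 (by omega)
    have hsq : q * q = 3 ^ d * 3 ^ n := by rw [hq, ← pow_add, ← pow_add, ← hn, two_mul]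
    have h1 : 2 * (f * c) < q * q := by
      rw [hsq]
      calc 2 * (f * c) = (2 * f) * c := by ring
        _ ≤ (2 * f) * 3 ^ d := Nat.mul_le_mul_left _ hle
        _ < 3 ^ n * 3 ^ d := Nat.mul_lt_mul_of_pos_right hn4 (by positivity)
        _ = 3 ^ d * 3 ^ n := mul_comm _ _
    omega

/-- The arithmetic when a 3-group acts without fixed points on a group of order dividing `q² - q + 1`. -/
theorem other_case_arith {f a x : ℕ} (hf3 : 3 ≤ f) (hx1 : 1 < x)
    (hxN : x ∣ 3 ^ f * 3 ^ f - 3 ^ f + 1) (hax : 3 ^ a ∣ x - 1)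
    (hbig : 3 ^ f * 3 ^ f ∣ f * 3 ^ a) : False := by
  set q := 3 ^ f with hq
  have hqf : f < q := Nat.lt_pow_self (by norm_num)
  have hq3 : 3 ≤ q := by omega
  have hqq : q * 3 ≤ q * q := Nat.mul_le_mul_left q hq3
  set N := q * q - q + 1 with hN
  obtain ⟨c, hc⟩ := hxN
  have hpos : 0 < f * 3 ^ a := Nat.mul_pos (by omega) (by positivity)
  have hfle : q * q ≤ f * 3 ^ a := Nat.le_of_dvd hpos hbig
  have hxle : 3 ^ a + 1 ≤ x := by have := Nat.le_of_dvd (by omega) hax; omega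
  -- the exponent is larger than `f`
  have hfa : f < a := by
    by_contra h
    push Not at h
    have : f * 3 ^ a < q * q := by
      calc f * 3 ^ a ≤ f * q := Nat.mul_le_mul_left f (Nat.pow_le_pow_right (by norm_num) h)
        _ < q * q := Nat.mul_lt_mul_of_pos_right hqf (by omega)
    omega
  -- the cofactor is smaller than `f`
  have hcf : c < f := by
    by_contra h
    push Not at h
    have h1 : f * x ≤ c * x := Nat.mul_le_mul_right x h
    have h2 : f * (3 ^ a + 1) ≤ f * x := Nat.mul_le_mul_left f hxle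
    rw [mul_add, mul_one] at h2
    have h3 : c * x = N := by rw [hc, mul_comm]
    omega
  have hc0 : 1 ≤ c := by
    rcases Nat.eq_zero_or_pos c with rfl | h
    · omega
    · exact h
  -- so it is congruent to one modulo `q`
  have hqd : q ∣ x - 1 := (pow_dvd_pow 3 hfa.le).trans hax
  have hc1 : c = 1 := by
    obtain ⟨y, hy⟩ := hqd
    have hx' : x = q * y + 1 := by omega
    have hNz : (q : ℤ) * q - q + 1 = (x : ℤ) * c := by
      have := congrArg (fun n : ℕ => (n : ℤ)) hc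
      push_cast [hN, Nat.le_mul_self q] at this
      exact this
    have h2 : (q : ℤ) ∣ ((c - 1 : ℕ) : ℤ) := by
      refine ⟨(q : ℤ) - 1 - y * c, ?_⟩
      rw [hx'] at hNz
      push_cast [Nat.cast_sub hc0] at hNz ⊢
      linear_combination -hNz
    have h3 := Nat.eq_zero_of_dvd_of_lt (Int.natCast_dvd_natCast.1 h2) (by omega)
    omega
  subst hc1
  rw [mul_one] at hc
  have hd : 3 ^ a ∣ q * (q - 1) := by
    rw [Nat.mul_sub_one, show q * q - q = x - 1 by omega]
    exact hax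
  have hco : (3 ^ a).Coprime (q - 1) := Nat.Coprime.pow_left _
    (Nat.prime_three.coprime_iff_not_dvd.2 fun h => by
      have h1 : 3 ∣ q := dvd_pow_self 3 (by omega)
      omega)
  have := Nat.le_of_dvd (by omega) (hco.dvd_of_dvd_mul_right hd)
  exact absurd this (not_le.2 (Nat.pow_lt_pow_right (by norm_num) hfa))

/-- No odd subgroup is as large as a transitive one would have to be. -/
theorem ree_no_odd_subgroup {G : Type u} [Group G] [Finite G] [IsSimpleGroup G]
    (hab : ∀ P : Sylow 2 G, ∀ a b : P, a * b = b * a) {F : Type v} [Field F] [Fintype F]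
    (hodd : Odd (Fintype.card F)) (h5 : 5 < Fintype.card F) (t : G) (ht : orderOf t = 2)
    (hC : Nonempty (Subgroup.centralizer ({t} : Set G) ≃*
      Multiplicative (ZMod 2) × Matrix.ProjectiveSpecialLinearGroup (Fin 2) F))
    {f : ℕ} (hf : Fintype.card F = 3 ^ f) {D : Subgroup G} (hD : Odd (Nat.card ↥D))
    (hdvd : Fintype.card F ^ 2 * (Fintype.card F * Fintype.card F - Fintype.card F + 1) ∣
      f * Nat.card ↥D) : False := by
  classical
  obtain ⟨m, hm, hq, hG, -⟩ := exists_steinberg hab hodd h5 t ht hC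
  have hcomm := fun {x y : G} => ree_not_commute (x := x) (y := y) hab hodd h5 t ht hC
  set q := Fintype.card F with hqdef
  obtain rfl : f = 2 * m + 1 := Nat.pow_right_injective (by norm_num) (hf.symm.trans hq)
  have h3q : 3 ∣ q := hq ▸ dvd_pow_self 3 (by omega)
  have hqq : q * 3 ≤ q * q := Nat.mul_le_mul_left q (by omega)
  set N := q * q - q + 1 with hN
  have hN3 : ¬ 3 ∣ N := by
    have : 3 ∣ q * q := dvd_mul_of_dvd_left h3q _
    omega
  haveI : Group.IsSolvable ↥D := S0205.result hD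
  set π : Set ℕ := {p | p = 3 ∨ p ∣ N} with hπ
  obtain ⟨K₀, hK₀π, hK₀i⟩ := Hall.exists_hall π ↥D
  set K := K₀.map D.subtype with hKdef
  have hKcard : Nat.card ↥K = Nat.card ↥K₀ := card_map_of_injective D.subtype_injective
  have hKodd : Odd (Nat.card ↥K) := hKcard ▸ hD.of_dvd_nat K₀.card_subgroup_dvd_card
  haveI : Group.IsSolvable ↥K := S0205.result hKodd
  -- divisibility by the order of `K`
  have hco : Nat.Coprime (q ^ 2 * N) K₀.index := Nat.coprime_of_dvd fun p hp hpd hpi => by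
    refine hK₀i p hp ?_ hpi
    rcases hp.dvd_mul.1 hpd with h | h
    · left
      have := hp.dvd_of_dvd_pow h
      rw [hq] at this
      exact (Nat.prime_dvd_prime_iff_eq hp Nat.prime_three).1 (hp.dvd_of_dvd_pow this)
    · exact Or.inr h
  have hdK : q ^ 2 * N ∣ (2 * m + 1) * Nat.card ↥K := by
    refine hco.dvd_of_dvd_mul_right ?_
    rw [mul_assoc, hKcard, K₀.card_mul_index]
    exact hdvd
  -- the parts of the order of `G`
  have hqN : q ^ 3 + 1 = (q + 1) * N := by
    zify [hN, Nat.le_mul_self q]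
    ring
  have hdG : Nat.card ↥K ∣ q ^ 3 * ((q + 1) * (q - 1)) * N := by
    refine (Subgroup.card_subgroup_dvd_card K).trans (dvd_of_eq ?_)
    rw [hG, hqN]; ring
  have hsyl : ∀ p : ℕ, p.Prime → p ≠ 3 → ∀ {R : Subgroup G}, R ≤ K → IsPGroup p ↥R →
      Nat.card ↥R ∣ N := by
    intro p hp hp3 R hRK hR
    haveI : Fact p.Prime := ⟨hp⟩
    obtain ⟨k, hk⟩ := IsPGroup.iff_card.1 hR
    rw [hk]
    rcases Nat.eq_zero_or_pos k with rfl | hk0
    · exact one_dvd _
    have hpK : p ∣ Nat.card ↥K :=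
      ((hk ▸ dvd_pow_self p hk0.ne') : p ∣ Nat.card ↥R).trans (card_dvd_of_le hRK)
    have hpN : p ∣ N := (hK₀π p hp (hKcard ▸ hpK)).resolve_left hp3
    refine Nat.Coprime.dvd_of_dvd_mul_left ?_ (hk ▸ (card_dvd_of_le hRK).trans hdG)
    refine Nat.Coprime.pow_left _ (hp.coprime_iff_not_dvd.2 fun h => (ree_prime h3q hp hpN).1 ?_)
    rcases hp.dvd_mul.1 h with h' | h'
    · exact dvd_mul_of_dvd_left (dvd_mul_of_dvd_left (hp.dvd_of_dvd_pow h') _) _
    · rw [mul_assoc]
      exact dvd_mul_of_dvd_right h' _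
  have hfree : ∀ {r : ℕ}, r.Prime → r ≠ 3 → ∀ {R P : Subgroup G}, R ≤ K → IsPGroup r ↥R →
      IsPGroup 3 ↥P → ∀ s ∈ R, s ≠ 1 → ∀ y ∈ P, y ≠ 1 → ¬ Commute s y := by
    intro r hr hr3 R P hRK hR hP s hs hs1 y hy hy1 hcsy
    haveI : Fact r.Prime := ⟨hr⟩
    haveI : Fact (Nat.Prime 3) := ⟨Nat.prime_three⟩
    -- powers of prime order
    have hpow : ∀ {p : ℕ} [Fact p.Prime] {Q : Subgroup G}, IsPGroup p ↥Q → ∀ z ∈ Q, z ≠ 1 →
        ∃ j : ℕ, orderOf (z ^ p ^ j) = p := by
      intro p hp' Q hQ z hz hz1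
      obtain ⟨k, hk⟩ := hQ ⟨z, hz⟩
      have hz' : z ^ p ^ k = 1 := congrArg Subtype.val hk
      obtain ⟨i, -, hi⟩ := (Nat.dvd_prime_pow (Fact.out : p.Prime)).1 (orderOf_dvd_of_pow_eq_one hz')
      obtain ⟨j, rfl⟩ : ∃ j, i = j + 1 := Nat.exists_eq_succ_of_ne_zero fun e =>
        hz1 (orderOf_eq_one_iff.1 (by rw [hi, e, pow_zero]))
      refine ⟨j, ?_⟩
      rw [orderOf_pow' _ (pow_ne_zero _ (Fact.out : p.Prime).ne_zero), hi,
        Nat.gcd_eq_right (pow_dvd_pow p (Nat.le_succ j)), pow_succ,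
        Nat.mul_div_cancel_left _ (pow_pos (Fact.out : p.Prime).pos j)]
    obtain ⟨j, hj⟩ := hpow hR s hs hs1
    obtain ⟨i, hi⟩ := hpow hP y hy hy1
    refine hcomm (hj.symm ▸ hr) ?_ hi (hcsy.pow_pow _ _)
    rw [hj]
    refine (hK₀π r hr (hKcard ▸ ?_)).resolve_left hr3
    exact hj ▸ (Subgroup.orderOf_dvd_natCard K (pow_mem (hRK hs) _))
  -- a minimal normal subgroup
  have hKne : K ≠ ⊥ := fun e => by
    rw [e, Subgroup.card_bot, mul_one] at hdK
    have := Nat.le_of_dvd (by omega) hdK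
    have h1 : 2 * m + 1 < q := hq ▸ Nat.lt_pow_self (by norm_num)
    have h2 : q * 1 ≤ q ^ 2 * N := by
      rw [sq, mul_assoc]
      exact Nat.mul_le_mul_left q (Nat.mul_pos (by omega) (by omega))
    omega
  haveI : Nontrivial ↥K := (Subgroup.nontrivial_iff_ne_bot K).2 hKne
  obtain ⟨A₀, hA₀n, -, hA₀1, hA₀min⟩ := Hall.exists_minimal_normal (⊤ : Subgroup ↥K) top_ne_bot
  haveI := hA₀n
  haveI : Group.IsSolvable ↥A₀ := inferInstance
  obtain ⟨p, hp, hpA, hpg, -⟩ := Hall.minimal_normal_isElementaryAbelian hA₀1 hA₀min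
  set A := A₀.map K.subtype with hA
  have hAK : A ≤ K := map_subtype_le _
  have hKA : K ≤ normalizer (A : Set G) := by
    intro g hg
    refine mem_normalizer_iff.2 fun z => ⟨?_, ?_⟩
    · rintro ⟨y, hy, rfl⟩
      exact ⟨⟨g, hg⟩ * y * ⟨g, hg⟩⁻¹, hA₀n.conj_mem y hy _, rfl⟩
    · rintro ⟨y, hy, e⟩
      refine ⟨⟨g, hg⟩⁻¹ * y * ⟨g, hg⟩, by simpa using hA₀n.conj_mem y hy (⟨g, hg⟩ : ↥K)⁻¹, ?_⟩
      rw [map_mul, map_mul, map_inv, e]
      show g⁻¹ * (g * z * g⁻¹) * g = z
      group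
  have hApg : IsPGroup p ↥A := hpg.map _
  have hAcard : Nat.card ↥A = Nat.card ↥A₀ := card_map_of_injective K.subtype_injective
  haveI : Fact p.Prime := ⟨hp⟩
  haveI : Fact (Nat.Prime 3) := ⟨Nat.prime_three⟩
  obtain ⟨b, hb⟩ := IsPGroup.iff_card.1 hApg
  have hb1 : 1 ≤ b := by
    rcases Nat.eq_zero_or_pos b with rfl | h
    · rw [pow_zero] at hb
      exact absurd (Subgroup.card_eq_one.1 (hAcard ▸ hb)) hA₀1
    · exact h
  set k := (Nat.card ↥K).factorization 3 with hk
  set c := Nat.card ↥K / 3 ^ k with hc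
  have hKc : Nat.card ↥K = 3 ^ k * c := (Nat.ordProj_mul_ordCompl_eq_self _ 3).symm
  have hcN : c ∣ N := by
    refine (Nat.dvd_iff_prime_pow_dvd_dvd N c).2 fun r j hr hrj => ?_
    rcases Nat.eq_zero_or_pos j with rfl | hj
    · exact one_dvd _
    haveI : Fact r.Prime := ⟨hr⟩
    have hr3 : r ≠ 3 := by
      rintro rfl
      exact Nat.not_dvd_ordCompl Nat.prime_three Nat.card_pos.ne' ((dvd_pow_self 3 hj.ne').trans hrj)
    obtain ⟨R₀, hR₀⟩ := Sylow.exists_subgroup_card_pow_prime r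
      (hrj.trans (hKc.symm ▸ dvd_mul_left c _) : r ^ j ∣ Nat.card ↥K)
    have hcR : Nat.card ↥(R₀.map K.subtype) = r ^ j :=
      (card_map_of_injective K.subtype_injective).trans hR₀
    exact hcR ▸ hsyl r hr hr3 (map_subtype_le _) (IsPGroup.of_card hcR)
  have hf3 : 3 ≤ 2 * m + 1 := by omega
  by_cases hp3 : p = 3
  · subst hp3
    have hb3 : b ≤ 3 * (2 * m + 1) := by
      have h1 : 3 ^ b ∣ q ^ 3 := by
        refine Nat.Coprime.dvd_of_dvd_mul_right (n := (q + 1) * (q - 1) * N) ?_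
          ((hb ▸ (card_dvd_of_le hAK).trans hdG).trans (dvd_of_eq (by ring)))
        refine Nat.Coprime.pow_left _ (Nat.prime_three.coprime_iff_not_dvd.2 fun h => ?_)
        rcases Nat.prime_three.dvd_mul.1 h with h' | h'
        · rcases Nat.prime_three.dvd_mul.1 h' with h'' | h'' <;> omega
        · exact hN3 h'
      rw [hq, ← pow_mul] at h1
      have := Nat.pow_dvd_pow_iff_le_right (by norm_num : 1 < 3) |>.1 h1
      omega
    have hcA : c ∣ 3 ^ b - 1 := by
      refine (Nat.dvd_iff_prime_pow_dvd_dvd _ c).2 fun r j hr hrj => ?_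
      rcases Nat.eq_zero_or_pos j with rfl | hj
      · exact one_dvd _
      haveI : Fact r.Prime := ⟨hr⟩
      have hr3 : r ≠ 3 := by
        rintro rfl
        exact Nat.not_dvd_ordCompl Nat.prime_three Nat.card_pos.ne' ((dvd_pow_self 3 hj.ne').trans hrj)
      obtain ⟨R₀, hR₀⟩ := Sylow.exists_subgroup_card_pow_prime r
        (hrj.trans (hKc.symm ▸ dvd_mul_left c _) : r ^ j ∣ Nat.card ↥K)
      have hcR : Nat.card ↥(R₀.map K.subtype) = r ^ j :=
        (card_map_of_injective K.subtype_injective).trans hR₀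
      have := FiveOrders.dvd_card_sub_one (T := R₀.map K.subtype) (P := A)
        ((map_subtype_le _).trans hKA) (hfree hr hr3 (map_subtype_le _) (IsPGroup.of_card hcR) hApg)
      rwa [hcR, hb] at this
    have hbig : N ∣ (2 * m + 1) * c := by
      refine Nat.Coprime.dvd_of_dvd_mul_left (m := 3 ^ k) ?_ ?_
      · exact ((Nat.prime_three.coprime_iff_not_dvd.2 hN3).pow_left k).symm
      · refine (dvd_mul_left N (q ^ 2)).trans (hdK.trans (dvd_of_eq ?_))
        rw [hKc]; ring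
    have hco2 : ¬ 2 ∣ c := fun h => Nat.not_even_iff_odd.2 hKodd
      (even_iff_two_dvd.2 (h.trans (hKc.symm ▸ dvd_mul_left c _)))
    refine three_case_arith ⟨m, rfl⟩ hf3 hb1 hb3 hcA (hq ▸ hcN) hco2 ?_
    rw [← hq]
    exact Nat.le_of_dvd (Nat.mul_pos (by omega) (Nat.pos_of_ne_zero fun e => hco2 (e ▸ dvd_zero 2))) hbig
  · obtain ⟨P₀, hP₀⟩ := Sylow.exists_subgroup_card_pow_prime (G := ↥K) 3 (Nat.ordProj_dvd _ 3)
    have hcP : Nat.card ↥(P₀.map K.subtype) = 3 ^ k :=
      (card_map_of_injective K.subtype_injective).trans hP₀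
    have h1 := FiveOrders.dvd_card_sub_one (T := P₀.map K.subtype) (P := A)
      ((map_subtype_le _).trans hKA) fun y hy hy1 s hs hs1 hcom =>
        hfree hp hp3 hAK hApg (IsPGroup.of_card hcP) s hs hs1 y hy hy1 hcom.symm
    rw [hcP, hb] at h1
    refine other_case_arith (f := 2 * m + 1) (a := k) (x := p ^ b) hf3
      (Nat.one_lt_pow (by omega) hp.one_lt) (hq ▸ hb ▸ hsyl p hp hp3 hAK hApg) h1 ?_
    rw [← hq, ← sq]
    refine Nat.Coprime.dvd_of_dvd_mul_right (n := c) ?_ ?_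
    · rw [hq, ← pow_mul]
      exact (Nat.prime_three.coprime_iff_not_dvd.2
        (Nat.not_dvd_ordCompl Nat.prime_three Nat.card_pos.ne')).pow_left _
    · refine (dvd_mul_right (q ^ 2) N).trans (hdK.trans (dvd_of_eq ?_))
      rw [hKc]; ring

end Cfsg.Agent.Walter
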