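import Cfsg.Agent.Lib.Walter.NoTrans.Main
import Cfsg.Agent.Lib.Walter.ReeOddSubgroup
import Cfsg.Agent.Lib.Walter.SEEnd

/-!
# The socles excluded at the strongly embedded end

The odd subgroup bound for groups of Ree type, and with it the socle exclusion without hypothesis.
-/

set_option autoImplicit false
set_option linter.style.haveILetI false

namespace Cfsg.Agent.Walter.NoTrans

open Subgroup

universe u

/-- Groups of Ree type have no odd subgroup of nearly the order of an involution class. -/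
theorem reeOddBound : ReeOddBound.{u} := by
  intro G _ _ _ h F _ _ H m hm hq D hD hdvd
  have hab := sylow_comm_of_abTwo h
  have h27 : 3 ^ 3 ≤ Fintype.card F := hq ▸ Nat.pow_le_pow_right (by norm_num) (by omega)
  have hodd : Odd (Fintype.card F) := hq ▸ Odd.pow (by decide)
  have h5 : 5 < Fintype.card F := by omega
  obtain ⟨m', -, hq', hG, -⟩ := exists_steinberg hab hodd h5 H.t H.ht ⟨H.e⟩
  refine ree_no_odd_subgroup hab hodd h5 H.t H.ht ⟨H.e⟩ (f := 2 * m + 1) hq hD ?_
  rw [index_C_ree H rfl hodd (by omega) hG, sq] at hdvd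
  rw [sq]
  exact hdvd

variable {X : Type u} [Group X] [Finite X]

/-- The socle exclusion at the strongly embedded end. -/
theorem noTransSocle_of
    (hcases : ∀ T : Subgroup X, T.Normal → IsSimpleGroup ↥T → ¬ IsMulCommutative ↥T →
      centralizer (T : Set X) = ⊥ → (∀ t : X, orderOf t = 2 → t ∈ T) → KnownSocle ↥T) :
    NoTransSocle X :=
  noTransSocle_of_bound reeOddBound hcases

/-- The strongly embedded end, from the socles of the proper subgroups modulo their odd cores. -/
theorem seEnd_of_known {G : Type u} [Group G] [Finite G] [IsSimpleGroup G] (h : SEAbelian.AbTwo G)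
    (S : Sylow 2 G) (h8 : 8 ≤ Nat.card ↥(SEAbelian.omegaOf h S)) {W : Subgroup G} (hW1 : W ≠ ⊥)
    (hW : Odd (Nat.card ↥W))
    (hC : ∀ a ∈ SEAbelian.omegaOf h S, a ≠ 1 →
      centralizer ({a} : Set G) ≤ normalizer (W : Set G))
    (hK : ∀ M : Subgroup G, M ≠ ⊤ → ∀ T : Subgroup (↥M ⧸ Cfsg.oddCore ↥M), T.Normal →
      IsSimpleGroup ↥T → ¬ IsMulCommutative ↥T →
      centralizer (T : Set (↥M ⧸ Cfsg.oddCore ↥M)) = ⊥ →
      (∀ t : ↥M ⧸ Cfsg.oddCore ↥M, orderOf t = 2 → t ∈ T) → KnownSocle ↥T) : False :=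
  seEnd h S h8 hW1 hW hC fun M hM => noTransSocle_of (hK M hM)

end Cfsg.Agent.Walter.NoTrans
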