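import Cfsg.Agent.Lib.Walter.Core.Fact
import Cfsg.Agent.Lib.Walter.Field.Final

/-!
The two facts of Walter's classification used by the rows.
-/
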