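import Cfsg.Agent.Lib.SmallSimple.Exceptional
import Cfsg.Agent.OddChar.Lattice
import Cfsg.Agent.S0898

/-!
# An abelian trivial intersection subgroup of order `q³` with normaliser of index `q - 1`

The exceptional characters of `P`, taken for the linear characters not trivial on `Q ≤ P`, and the degree
bound of Feit and Thompson for `Q` exclude the configuration of a Ree group with abelian Sylow 3-subgroup.
-/

set_option autoImplicit false
set_option linter.unusedSectionVars false
set_option linter.style.haveILetI false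

namespace Cfsg.Agent.Walter.ReeExc

open Cfsg.Agent.Characters Cfsg.Agent.OddChar Cfsg.Agent.SmallSimple.Exceptional
open scoped ComplexConjugate

universe u

variable {G : Type u} [Group G] [Fintype G]

/-- The hypotheses. -/
structure Hyp (P Q : Subgroup G) (q : ℕ) : Prop where
  comm : ∀ a b : P, a * b = b * a
  le : Q ≤ P
  ti : ∀ y ∈ P, y ≠ 1 → ∀ x : G, x⁻¹ * y * x ∈ P → x ∈ Subgroup.normalizer (P : Set G)
  inv : ∀ n ∈ Subgroup.normalizer (P : Set G), ∀ z ∈ Q, n * z * n⁻¹ ∈ Q
  cent : ∀ z ∈ Q, z ≠ 1 → Subgroup.centralizer ({z} : Set G) ≤ P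
  big : 27 ≤ q
  cardQ : Nat.card Q = q ^ 2
  cardP : Nat.card P = q ^ 3
  index : P.relIndex (Subgroup.normalizer (P : Set G)) = q - 1
  cardG : Nat.card G ≤ q ^ 3 * (q ^ 3 + 1) * q
  free : ∀ (n : Subgroup.normalizer (P : Set G)) (φ : P →* ℂˣ),
    (∃ z : P, (z : G) ∈ Q ∧ φ z ≠ 1) → conjDual P n φ = φ → (n : G) ∈ P

variable {P Q : Subgroup G} {q : ℕ}

/-- The linear characters of `P` which are not trivial on `Q`. -/
def Off (Q : Subgroup G) (φ : P →* ℂˣ) : Prop := ∃ z : P, (z : G) ∈ Q ∧ φ z ≠ 1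

theorem Off.ne_one {φ : P →* ℂˣ} (h : Off Q φ) : φ ≠ 1 := fun e => by
  obtain ⟨z, -, hz⟩ := h
  exact hz (by rw [e]; rfl)

variable (h : Hyp P Q q)
include h

theorem off_conjDual (n : Subgroup.normalizer (P : Set G)) {φ : P →* ℂˣ} (hφ : Off Q φ) :
    Off Q (conjDual P n φ) := by
  obtain ⟨z, hz, hne⟩ := hφ
  refine ⟨⟨(n : G) * z * (n : G)⁻¹, h.le (h.inv _ n.2 _ hz)⟩, h.inv _ n.2 _ hz, ?_⟩
  simp only [conjDual, MonoidHom.comp_apply]
  intro e
  refine hne (Eq.trans (congrArg φ (Subtype.ext ?_)) e)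
  simp [mul_assoc]

theorem conjDual_mem (φ : P →* ℂˣ) (y : P) :
    conjDual P ⟨y, Subgroup.le_normalizer y.2⟩ φ = φ := by
  ext z
  simp only [conjDual, MonoidHom.comp_apply]
  refine congrArg (fun t => ((φ t : ℂˣ) : ℂ)) ?_
  have e : Induce.conjHom P (y : G) (Subgroup.le_normalizer y.2) z = y⁻¹ * z * y := Subtype.ext (by simp)
  exact e.trans (by rw [h.comm y⁻¹ z, mul_assoc, inv_mul_cancel, mul_one])

theorem card_conjDual {φ ψ : P →* ℂˣ} (hφ : Off Q φ) (hs : SameOrbit P φ ψ) :
    Nat.card {n : Subgroup.normalizer (P : Set G) // conjDual P n φ = ψ} = Nat.card P := by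
  obtain ⟨m, hm⟩ := hs
  refine Nat.card_congr
    { toFun := fun n => ⟨((m⁻¹ * n.1 : Subgroup.normalizer (P : Set G)) : G),
        h.free _ φ hφ (by rw [← conjDual_conjDual, n.2, ← hm, conjDual_conjDual,
          inv_mul_cancel, conjDual_one])⟩
      invFun := fun y => ⟨m * ⟨y, Subgroup.le_normalizer y.2⟩, by
        rw [← conjDual_conjDual, conjDual_mem h, hm]⟩
      left_inv := fun n => Subtype.ext (Subtype.ext (by simp))
      right_inv := fun y => Subtype.ext (by simp) }

theorem card_normalizer : Nat.card (Subgroup.normalizer (P : Set G)) = Nat.card P * (q - 1) := by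
  rw [← h.index, ← Subgroup.relIndex_bot_left, ← Subgroup.relIndex_bot_left,
    Subgroup.relIndex_mul_relIndex _ _ _ bot_le Subgroup.le_normalizer]

theorem inner_A_eq {φ ψ : P →* ℂˣ} (hφ : Off Q φ) (hψ : Off Q ψ) [Decidable (SameOrbit P φ ψ)] :
    Cfsg.classInner (A P φ) (A P ψ) = ((q - 1 : ℕ) : ℂ) + if SameOrbit P φ ψ then 1 else 0 := by
  classical
  haveI := Fintype.ofFinite P
  haveI := Fintype.ofFinite (Subgroup.normalizer (P : Set G))
  have hres : (fun y : P => Cfsg.indFun P (fun y => 1 - (φ y : ℂ)) y) = (Nat.card P : ℂ)⁻¹ •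
      ∑ n : Subgroup.normalizer (P : Set G),
        ((fun _ => 1) - fun y => (conjDual P n φ y : ℂ)) := by
    funext y
    have hap : Cfsg.indFun P (fun y => 1 - (φ y : ℂ)) y = (Nat.card P : ℂ)⁻¹ *
        ∑ n : Subgroup.normalizer (P : Set G), (1 - (φ (Induce.conjHom P n n.2 y) : ℂ)) := by
      rcases eq_or_ne (y : G) 1 with e | e
      · obtain rfl : y = 1 := Subtype.ext e
        simp [indFun_one]
      · exact Induce.indFun_apply_of_ti P _ y fun x hx _ => h.ti _ y.2 e x hx
    rw [hap]
    simp [Finset.sum_apply, conjDual]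
  rw [A, A, frobenius_reciprocity' P _ (indFun_isClassFunction _ _), hres, classInner_smul_left,
    classInner_sum_left]
  have hterm : ∀ n : Subgroup.normalizer (P : Set G),
      Cfsg.classInner ((fun _ => 1) - fun y => (conjDual P n φ y : ℂ))
        (fun y : P => 1 - (ψ y : ℂ)) = 1 + if conjDual P n φ = ψ then 1 else 0 := by
    intro n
    rw [show (fun y : P => 1 - (ψ y : ℂ)) = (fun _ => 1) - fun y => (ψ y : ℂ) from rfl,
      classInner_sub_left, classInner_sub_right, classInner_sub_right, inner_const_linear,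
      inner_linear_const, inner_linear, if_neg hψ.ne_one, if_neg (conjDual_ne_one n hφ.ne_one),
      classInner_isIrr_self isIrrCharacter_one]
    ring
  rw [Finset.sum_congr rfl fun n _ => hterm n, Finset.sum_add_distrib, Finset.sum_boole, Finset.sum_const,
    Finset.card_univ, ← Fintype.card_subtype, ← Nat.card_eq_fintype_card, ← Nat.card_eq_fintype_card,
    card_normalizer h]
  have h0 : (Nat.card P : ℂ) ≠ 0 := by exact_mod_cast Nat.card_pos.ne'
  split_ifs with hs
  · rw [card_conjDual h hφ hs]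
    push_cast
    simp
    field_simp
  · haveI : IsEmpty {n : Subgroup.normalizer (P : Set G) // conjDual P n φ = ψ} :=
      ⟨fun n => hs ⟨n.1, n.2⟩⟩
    rw [Nat.card_of_isEmpty (α := {n : Subgroup.normalizer (P : Set G) // conjDual P n φ = ψ})]
    push_cast
    simp

/-- At most `q` linear characters are trivial on `Q`. -/
theorem card_not_off : Nat.card {φ : P →* ℂˣ // ¬ Off Q φ} = q := by
  letI : CommGroup P := { (inferInstance : Group P) with mul_comm := h.comm }
  haveI : NeZero (Monoid.exponent P : ℂ) := ⟨Nat.cast_ne_zero.2 Monoid.exponent_ne_zero_of_finite⟩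
  have hker := CommGroup.card_domRestrictHom_ker (M := ℂ) (Q.subgroupOf P)
  have hq : Nat.card (P ⧸ Q.subgroupOf P) = q := by
    have h1 := (Q.subgroupOf P).card_mul_index
    rw [Nat.card_congr (Subgroup.subgroupOfEquivOfLe h.le).toEquiv, h.cardQ, h.cardP,
      Subgroup.index_eq_card] at h1
    refine Nat.eq_of_mul_eq_mul_left (pow_pos (lt_of_lt_of_le (by norm_num) h.big) 2) (h1.trans ?_)
    ring
  rw [← hq, ← hker]
  refine Nat.card_congr (Equiv.subtypeEquivRight fun φ => ?_)
  rw [MonoidHom.mem_ker]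
  constructor
  · intro hn
    refine MonoidHom.ext fun z => ?_
    by_contra hz
    exact hn ⟨z.1, z.2, hz⟩
  · rintro he ⟨z, hz, hne⟩
    exact hne (DFunLike.congr_fun he ⟨z, hz⟩)

theorem card_dual_eq : Nat.card (P →* ℂˣ) = q ^ 3 := by
  have hc : commutator P = ⊥ := by
    rw [commutator_def, Subgroup.commutator_eq_bot_iff_le_centralizer]
    intro x _
    exact fun y _ => h.comm y x
  rw [card_linear_hom, hc, Subgroup.index_bot, h.cardP]

theorem finite_dual : Finite (P →* ℂˣ) :=
  Nat.finite_of_card_ne_zero (by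
    rw [card_dual_eq h]
    exact (pow_pos (lt_of_lt_of_le (by norm_num) h.big) 3).ne')

/-- Restriction of a character in terms of the linear characters. -/
theorem exists_mult (χ : Cfsg.IrrCharacter G) [Fintype (P →* ℂˣ)] :
    ∃ m : (P →* ℂˣ) → ℕ, (∀ y : P, (χ : G → ℂ) y = ∑ φ, (m φ : ℂ) * (φ y : ℂ)) ∧
      ∀ φ, Cfsg.classInner (A P φ) (χ : G → ℂ) = (m 1 : ℂ) - (m φ : ℂ) := by
  classical
  haveI := Fintype.ofFinite P
  haveI := Fintype.ofFinite (Cfsg.IrrCharacter P)
  set θ : P → ℂ := fun y => (χ : G → ℂ) y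
  have hθc : Cfsg.IsCharacter P θ := isCharacter_restrict P (irr_isCharacter χ)
  choose m hm using fun φ : P →* ℂˣ => classInner_char_nat hθc (isCharacter_linear φ)
  refine ⟨m, fun y => ?_, fun φ => ?_⟩
  · have hθ := classFun_eq_sum (f := θ) (char_isClassFunction hθc)
    let e : Cfsg.IrrCharacter P ≃ (P →* ℂˣ) :=
      (Equiv.subtypeUnivEquiv fun χ : Cfsg.IrrCharacter P =>
        irr_degree_one_of_comm h.comm χ.2).symm.trans linearEquiv
    calc θ y = ∑ ψ : Cfsg.IrrCharacter P, Cfsg.classInner θ (ψ : P → ℂ) * (ψ : P → ℂ) y := by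
          conv_lhs => rw [hθ]
          simp [Finset.sum_apply]
      _ = _ := Fintype.sum_equiv e _ _ fun ψ => by
          have hψ : (ψ : P → ℂ) = fun y => ((e ψ) y : ℂ) := by
            obtain ⟨φ, rfl⟩ := e.symm.surjective ψ
            rw [Equiv.apply_symm_apply]; rfl
          rw [hψ, hm]
  · rw [A, frobenius_reciprocity P _ (irr_isClassFunction χ),
      show (fun y : P => 1 - (φ y : ℂ)) = (fun _ => 1) - fun y => (φ y : ℂ) from rfl,
      classInner_sub_left]
    rw [classInner_conj_symm θ (fun y => (φ y : ℂ)), hm, map_natCast,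
      show (fun _ : P => (1 : ℂ)) = fun y => (((1 : P →* ℂˣ) y : ℂˣ) : ℂ) from by simp,
      classInner_conj_symm θ, hm, map_natCast]

/-- No irreducible character has non-trivial part on `Q` of dimension at most `q - 1`. -/
theorem small_absurd [IsSimpleGroup G] [Fintype (P →* ℂˣ)] (χ : Cfsg.IrrCharacter G)
    (m : (P →* ℂˣ) → ℕ) (hm : ∀ y : P, (χ : G → ℂ) y = ∑ φ, (m φ : ℂ) * (φ y : ℂ))
    [DecidablePred (Off (P := P) Q)] (hlow : 2 ≤ ∑ φ with Off Q φ, m φ)
    (hup : (∑ φ with Off Q φ, m φ) ≤ q - 1) : False := by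
  classical
  haveI := Fintype.ofFinite Q
  haveI := Fintype.ofFinite P
  have hq := h.big
  set e := ∑ φ with Off Q φ, m φ with he
  set c := ∑ φ with ¬ Off Q φ, m φ with hcdef
  have hd : (χ : G → ℂ) 1 = ((e + c : ℕ) : ℂ) := by
    have h1 := hm 1
    simp only [OneMemClass.coe_one, map_one, Units.val_one, mul_one] at h1
    rw [h1, he, hcdef, Finset.sum_filter_add_sum_filter_not, Nat.cast_sum]
  have hinner : Cfsg.classInner (fun z : Q => (χ : G → ℂ) z) (fun _ => 1) = (c : ℂ) := by
    have hres : (fun z : Q => (χ : G → ℂ) z) =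
        ∑ φ : P →* ℂˣ, (m φ : ℂ) • fun z : Q => ((φ.comp (Subgroup.inclusion h.le)) z : ℂ) := by
      funext z
      rw [Finset.sum_apply]
      exact hm ⟨z, h.le z.2⟩
    rw [hres, classInner_sum_left, hcdef, Nat.cast_sum, Finset.sum_filter]
    refine Finset.sum_congr rfl fun φ _ => ?_
    have hone : (fun _ : Q => (1 : ℂ)) = fun z => (((1 : Q →* ℂˣ) z : ℂˣ) : ℂ) := by simp
    rw [classInner_smul_left, hone, inner_linear]
    have hiff : φ.comp (Subgroup.inclusion h.le) = 1 ↔ ¬ Off Q φ := by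
      constructor
      · rintro he ⟨z, hz, hne⟩
        exact hne (DFunLike.congr_fun he ⟨z, hz⟩)
      · intro hn
        refine MonoidHom.ext fun z => ?_
        by_contra hne
        exact hn ⟨Subgroup.inclusion h.le z, z.2, hne⟩
    simp only [hiff]
    split_ifs <;> simp
  have hker : ∃ z ∈ Q, (χ : G → ℂ) z ≠ (χ : G → ℂ) 1 := by
    by_contra hno
    push Not at hno
    have hconst : (fun z : Q => (χ : G → ℂ) z) = ((e + c : ℕ) : ℂ) • fun _ : Q => (1 : ℂ) := by
      funext z
      simp [hno z z.2, hd]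
    rw [hconst, classInner_smul_left, classInner_isIrr_self isIrrCharacter_one, mul_one,
      Nat.cast_inj] at hinner
    omega
  have hcomm : ¬ ∀ a b : G, a * b = b * a := fun hab => by
    obtain ⟨z, hz, hzne⟩ := hker
    have hz1 : z ≠ 1 := fun e => hzne (by rw [e])
    have hCtop : Subgroup.centralizer ({z} : Set G) = ⊤ :=
      eq_top_iff.2 fun g _ => Subgroup.mem_centralizer_singleton_iff.2 (hab g z)
    have hPtop : P = ⊤ := eq_top_iff.2 (hCtop ▸ h.cent z hz hz1)
    have hi := h.index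
    rw [Subgroup.relIndex_eq_one.2 (by rw [hPtop]; exact le_top)] at hi
    omega
  have hcen : Subgroup.center G = ⊥ := by
    rcases Subgroup.Normal.eq_bot_or_eq_top (inferInstance : (Subgroup.center G).Normal) with e | e
    · exact e
    · exact absurd (fun a b => Subgroup.mem_center_iff.1 (e ▸ Subgroup.mem_top b) a) hcomm
  have hone : ∀ g : G, g ∉ Subgroup.center G → ∀ a b : G,
      Subgroup.centralizer ({g} : Set G) ⊓ Q.map (MulAut.conj a).toMonoidHom ≠ ⊥ →
      Subgroup.centralizer ({g} : Set G) ⊓ Q.map (MulAut.conj b).toMonoidHom ≠ ⊥ →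
      Q.map (MulAut.conj a).toMonoidHom = Q.map (MulAut.conj b).toMonoidHom := by
    intro g hg a b ha hb
    have hg1 : g ≠ 1 := fun e => hg (e ▸ one_mem _)
    have key : ∀ a : G, Subgroup.centralizer ({g} : Set G) ⊓ Q.map (MulAut.conj a).toMonoidHom ≠ ⊥ →
        a⁻¹ * g * a ∈ P := by
      intro a ha
      obtain ⟨x, ⟨hxg, z, hz, hzx⟩, hx1⟩ := (Subgroup.bot_or_exists_ne_one _).resolve_left ha
      have hzx' : a * z * a⁻¹ = x := hzx
      have hz1 : z ≠ 1 := fun e => hx1 (by rw [← hzx', e, mul_one, mul_inv_cancel])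
      refine h.cent z hz hz1 (Subgroup.mem_centralizer_singleton_iff.2 ?_)
      have hc := Subgroup.mem_centralizer_singleton_iff.1 hxg
      rw [← hzx'] at hc
      calc a⁻¹ * g * a * z = a⁻¹ * (g * (a * z * a⁻¹)) * a := by group
        _ = a⁻¹ * (a * z * a⁻¹ * g) * a := by rw [hc]
        _ = z * (a⁻¹ * g * a) := by group
    have h1 := key a ha
    have h2 := key b hb
    have hn : a⁻¹ * b ∈ Subgroup.normalizer (P : Set G) := by
      refine h.ti (a⁻¹ * g * a) h1 (fun e => hg1 ?_) _ (by
        rw [show (a⁻¹ * b)⁻¹ * (a⁻¹ * g * a) * (a⁻¹ * b) = b⁻¹ * g * b by group]; exact h2)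
      calc g = a * (a⁻¹ * g * a) * a⁻¹ := by group
        _ = 1 := by rw [e, mul_one, mul_inv_cancel]
    ext x
    simp only [Subgroup.mem_map, MulEquiv.coe_toMonoidHom, MulAut.conj_apply]
    constructor
    · rintro ⟨z, hz, rfl⟩
      exact ⟨_, h.inv _ (inv_mem hn) z hz, by group⟩
    · rintro ⟨z, hz, rfl⟩
      exact ⟨_, h.inv _ hn z hz, by group⟩
  have hab : ∀ a ∈ Q, ∀ b ∈ Q, a * b = b * a := fun a ha b hb =>
    congrArg Subtype.val (h.comm ⟨a, h.le ha⟩ ⟨b, h.le hb⟩)
  obtain ⟨hb1, hb2⟩ := S0898.result Q hab (by rw [hcen, inf_bot_eq]) hone (χ : G → ℂ) χ.2 hker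
  rw [hd, hinner, Complex.natCast_re, Complex.natCast_re, h.cardQ] at hb1
  have hb1' : q ^ 2 * c ^ 2 < (e + c) ^ 2 := by exact_mod_cast hb1
  have hc0 : c = 0 := by
    by_contra hc
    have h1 : (q * c) ^ 2 < (e + c) ^ 2 := by rwa [mul_pow]
    have h2 := lt_of_pow_lt_pow_left₀ 2 (Nat.zero_le _) h1
    have h3 : 1 * (q - 1) ≤ c * (q - 1) := Nat.mul_le_mul_right _ (Nat.one_le_iff_ne_zero.2 hc)
    have h4 : q * c = c + c * (q - 1) := by
      obtain ⟨q', rfl⟩ : ∃ q', q = q' + 1 := ⟨q - 1, by omega⟩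
      simp only [Nat.add_sub_cancel]
      ring
    omega
  have h2' := hb2 (by rw [hd, hc0]; intro e1; norm_cast at e1; omega) (fun M hM hle => by
    rcases Subgroup.Normal.eq_bot_or_eq_top hM with e1 | e1
    · obtain ⟨z, hz, hzne⟩ := hker
      have hz' : z ∈ (⊥ : Subgroup G) := e1 ▸ hle hz
      exact absurd (by rw [Subgroup.mem_bot.1 hz']) hzne
    · exact e1)
  rw [hd, Complex.natCast_re, h.cardQ, hc0, add_zero] at h2'
  have h2'' : q ^ 2 < (1 + e) ^ 2 := by exact_mod_cast h2'
  have h3 := lt_of_pow_lt_pow_left₀ 2 (Nat.zero_le _) h2''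
  omega

/-- The configuration does not exist. -/
theorem false_of_hyp [IsSimpleGroup G] : False := by
  classical
  haveI := finite_dual h
  haveI := Fintype.ofFinite (P →* ℂˣ)
  haveI := Fintype.ofFinite (Cfsg.IrrCharacter G)
  haveI := Fintype.ofFinite (Subgroup.normalizer (P : Set G))
  have hq := h.big
  let S := {φ : P →* ℂˣ // Off Q φ}
  let st : Setoid S := ⟨fun a b => SameOrbit P a.1 b.1,
    ⟨fun a => (sameOrbit_equivalence P).refl _, fun hs => (sameOrbit_equivalence P).symm hs,
      fun h1 h2 => (sameOrbit_equivalence P).trans h1 h2⟩⟩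
  let ι := Quotient st
  haveI := Fintype.ofFinite ι
  let r : ι → P →* ℂˣ := fun i => i.out.1
  have hr : ∀ i, Off Q (r i) := fun i => i.out.2
  have hrinj : ∀ i j, SameOrbit P (r i) (r j) → i = j := fun i j hij => by
    have := Quotient.sound (s := st) (a := i.out) (b := j.out) hij
    simpa using this
  -- the size of an orbit
  have horb : ∀ i : ι, (Finset.univ.filter fun φ => SameOrbit P (r i) φ).card = q - 1 := by
    intro i
    have hsum : Nat.card (Subgroup.normalizer (P : Set G)) =
        (Finset.univ.filter fun φ => SameOrbit P (r i) φ).card * Nat.card P := by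
      rw [Nat.card_eq_fintype_card, ← Finset.card_univ,
        Finset.card_eq_sum_card_fiberwise (f := fun n => conjDual P n (r i))
          (t := Finset.univ.filter fun φ => SameOrbit P (r i) φ)
          (fun n _ => Finset.mem_filter.2 ⟨Finset.mem_univ _, n, rfl⟩), ← smul_eq_mul,
        ← Finset.sum_const]
      refine Finset.sum_congr rfl fun φ hφ => ?_
      rw [← Fintype.card_subtype, ← Nat.card_eq_fintype_card]
      exact card_conjDual h (hr i) (Finset.mem_filter.1 hφ).2
    rw [card_normalizer h, mul_comm] at hsum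
    exact (Nat.eq_of_mul_eq_mul_right Nat.card_pos hsum).symm
  have hcover : Finset.univ.filter (Off (P := P) Q) =
      Finset.univ.biUnion fun i : ι => Finset.univ.filter fun φ => SameOrbit P (r i) φ := by
    ext φ
    simp only [Finset.mem_filter, Finset.mem_univ, true_and, Finset.mem_biUnion]
    constructor
    · intro hφ
      exact ⟨⟦⟨φ, hφ⟩⟧, Quotient.mk_out (s := st) ⟨φ, hφ⟩⟩
    · rintro ⟨i, n, rfl⟩
      exact off_conjDual h n (hr i)
  have hdisj : ((Finset.univ : Finset ι) : Set ι).PairwiseDisjoint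
      fun i => Finset.univ.filter fun φ => SameOrbit P (r i) φ := by
    intro i _ j _ hij
    refine Finset.disjoint_left.2 fun φ hi hj => hij ?_
    exact hrinj i j ((sameOrbit_equivalence P).trans (Finset.mem_filter.1 hi).2
      ((sameOrbit_equivalence P).symm (Finset.mem_filter.1 hj).2))
  have hS : (Finset.univ.filter (Off (P := P) Q)).card = Fintype.card ι * (q - 1) := by
    rw [hcover, Finset.card_biUnion hdisj, Finset.sum_congr rfl fun i _ => horb i, Finset.sum_const,
      Finset.card_univ, smul_eq_mul]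
  have hk : q ^ 3 = Fintype.card ι * (q - 1) + q := by
    have h1 := card_not_off h
    rw [Nat.card_eq_fintype_card, Fintype.card_subtype] at h1
    have h2 := Finset.card_filter_add_card_filter_not (s := (Finset.univ : Finset (P →* ℂˣ))) (Off Q)
    rw [Finset.card_univ, ← Nat.card_eq_fintype_card, card_dual_eq h, hS, h1] at h2
    exact h2.symm
  have hk1 : Fintype.card ι = q * (q + 1) := by
    obtain ⟨q', rfl⟩ : ∃ q', q = q' + 1 := ⟨q - 1, by omega⟩
    simp only [Nat.add_sub_cancel] at hk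
    refine Nat.eq_of_mul_eq_mul_right (show 0 < q' by omega) ?_
    have : (q' + 1) ^ 3 = (q' + 1) * (q' + 1 + 1) * q' + (q' + 1) := by ring
    omega
  obtain ⟨o⟩ : Nonempty ι := Fintype.card_pos_iff.1 (by rw [hk1]; positivity)
  -- the exceptional characters
  have hI : ∀ i j, Cfsg.classInner (A P (r i)) (A P (r j)) =
      ((q - 1 : ℕ) : ℂ) + if i = j then 1 else 0 := by
    intro i j
    rw [inner_A_eq h (hr i) (hr j)]
    refine congrArg _ (if_congr ⟨hrinj i j, fun e => e ▸ (sameOrbit_equivalence P).refl _⟩ rfl rfl)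
  have hgen : ∀ i, Cfsg.IsGeneralizedCharacter G (A P (r i)) := fun i => A_isGen _
  obtain ⟨ε, μ, hε, hμ, hd⟩ := Lattice.exists_differences o (fun i => A P (r i) - A P (r o))
    (sub_self _) (fun i _ => isGen_sub (hgen i) (hgen o))
    (fun i _ => by simp [A_one])
    (fun i hi => by
      simp only [classInner_sub_left, classInner_sub_right, hI, if_true, if_neg hi, if_neg (Ne.symm hi)]
      ring)
    (fun i j hi hj hij => by
      simp only [classInner_sub_left, classInner_sub_right, hI, if_true, if_neg hi, if_neg (Ne.symm hj),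
        if_neg hij]
      ring)
  -- each of them is large
  have hbig : ∀ j, j ≠ o → ∃ d : ℕ, (μ j : G → ℂ) 1 = (d : ℂ) ∧ q * (q + 1) * (q - 1) ≤ d + 2 * (q - 1) := by
    intro j hj
    obtain ⟨m, hm, hA⟩ := exists_mult h (μ j)
    have hconst : ∀ (n : Subgroup.normalizer (P : Set G)) φ, m (conjDual P n φ) = m φ := by
      intro n φ
      have h1 := hA (conjDual P n φ)
      rw [A_conjDual, hA φ] at h1
      exact_mod_cast (sub_right_inj.1 h1).symm
    have hrel : ∀ i, (m (r o) : ℤ) - m (r i) = ε * (if i = j then 1 else 0) := by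
      intro i
      have h1 := congrArg (fun θ : G → ℂ => Cfsg.classInner θ (μ j : G → ℂ)) (hd i)
      simp only [classInner_sub_left, classInner_smul_left, classInner_irr, hA, hμ.eq_iff,
        if_neg (Ne.symm hj), sub_zero] at h1
      have h2 : (((m (r o) : ℤ) - m (r i) : ℤ) : ℂ) = ((ε * (if i = j then 1 else 0) : ℤ) : ℂ) := by
        push_cast
        linear_combination h1
      exact_mod_cast h2
    have hval : ∀ i φ, SameOrbit P (r i) φ → m φ = m (r i) := by
      rintro i φ ⟨n, rfl⟩
      exact hconst n _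
    have hsumS : (∑ φ with Off Q φ, m φ) = ∑ i : ι, (q - 1) * m (r i) := by
      rw [hcover, Finset.sum_biUnion hdisj]
      refine Finset.sum_congr rfl fun i _ => ?_
      rw [Finset.sum_congr rfl fun φ hφ => hval i φ (Finset.mem_filter.1 hφ).2, Finset.sum_const,
        horb i, smul_eq_mul]
    obtain ⟨d, hdd⟩ := char_one_nat (irr_isCharacter (μ j))
    refine ⟨d, hdd, ?_⟩
    have hdsum : d = (∑ φ with Off Q φ, m φ) + ∑ φ with ¬ Off Q φ, m φ := by
      have h1 := hm 1
      simp only [OneMemClass.coe_one, map_one, Units.val_one, mul_one, hdd] at h1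
      rw [Finset.sum_filter_add_sum_filter_not]
      exact_mod_cast h1
    by_cases ha : m (r o) = 0
    · exfalso
      have hmj : ∀ i, m (r i) = if i = j then 1 else 0 := by
        intro i
        have h1 := hrel i
        have h2 := hrel j
        rw [ha] at h1 h2
        rw [if_pos rfl] at h2
        split_ifs with hij
        · subst hij
          omega
        · rw [if_neg hij] at h1
          omega
      have hsum1 : (∑ φ with Off Q φ, m φ) = q - 1 := by
        rw [hsumS, Finset.sum_eq_single j (fun i _ hij => by rw [hmj, if_neg hij, mul_zero])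
          (by simp), hmj, if_pos rfl, mul_one]
      exact small_absurd h (μ j) m hm (by rw [hsum1]; omega) hsum1.le
    · have hge : ∀ i ∈ (Finset.univ.erase j), (q - 1) * 1 ≤ (q - 1) * m (r i) := by
        intro i hi
        have h1 := hrel i
        rw [if_neg (Finset.ne_of_mem_erase hi)] at h1
        exact Nat.mul_le_mul_left _ (by omega)
      have h2 : (Finset.univ.erase j).card * ((q - 1) * 1) ≤ ∑ i : ι, (q - 1) * m (r i) := by
        rw [← smul_eq_mul, ← Finset.sum_const]
        exact (Finset.sum_le_sum hge).trans (Finset.sum_le_sum_of_subset (Finset.erase_subset _ _))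
      rw [Finset.card_erase_of_mem (Finset.mem_univ j), Finset.card_univ, hk1, mul_one, ← hsumS] at h2
      obtain ⟨k', hk'⟩ : ∃ k', q * (q + 1) = k' + 1 := ⟨q * (q + 1) - 1, by
        have : 0 < q * (q + 1) := by positivity
        omega⟩
      rw [hk'] at h2 ⊢
      simp only [Nat.add_sub_cancel] at h2
      rw [add_mul, one_mul]
      omega
  -- too large together
  choose d hd1 hd2 using hbig
  obtain ⟨D, hD⟩ : ∃ D, q * (q + 1) * (q - 1) = D + 2 * (q - 1) := ⟨q * (q + 1) * (q - 1) - 2 * (q - 1), by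
    have : 2 * (q - 1) ≤ q * (q + 1) * (q - 1) := Nat.mul_le_mul_right _ (by nlinarith)
    omega⟩
  have hsq : (Fintype.card ι - 1) * D ^ 2 ≤ Nat.card G := by
    have hdeg : ∀ χ : Cfsg.IrrCharacter G, ∃ n : ℕ, (χ : G → ℂ) 1 = (n : ℂ) :=
      fun χ => char_one_nat (irr_isCharacter χ)
    choose N hN using hdeg
    have htot : ∑ χ : Cfsg.IrrCharacter G, N χ ^ 2 = Nat.card G := by
      have h1 := sum_degree_sq (G := G)
      simp only [hN] at h1
      exact_mod_cast h1
    calc (Fintype.card ι - 1) * D ^ 2 = ∑ _i ∈ Finset.univ.erase o, D ^ 2 := by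
          rw [Finset.sum_const, Finset.card_erase_of_mem (Finset.mem_univ o), Finset.card_univ, smul_eq_mul]
      _ ≤ ∑ i ∈ Finset.univ.erase o, N (μ i) ^ 2 := by
          refine Finset.sum_le_sum fun i hi => Nat.pow_le_pow_left ?_ 2
          have h1 := hd2 i (Finset.ne_of_mem_erase hi)
          have h2 : N (μ i) = d i (Finset.ne_of_mem_erase hi) := by
            exact_mod_cast (hN (μ i)).symm.trans (hd1 i (Finset.ne_of_mem_erase hi))
          omega
      _ = ∑ χ ∈ (Finset.univ.erase o).image μ, N χ ^ 2 :=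
          (Finset.sum_image (f := fun χ => N χ ^ 2) fun a _ b _ e => hμ e).symm
      _ ≤ _ := htot ▸ Finset.sum_le_sum_of_subset (Finset.subset_univ _)
  have hG := h.cardG
  rw [hk1] at hsq
  obtain ⟨x, rfl⟩ : ∃ x, q = x + 27 := ⟨q - 27, by omega⟩
  have hD' : D = (x + 27) * (x + 28) * (x + 26) - 2 * (x + 26) := by
    simp only [show x + 27 + 1 = x + 28 from rfl, show x + 27 - 1 = x + 26 from by omega] at hD
    omega
  have hDge : (x + 27) ^ 2 * (x + 26) ≤ D := by
    have : (x + 27) ^ 2 * (x + 26) + 2 * (x + 26) ≤ (x + 27) * (x + 28) * (x + 26) := by nlinarith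
    omega
  have hfin := (Nat.mul_le_mul_left ((x + 27) * (x + 27 + 1) - 1) (Nat.pow_le_pow_left hDge 2)).trans (hsq.trans hG)
  have hk' : (x + 27) ^ 2 ≤ (x + 27) * (x + 27 + 1) - 1 := by
    have : (x + 27) ^ 2 + 1 ≤ (x + 27) * (x + 27 + 1) := by nlinarith
    omega
  have hlast := (Nat.mul_le_mul_right (((x + 27) ^ 2 * (x + 26)) ^ 2) hk').trans hfin
  have h1 : 2 * (x + 27) ^ 7 < (x + 27) ^ 2 * ((x + 27) ^ 2 * (x + 26)) ^ 2 := by
    have : 2 * (x + 27) < (x + 26) ^ 2 := by nlinarith
    calc 2 * (x + 27) ^ 7 = (x + 27) ^ 6 * (2 * (x + 27)) := by ring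
      _ < (x + 27) ^ 6 * (x + 26) ^ 2 := Nat.mul_lt_mul_of_pos_left this (by positivity)
      _ = _ := by ring
  have h2 : (x + 27) ^ 3 * ((x + 27) ^ 3 + 1) * (x + 27) ≤ 2 * (x + 27) ^ 7 := by
    have : 1 ≤ (x + 27) ^ 3 := Nat.one_le_pow _ _ (by omega)
    calc (x + 27) ^ 3 * ((x + 27) ^ 3 + 1) * (x + 27)
        ≤ (x + 27) ^ 3 * ((x + 27) ^ 3 + (x + 27) ^ 3) * (x + 27) :=
          Nat.mul_le_mul_right _ (Nat.mul_le_mul_left _ (by omega))
      _ = _ := by ring
  omega

end Cfsg.Agent.Walter.ReeExc
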