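import Cfsg.Agent.Lib.Walter.ReeTI
import Cfsg.Agent.Lib.Walter.ReeExceptional
import Cfsg.Agent.Lib.JT.Local
import Cfsg.Agent.Lib.JT.KData
import Cfsg.Agent.S0343

/-!
# No Ree order with abelian Sylow three-subgroups

A simple group with abelian Sylow 2-subgroups, an involution centraliser `C₂ × PSL₂(q)` and the order
`q³ (q³ + 1) (q - 1)` of a small Ree group has non-abelian Sylow 3-subgroups.
-/

set_option autoImplicit false
set_option linter.unusedSectionVars false
set_option linter.style.haveILetI false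

namespace Cfsg.Agent.Walter

open Subgroup
open scoped Pointwise

universe u v

namespace Ree

section Torus

variable {G : Type u} [Group G] [Finite G] {K : Type v} [Group K] [Fintype K]
  {H : JT.Setup G K} {D : JT.KData K} (W : H.Torus D)
include W

/-- The centraliser of a non-trivial element of the torus has no subgroup of order nine, if three does not
divide the order of the torus. -/
theorem torus_not_nine (h3 : ¬ 3 ∣ Nat.card W.A) {a : G} (ha : a ∈ W.A) (ha1 : a ≠ 1) :
    ¬ 9 ∣ Nat.card (centralizer ({a} : Set G)) := by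
  intro h9
  haveI : Fact (Nat.Prime 3) := ⟨Nat.prime_three⟩
  have hAC : W.A ≤ centralizer ({a} : Set G) := fun x hx => mem_centralizer_singleton_iff.2 (by
    obtain ⟨g, hg⟩ := W.A_cyclic
    obtain ⟨i, hi⟩ := mem_zpowers_iff.1 (hg ⟨x, hx⟩)
    obtain ⟨j, hj⟩ := mem_zpowers_iff.1 (hg ⟨a, ha⟩)
    have h := congrArg Subtype.val ((Commute.refl g).zpow_zpow i j).eq
    rw [hi, hj] at h
    exact h)
  by_cases hz : W.z * a * W.z⁻¹ = a
  · rcases W.cent_fixed a ha ha1 hz with h | ⟨f, hf, hker⟩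
    · -- the centraliser is `A ⊔ ⟨t, v, z⟩`
      set V := zpowers H.t ⊔ zpowers W.v with hV
      have hvt : W.v ∈ normalizer (zpowers H.t : Set G) := mem_normalizer_fintype fun x hx => by
        obtain ⟨i, rfl⟩ := mem_zpowers_iff.1 hx
        rw [(W.tv.symm.zpow_right i).eq, mul_inv_cancel_right]
        exact zpow_mem (mem_zpowers _) i
      have hV2 : IsPGroup 2 V := by
        rw [hV, sup_comm]
        exact (IsPGroup.of_card (G := zpowers W.v) (n := 1)
          (by rw [Nat.card_zpowers, W.v_two, pow_one])).to_sup_of_normal_right'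
          (IsPGroup.of_card (G := zpowers H.t) (n := 1) (by rw [Nat.card_zpowers, H.ht, pow_one]))
          (zpowers_le.2 hvt)
      obtain ⟨k, hk⟩ := IsPGroup.iff_card.1 hV2
      have htV : H.t ∈ V := mem_sup_left (mem_zpowers _)
      have hvV : W.v ∈ V := mem_sup_right (mem_zpowers _)
      have hzV : W.z ∈ normalizer (V : Set G) := by
        refine mem_normalizer_fintype fun x hx => ?_
        have hle : V ≤ V.comap (MulAut.conj W.z).toMonoidHom := by
          refine sup_le (zpowers_le.2 ?_) (zpowers_le.2 ?_)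
          · show W.z * H.t * W.z⁻¹ ∈ V
            rw [W.z_t]; exact hvV
          · show W.z * W.v * W.z⁻¹ ∈ V
            rw [W.z_v]; exact mul_mem htV hvV
        exact hle hx
      have hcopK : (Nat.card V).Coprime (Nat.card (zpowers W.z)) := by
        rw [hk, Nat.card_zpowers, W.z_three]
        exact Nat.Coprime.pow_left k (by norm_num)
      have hK : Nat.card (V ⊔ zpowers W.z : Subgroup G) = 2 ^ k * 3 := by
        rw [Coprime.card_sup_of_coprime (zpowers_le.2 hzV) hcopK, hk, Nat.card_zpowers, W.z_three]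
      have hcl : closure ({H.t, W.v, W.z} : Set G) = V ⊔ zpowers W.z := by
        refine le_antisymm ((closure_le _).2 ?_) (sup_le (sup_le (zpowers_le.2 ?_) (zpowers_le.2 ?_))
          (zpowers_le.2 ?_))
        · rintro x (rfl | rfl | rfl)
          · exact mem_sup_left htV
          · exact mem_sup_left hvV
          · exact mem_sup_right (mem_zpowers _)
        all_goals exact subset_closure (by simp)
      have hKN : closure ({H.t, W.v, W.z} : Set G) ≤ normalizer (W.A : Set G) := by
        refine (closure_le _).2 ?_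
        rintro x (rfl | rfl | rfl)
        · exact mem_normalizer_fintype fun y hy => by
            rwa [← (W.A_t y hy).eq, mul_inv_cancel_right]
        · exact mem_normalizer_fintype fun y hy => by
            rwa [← (W.A_v y hy).eq, mul_inv_cancel_right]
        · exact W.z_A
      rw [hcl] at h hKN
      have hcopA : (Nat.card W.A).Coprime (Nat.card (V ⊔ zpowers W.z : Subgroup G)) := by
        rw [hK]
        exact Nat.Coprime.mul_right (Nat.Coprime.pow_right k W.A_odd.coprime_two_right)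
          (((Nat.Prime.coprime_iff_not_dvd Nat.prime_three).2 h3).symm)
      rw [h, Coprime.card_sup_of_coprime hKN hcopA, hK, ← mul_assoc] at h9
      have h' : 3 ∣ Nat.card W.A * 2 ^ k :=
        Nat.dvd_of_mul_dvd_mul_right (by norm_num : 0 < 3) (show 3 * 3 ∣ Nat.card W.A * 2 ^ k * 3 from h9)
      rcases (Nat.Prime.dvd_mul Nat.prime_three).1 h' with h' | h'
      · exact h3 h'
      · exact absurd ((Nat.prime_dvd_prime_iff_eq Nat.prime_three Nat.prime_two).1
          (Nat.prime_three.dvd_of_dvd_pow h')) (by norm_num)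
    · -- the centraliser is an extension of the torus by `A₅`
      have h1 := f.ker.card_mul_index
      rw [index_ker, MonoidHom.range_eq_top.2 hf, card_top, hker,
        Nat.card_congr (subgroupOfEquivOfLe hAC).toEquiv, nat_card_alternatingGroup, Nat.card_fin,
        show Nat.factorial 5 / 2 = 60 by decide] at h1
      rw [← h1] at h9
      have h' : 3 ∣ Nat.card W.A * 20 :=
        Nat.dvd_of_mul_dvd_mul_right (by norm_num : 0 < 3)
          (show 3 * 3 ∣ Nat.card W.A * 20 * 3 by rwa [mul_assoc])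
      rcases (Nat.Prime.dvd_mul Nat.prime_three).1 h' with h' | h'
      · exact h3 h'
      · norm_num at h'
  · obtain ⟨y, hy⟩ := exists_prime_orderOf_dvd_card' (G := centralizer ({a} : Set G)) 3
      (dvd_trans (by norm_num) h9)
    obtain ⟨b, hb, w, hw, e⟩ := W.cent_free a ha hz y (mem_centralizer_singleton_iff.1 y.2)
    have htt : H.t * H.t = 1 := by rw [← pow_two, ← H.ht, pow_orderOf_eq_one]
    have hvv : W.v * W.v = 1 := by rw [← pow_two, ← W.v_two, pow_orderOf_eq_one]
    obtain ⟨hbw, hw2⟩ : Commute b w ∧ w * w = 1 := by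
      rcases hw with rfl | rfl | rfl | rfl
      · exact ⟨Commute.one_right b, one_mul 1⟩
      · exact ⟨W.A_t b hb, htt⟩
      · exact ⟨W.A_v b hb, hvv⟩
      · refine ⟨(W.A_t b hb).mul_right (W.A_v b hb), ?_⟩
        rw [← pow_two, W.tv.mul_pow, pow_two, pow_two, htt, hvv, one_mul]
    have hy3 : ((y : G)) ^ 3 = 1 := by
      rw [← hy, ← Subgroup.orderOf_coe, pow_orderOf_eq_one]
    have hy4 : (y : G) ∈ W.A := by
      have h4 : (y : G) = ((y : G) ^ 2) ^ 2 := by
        rw [← pow_mul, show 2 * 2 = 3 + 1 from rfl, pow_succ, hy3, one_mul]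
      rw [h4, e, hbw.mul_pow, pow_two w, hw2, mul_one]
      exact pow_mem (pow_mem hb 2) 2
    refine h3 ?_
    rw [← hy, ← Subgroup.orderOf_coe]
    exact W.A.orderOf_dvd_natCard hy4

end Torus

section Config

variable {G : Type u} [Group G] [Finite G] [IsSimpleGroup G] {L : Type v} [Group L] [Finite L] {q : ℕ}
  (c : Cfg G L q) {P : Subgroup G}
include c

omit [IsSimpleGroup G] in
theorem exists_mul_of_mem_sup {A B : Subgroup G} (hAB : B ≤ normalizer (A : Set G)) {g : G}
    (hg : g ∈ A ⊔ B) : ∃ a ∈ A, ∃ b ∈ B, g = a * b := by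
  have h : g ∈ ((A : Set G) * (B : Set G)) := by
    rw [← coe_mul_of_right_le_normalizer_left A B hAB]
    exact hg
  obtain ⟨a, ha, b, hb, rfl⟩ := Set.mem_mul.1 h
  exact ⟨a, ha, b, hb, rfl⟩

namespace Cfg

variable (hP : IsP c P)
include hP

/-- Elements of `D` outside `⟨t⟩` act without fixed points on `P`. -/
theorem D_fpf {e : Multiplicative (ZMod 2)} {l : L} (hl : l ∈ c.LN.H) (hl1 : l ≠ 1) {y : G} (hy : y ∈ P)
    (h : y * c.E (e, l) = c.E (e, l) * y) : y = 1 := by
  by_contra hy1
  haveI : Fact (Nat.Prime 3) := ⟨Nat.prime_three⟩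
  have hl2 : l * l ≠ 1 := fun e2 => hl1 (orderOf_eq_one_iff.1 (Nat.eq_one_of_dvd_coprimes
    ((c.H_odd.of_dvd_nat (c.LN.H.orderOf_dvd_natCard hl)).coprime_two_right) dvd_rfl
    (orderOf_dvd_of_pow_eq_one (by rwa [pow_two]))))
  obtain ⟨j, hj⟩ := IsPGroup.iff_orderOf.1 hP.pgroup ⟨y, hy⟩
  rw [← Subgroup.orderOf_coe] at hj
  simp only at hj
  have hj0 : j ≠ 0 := fun e0 => hy1 (orderOf_eq_one_iff.1 (by rw [hj, e0, pow_zero]))
  obtain ⟨i, rfl⟩ : ∃ i, j = i + 1 := ⟨j - 1, by omega⟩
  have hy3 : orderOf (y ^ 3 ^ i) = 3 := by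
    rw [orderOf_pow_of_dvd (by positivity) (hj ▸ pow_dvd_pow 3 (Nat.le_succ i)), hj, pow_succ,
      Nat.mul_div_cancel_left 3 (by positivity)]
  refine c.H_no_commute (mul_mem hl hl) hl2 (y := y ^ 3 ^ i) ?_ (by rw [hy3]; exact Nat.prime_three)
    (Or.inl hy3)
  have h2 : c.ofL (l * l) = c.E (e, l) * c.E (e, l) := by
    rw [c.ofL_apply, ← map_mul, Prod.mk_mul_mk, z2_sq]
  rw [h2]
  exact ((show Commute y (c.E (e, l)) from h).mul_right (show Commute y (c.E (e, l)) from h)).pow_left _

/-- An element of `P₂` fixed by `t` is trivial. -/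
theorem P2_fixed {z : G} (hz : z ∈ c.P2 hP) (h : c.t * z = z * c.t) : z = 1 := by
  have h1 : z = z⁻¹ := by
    refine Eq.trans ?_ hz.2
    rw [h, mul_inv_cancel_right]
  have h2 : orderOf z ∣ 2 := orderOf_dvd_of_pow_eq_one (by rw [pow_two, ← eq_inv_iff_mul_eq_one]; exact h1)
  exact orderOf_eq_one_iff.1 (Nat.eq_one_of_dvd_coprimes
    (((c.P_odd hP).of_dvd_nat (P.orderOf_dvd_natCard hz.1)).coprime_two_right) dvd_rfl h2)

theorem hyp : ReeExc.Hyp P (c.P2 hP) q where
  comm a b := Subtype.ext (c.P_comm hP a.2 b.2)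
  le := c.P2_le hP
  ti _ hy hy1 _ hx := c.ti hP hy hy1 hx
  inv n hn z hz := by
    rw [(c.normalizer_eq hP).1] at hn
    obtain ⟨p, hp, d, hd, rfl⟩ := exists_mul_of_mem_sup c hP.norm hn
    have h1 := c.D_norm_P2 hP hd hz
    rw [show p * d * z * (p * d)⁻¹ = p * (d * z * d⁻¹) * p⁻¹ by group, c.P_comm hP hp h1.1,
      mul_inv_cancel_right]
    exact h1
  cent z hz hz1 g hg := by
    have hgz : g⁻¹ * z * g = z := by
      rw [mul_assoc, ← mem_centralizer_singleton_iff.1 hg, inv_mul_cancel_left]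
    have hgN := c.ti hP hz.1 hz1 (x := g) (by rw [hgz]; exact hz.1)
    rw [(c.normalizer_eq hP).1] at hgN
    obtain ⟨p, hp, d, hd, rfl⟩ := exists_mul_of_mem_sup c hP.norm hgN
    have hdz : d * z = z * d := by
      refine mul_left_cancel (a := p) ?_
      rw [← mul_assoc, mem_centralizer_singleton_iff.1 hg, ← mul_assoc, c.P_comm hP hz.1 hp,
        mul_assoc]
    obtain ⟨e, l, hl, rfl⟩ := c.mem_D.1 hd
    by_cases hl1 : l = 1
    · subst hl1
      rcases z2_cases e with rfl | rfl
      · rw [show ((1, 1) : Multiplicative (ZMod 2) × L) = 1 from rfl, map_one, mul_one]; exact hp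
      · exact absurd (c.P2_fixed hP hz (by have h := hdz; simp only [Cfg.E, c.emb_t] at h; exact h)) hz1
    · exact absurd (c.D_fpf hP hl hl1 hz.1 hdz.symm) hz1
  big := c.q_big
  cardQ := c.card_P2 hP
  cardP := hP.card
  index := by
    have h := relIndex_mul_relIndex (⊥ : Subgroup G) P (normalizer (P : Set G)) bot_le le_normalizer
    rw [relIndex_bot_left, relIndex_bot_left] at h
    rw [(c.normalizer_eq hP).2, hP.card] at h
    exact Nat.eq_of_mul_eq_mul_left (pow_pos (by have := c.q_big; omega) 3) h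
  cardG := by
    rw [c.card_G]
    exact Nat.mul_le_mul_left _ (Nat.sub_le _ _)
  free n φ hφ hfix := by
    obtain ⟨z, hz, hne⟩ := hφ
    have hnN : (n : G) ∈ P ⊔ c.D := (c.normalizer_eq hP).1 ▸ n.2
    obtain ⟨p, hp, d, hd, hn⟩ := exists_mul_of_mem_sup c hP.norm hnN
    have hdd : ∀ y : P, d⁻¹ * (y : G) * d ∈ P := fun y => by
      have h := (mem_normalizer_iff.1 (hP.norm (inv_mem hd)) y).1 y.2
      rwa [inv_inv] at h
    have key : ∀ y : P, φ ⟨d⁻¹ * (y : G) * d, hdd y⟩ = φ y := by
      intro y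
      refine Eq.trans ?_ (DFunLike.congr_fun hfix y)
      simp only [SmallSimple.Exceptional.conjDual, MonoidHom.comp_apply]
      refine congrArg φ (Subtype.ext ?_)
      show d⁻¹ * (y : G) * d = (n : G)⁻¹ * y * n
      rw [hn, mul_inv_rev, mul_assoc d⁻¹ p⁻¹, c.P_comm hP (inv_mem hp) y.2]
      group
    obtain ⟨e, l, hl, rfl⟩ := c.mem_D.1 hd
    by_cases hl1 : l = 1
    · subst hl1
      rcases z2_cases e with rfl | rfl
      · rw [hn, show ((1, 1) : Multiplicative (ZMod 2) × L) = 1 from rfl, map_one, mul_one]; exact hp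
      · exfalso
        have hm : (⟨(c.E (Multiplicative.ofAdd 1, 1))⁻¹ * (z : G) * c.E (Multiplicative.ofAdd 1, 1),
            hdd z⟩ : P) = z⁻¹ := by
          refine Subtype.ext ?_
          show (c.S.emb _)⁻¹ * (z : G) * c.S.emb _ = ((z : G))⁻¹
          rw [c.emb_t, ← hz.2]
          show c.t⁻¹ * (z : G) * c.t = c.t * z * c.t⁻¹
          rw [c.t_inv]
        have h2 : φ z * φ z = 1 := by
          have := key z
          rw [hm, map_inv] at this
          exact eq_inv_iff_mul_eq_one.1 this.symm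
        have h3 : φ z ^ Nat.card P = 1 := by rw [← map_pow, pow_card_eq_one', map_one]
        exact hne (orderOf_eq_one_iff.1 (Nat.eq_one_of_dvd_coprimes (Nat.coprime_two_left.2 (c.P_odd hP))
          (orderOf_dvd_of_pow_eq_one (by rw [pow_two]; exact h2)) (orderOf_dvd_of_pow_eq_one h3)))
    · exfalso
      set d := c.E (e, l) with hde
      let f : P → P := fun y => y⁻¹ * ⟨d⁻¹ * (y : G) * d, hdd y⟩
      have hf : Function.Injective f := by
        intro a b hab
        have hab' : (a : G)⁻¹ * (d⁻¹ * a * d) = (b : G)⁻¹ * (d⁻¹ * b * d) := congrArg Subtype.val hab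
        have hc : d⁻¹ * ((a : G) * (b : G)⁻¹) * d = (a : G) * (b : G)⁻¹ := by
          calc d⁻¹ * ((a : G) * (b : G)⁻¹) * d
              = a * ((a : G)⁻¹ * (d⁻¹ * a * d)) * ((b : G)⁻¹ * (d⁻¹ * b * d))⁻¹ * (b : G)⁻¹ := by group
            _ = (a : G) * (b : G)⁻¹ := by rw [hab', mul_inv_cancel_right]
        have h1 := c.D_fpf hP hl hl1 (y := (a : G) * (b : G)⁻¹) (mul_mem a.2 (inv_mem b.2)) (by
          calc (a : G) * (b : G)⁻¹ * d = d * (d⁻¹ * ((a : G) * (b : G)⁻¹) * d) := by group
            _ = d * ((a : G) * (b : G)⁻¹) := by rw [hc])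
        exact Subtype.ext (mul_inv_eq_one.1 h1)
      obtain ⟨y, hy⟩ := Finite.injective_iff_surjective.1 hf z
      refine hne ?_
      rw [← hy]
      simp only [f, map_mul, map_inv]
      exact inv_mul_eq_one.2 (key y).symm

end Cfg

/-- The configuration does not exist. -/
theorem cfg_false : False := by
  haveI := Fintype.ofFinite G
  obtain ⟨P, hP⟩ := c.exists_P
  exact ReeExc.false_of_hyp (c.hyp hP)

end Config

end Ree

/-- There is no simple group with abelian Sylow 2- and 3-subgroups, an involution centraliser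
`C₂ × PSL₂(q)` and the order of a small Ree group. -/
theorem ree_abelian_false {G : Type*} [Group G] [Finite G] [IsSimpleGroup G]
    (hab : ∀ P : Sylow 2 G, ∀ a b : P, a * b = b * a)
    (hab3 : ∀ P : Sylow 3 G, ∀ a b : P, a * b = b * a)
    {F : Type*} [Field F] [Fintype F] {m : ℕ} (hm : 1 ≤ m) (hF : Fintype.card F = 3 ^ (2 * m + 1))
    (t : G) (ht : orderOf t = 2)
    (hC : Nonempty (Subgroup.centralizer ({t} : Set G) ≃*
      Multiplicative (ZMod 2) × Matrix.ProjectiveSpecialLinearGroup (Fin 2) F))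
    (hG : Nat.card G = (3 ^ (2 * m + 1)) ^ 3 * ((3 ^ (2 * m + 1)) ^ 3 + 1) * (3 ^ (2 * m + 1) - 1)) :
    False := by
  classical
  haveI := Fintype.ofFinite (Matrix.ProjectiveSpecialLinearGroup (Fin 2) F)
  obtain ⟨e⟩ := hC
  have h8 : 3 ^ (2 * m + 1) % 8 = 3 := by
    rw [pow_succ, pow_mul, Nat.mul_mod, Nat.pow_mod]
    norm_num
  have h27 : 27 ≤ 3 ^ (2 * m + 1) :=
    le_trans (by norm_num) (Nat.pow_le_pow_right (by norm_num) (show 3 ≤ 2 * m + 1 by omega))
  have h3q : 3 ∣ 3 ^ (2 * m + 1) := dvd_pow_self 3 (by omega)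
  have h3F : (3 : F) = 0 := by
    have h := FiniteField.cast_card_eq_zero F
    rw [hF, Nat.cast_pow] at h
    exact_mod_cast (pow_eq_zero_iff (by omega)).1 h
  rw [← hF] at hG h8 h27 h3q
  have hodd : Odd (Fintype.card F) := Nat.odd_iff.2 (by omega)
  obtain ⟨hmod, hL, hT⟩ := JT.Setup.local_facts hab hodd (by omega) ⟨t, ht, e⟩
  obtain ⟨D, hD⟩ := JT.exists_kdata (F := F) hodd (by omega) hmod
  have habs : D.Q.natAbs = Fintype.card F := by rw [hD]; split_ifs <;> simp
  obtain ⟨W⟩ := hT D habs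
  obtain ⟨LN⟩ := Ree.exists_line (F := F) (by omega) (by omega) h3F
  have hQ : (D.Q - 1).natAbs = Fintype.card F + 1 := by
    have := D.Q_mod
    omega
  have hA : Nat.card W.A = (Fintype.card F + 1) / 4 := by
    have := W.A_card
    omega
  refine Ree.cfg_false (L := Matrix.ProjectiveSpecialLinearGroup (Fin 2) F) (q := Fintype.card F)
    ⟨⟨t, ht, e⟩, LN, 2 * m + 1, hF, h8, h27, hab, hab3, hG, hL.emb_t, hL.fused, ?_⟩
  intro b hb hbd
  obtain ⟨k, hk, hpk⟩ := Ree.nonsplit_part h8 h3q hb hbd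
  obtain ⟨g, hg⟩ := Ree.exists_conj_mem_of_part hb (A := W.A) (b := b) (k := 1)
    (by rw [hG, hA, hk]) hpk (pow_one _).symm
  have h3A : ¬ 3 ∣ Nat.card W.A := by
    rw [hA]
    omega
  have h1 : g * b * g⁻¹ ≠ 1 := fun e1 => hb.ne_one (by rw [← Ree.orderOf_conj' g b, e1, orderOf_one])
  have hmap : (centralizer ({b} : Set G)).map (MulAut.conj g).toMonoidHom =
      centralizer ({g * b * g⁻¹} : Set G) := by
    ext x
    rw [mem_centralizer_singleton_iff]
    constructor
    · rintro ⟨y, hy, rfl⟩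
      show g * y * g⁻¹ * (g * b * g⁻¹) = g * b * g⁻¹ * (g * y * g⁻¹)
      calc g * y * g⁻¹ * (g * b * g⁻¹) = g * (y * b) * g⁻¹ := by group
        _ = g * (b * y) * g⁻¹ := by rw [mem_centralizer_singleton_iff.1 hy]
        _ = g * b * g⁻¹ * (g * y * g⁻¹) := by group
    · intro hx
      refine ⟨g⁻¹ * x * g, mem_centralizer_singleton_iff.2 ?_, by
        show g * (g⁻¹ * x * g) * g⁻¹ = x
        group⟩
      calc g⁻¹ * x * g * b = g⁻¹ * (x * (g * b * g⁻¹)) * g := by group
        _ = g⁻¹ * (g * b * g⁻¹ * x) * g := by rw [hx]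
        _ = b * (g⁻¹ * x * g) := by group
  rw [← card_map_of_injective (f := (MulAut.conj g).toMonoidHom) (MulAut.conj g).injective, hmap]
  exact Ree.torus_not_nine W h3A hg h1

/-- Abelian Sylow 2- and 3-subgroups and an involution centraliser `C₂ × PSL₂(q)` give the group `J₁`. -/
theorem isJ1_of_abelian_sylow_two_three {G : Type*} [Group G] [Finite G] [IsSimpleGroup G]
    (hab : ∀ P : Sylow 2 G, ∀ a b : P, a * b = b * a)
    (hab3 : ∀ P : Sylow 3 G, ∀ a b : P, a * b = b * a)
    {F : Type*} [Field F] [Fintype F] (hq : 3 ≤ Fintype.card F) (t : G) (ht : orderOf t = 2)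
    (hC : Nonempty (Subgroup.centralizer ({t} : Set G) ≃*
      Multiplicative (ZMod 2) × Matrix.ProjectiveSpecialLinearGroup (Fin 2) F)) :
    Cfsg.IsJ1 G := by
  rcases Cfsg.Agent.S0343.result hab hq t ht hC with ⟨m, hm, hF, hG⟩ | ⟨-, h⟩
  · exact (ree_abelian_false hab hab3 hm hF t ht hC hG).elim
  · exact h

end Cfsg.Agent.Walter
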