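import Cfsg.Agent.Lib.JT.Main
import Cfsg.Agent.Lib.JT.Small
import Cfsg.Agent.Lib.JT.CaseFiveMain
import Cfsg.Agent.BlockCharsA.DefectZeroVanish
import Cfsg.Agent.Lib.Characters.Basic

/-!
# The Steinberg character of a simple group with involution centraliser `C₂ × PSL₂(q)`

For shape A of the exceptional functions the third one has constituents of degrees `1`, `q² - q + 1`,
`q³`, `q(q² - q + 1)` and vanishes at the elements of odd order: the one of degree `q³` takes the value
`-1` at the elements of prime order dividing `q² - q + 1`, which therefore commute with no element of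
order three.
-/

set_option autoImplicit false
set_option linter.unusedSectionVars false
set_option linter.style.haveILetI false

namespace Cfsg.Agent.Walter

open Cfsg.Agent.Characters
open Cfsg.Agent.JT
open Cfsg.Agent.JT.Lattice
open scoped ComplexConjugate

universe u v

/-- The arithmetic of a prime divisor of `q² - q + 1`. -/
theorem ree_prime {q r : ℕ} (hq : 3 ∣ q) (hr : r.Prime) (hd : r ∣ q * q - q + 1) :
    ¬ r ∣ q * (q + 1) * (q - 1) ∧ r ≠ 3 := by
  have h1 : q ≤ q * q := Nat.le_mul_self q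
  have hrq : ¬ r ∣ q := fun h => by
    refine hr.not_dvd_one ((Nat.dvd_add_right ?_).1 hd)
    rw [← Nat.mul_sub_one]
    exact dvd_mul_of_dvd_left h _
  have hr3 : r ≠ 3 := fun e => hrq (e ▸ hq)
  refine ⟨fun h => ?_, hr3⟩
  have hz : (r : ℤ) ∣ (q : ℤ) ^ 2 - q + 1 := by
    have := Int.natCast_dvd_natCast.2 hd
    push_cast [Nat.cast_sub h1] at this
    convert this using 1
    ring
  rcases hr.dvd_mul.1 h with h' | h'
  · rcases hr.dvd_mul.1 h' with h'' | h''
    · exact hrq h''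
    · have h2 : (r : ℤ) ∣ (q : ℤ) + 1 := by exact_mod_cast Int.natCast_dvd_natCast.2 h''
      have h3 : (r : ℤ) ∣ ((3 : ℕ) : ℤ) := by
        have := dvd_sub hz (dvd_mul_of_dvd_left h2 ((q : ℤ) - 2))
        rwa [show (q : ℤ) ^ 2 - q + 1 - ((q : ℤ) + 1) * ((q : ℤ) - 2) = ((3 : ℕ) : ℤ) by
          push_cast; ring] at this
      exact hr3 ((Nat.prime_dvd_prime_iff_eq hr Nat.prime_three).1 (Int.natCast_dvd_natCast.1 h3))
  · rcases Nat.eq_zero_or_pos q with rfl | hq0
    · simp at hd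
      exact hr.one_lt.ne' hd
    · have h2 : (r : ℤ) ∣ (q : ℤ) - 1 := by
        have := Int.natCast_dvd_natCast.2 h'
        push_cast [Nat.cast_sub hq0] at this
        exact this
      have h3 : (r : ℤ) ∣ ((1 : ℕ) : ℤ) := by
        have := dvd_sub hz (dvd_mul_of_dvd_left h2 (q : ℤ))
        rwa [show (q : ℤ) ^ 2 - q + 1 - ((q : ℤ) - 1) * (q : ℤ) = ((1 : ℕ) : ℤ) by
          push_cast; ring] at this
      exact hr.not_dvd_one (Int.natCast_dvd_natCast.1 h3)

/-- The character of degree `q³`. -/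
theorem exists_steinberg {G : Type u} [Group G] [Finite G] [IsSimpleGroup G]
    (hab : ∀ P : Sylow 2 G, ∀ a b : P, a * b = b * a) {F : Type v} [Field F] [Fintype F]
    (hodd : Odd (Fintype.card F)) (h5 : 5 < Fintype.card F) (t : G) (ht : orderOf t = 2)
    (hC : Nonempty (Subgroup.centralizer ({t} : Set G) ≃*
      Multiplicative (ZMod 2) × Matrix.ProjectiveSpecialLinearGroup (Fin 2) F)) :
    ∃ m : ℕ, 1 ≤ m ∧ Fintype.card F = 3 ^ (2 * m + 1) ∧
      Nat.card G = (Fintype.card F) ^ 3 * ((Fintype.card F) ^ 3 + 1) * (Fintype.card F - 1) ∧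
      ∃ χ : Cfsg.IrrCharacter G, (χ : G → ℂ) 1 = ((Fintype.card F : ℕ) : ℂ) ^ 3 ∧
        ∀ x : G, (orderOf x).Prime →
          orderOf x ∣ Fintype.card F * Fintype.card F - Fintype.card F + 1 → (χ : G → ℂ) x = -1 := by
  classical
  obtain ⟨iso⟩ := hC
  haveI := Fintype.ofFinite G
  haveI := Fintype.ofFinite (Cfsg.IrrCharacter G)
  haveI := Fintype.ofFinite (Matrix.ProjectiveSpecialLinearGroup (Fin 2) F)
  set H : Setup G (Matrix.ProjectiveSpecialLinearGroup (Fin 2) F) := ⟨t, ht, iso⟩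
  obtain ⟨hmod, hL, hT⟩ := Setup.local_facts hab hodd (by omega) H
  obtain ⟨D, hD⟩ := exists_kdata (F := F) hodd h5 hmod
  have habs : D.Q.natAbs = Fintype.card F := by rw [hD]; split_ifs <;> simp
  obtain ⟨W⟩ := hT D habs
  have hN : W.NoFive := by
    by_contra hN
    obtain ⟨hz, F', hF⟩ := Setup.Torus.five_exists W hL hN
    exact Setup.Torus.five_case hL hN hz hF
  obtain ⟨e, ⟨f, S⟩ | ⟨f, S⟩⟩ := H.exists_shape D hL
  swap
  · exact (Setup.final_B W hL hN S).elim
  obtain ⟨f, S, hA⟩ := H.alignA D hL S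
  obtain ⟨m, hm, hQ, hg, hR, hD'⟩ := Setup.final_A W hL hN S hA
  set q := Fintype.card F with hqdef
  have hq : q = 3 ^ (2 * m + 1) := by rw [← habs, hQ, Int.natAbs_neg, Int.natAbs_pow]; rfl
  have hQq : D.Q = -(q : ℤ) := by rw [hQ, hq]; push_cast; rfl
  have hG : Nat.card G = q ^ 3 * (q ^ 3 + 1) * (q - 1) := hq ▸ Setup.card_ree hQ hg
  refine ⟨m, hm, hq, hG, ?_⟩
  have h3q : 3 ∣ q := hq ▸ dvd_pow_self 3 (by omega)
  have hqq : q ≤ q * q := Nat.le_mul_self q
  set N₃ := q * q - q + 1 with hN₃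
  have hN₃z : (N₃ : ℤ) = (q : ℤ) ^ 2 - q + 1 := by
    rw [hN₃]; push_cast [Nat.cast_sub hqq]; ring
  -- the degrees
  have d2 := H.dd_sum D hL S 2
  simp [Fin.sum_univ_seven, tableA] at d2
  rw [hQq] at hR hD'
  have hR' : H.dd f e 0 = -(N₃ : ℤ) := by rw [hR, hN₃z]; ring
  obtain ⟨i, j, hij, hi, hj⟩ : ∃ i j : Fin 7, ((i = 5 ∧ j = 6) ∨ (i = 6 ∧ j = 5)) ∧
      H.dd f e i = -((q * N₃ : ℕ) : ℤ) ∧ H.dd f e j = ((q ^ 3 : ℕ) : ℤ) := by
    rcases hD' with h | h
    · refine ⟨5, 6, Or.inl ⟨rfl, rfl⟩, by rw [h, hR']; push_cast; ring, ?_⟩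
      rw [h, hR'] at d2
      push_cast
      rw [hN₃z] at d2
      linarith
    · refine ⟨6, 5, Or.inr ⟨rfl, rfl⟩, by rw [h, hR']; push_cast; ring, ?_⟩
      rw [h, hR'] at d2
      push_cast
      rw [hN₃z] at d2
      linarith
  have hdeg : ∀ k : Fin 7, deg (f k) = (H.dd f e k).natAbs := fun k => by
    rw [Setup.dd]
    rcases S.unit (f k) with h | h <;> simp [h]
  have hsign : e (f j) = 1 := by
    rcases S.unit (f j) with h | h
    · exact h
    · exfalso
      rw [Setup.dd, h] at hj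
      have := (deg_spec (f j)).2.1
      have h0 : (0 : ℤ) ≤ ((q ^ 3 : ℕ) : ℤ) := Int.natCast_nonneg _
      omega
  refine ⟨f j, ?_, fun x hxp hxd => ?_⟩
  · rw [(deg_spec (f j)).1, hdeg j, hj, Int.natAbs_natCast]
    push_cast
    rfl
  obtain ⟨hnd, -⟩ := ree_prime h3q hxp hxd
  have hodd_x : Odd (orderOf x) := hxp.odd_of_ne_two fun e2 => hnd (by
    rw [e2]
    exact dvd_mul_of_dvd_left (dvd_mul_of_dvd_right (even_iff_two_dvd.1 (hodd.add_one)) _) _)
  -- the function vanishes at `x`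
  have hzero : H.ind (D.θ 2) x = 0 := by
    refine ZStar.Induce.indFun_eq_zero (D := {y : G | Even (orderOf y)}) (fun k hk => ?_) x fun c hc => ?_
    · simp only [Setup.lift]
      split_ifs with h
      · rfl
      · exfalso
        refine hk (show Even (orderOf (k : G)) from ?_)
        have h1 : orderOf (H.e k).1 ∣ orderOf (k : G) := by
          rw [Subgroup.orderOf_coe]
          exact (orderOf_map_dvd ((MonoidHom.fst _ _).comp H.e.toMonoidHom) k)
        rw [orderOf_eq_prime (p := 2) (by rw [sq]; exact Setup.z2_sq _) h] at h1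
        exact even_iff_two_dvd.2 h1
    · have h2 : orderOf (c⁻¹ * x * c) = orderOf x := by
        rw [show c⁻¹ * x * c = MulAut.conj c⁻¹ x by simp]
        exact MulEquiv.orderOf_eq _ _
      exact Nat.not_even_iff_odd.2 (h2 ▸ hodd_x) hc
  have hsum := value_sum (H.isGen_ind (D.θ_gen 2)) x
  rw [hzero] at hsum
  have hexp := S.expand (H.m D 2) (M := ℂ) fun χ => (χ : G → ℂ) x
  rw [S.one, trivIrr_coe, Finset.sum_eq_zero (s := outside (trivIrr G) f) fun y hy => by
    rw [S.zero 2 y (mem_outside.1 hy).1 (mem_outside.1 hy).2, Int.cast_zero, zero_mul]] at hexp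
  simp only [S.val] at hexp
  simp only [Setup.m] at hsum hexp
  rw [← hsum] at hexp
  simp [Fin.sum_univ_seven, tableA] at hexp
  -- the other two vanish
  have hfac : ∀ k : Fin 7, N₃ ∣ deg (f k) → (f k : G → ℂ) x = 0 := fun k hk => by
    refine BlockCharsA.DefectZeroVanish.eq_zero_of_singular hxp (f k) ?_ dvd_rfl
    have hd : Cfsg.charDegree (f k : G → ℂ) = deg (f k) := by
      apply Nat.cast_injective (R := ℂ)
      rw [Blocks.charDegree_cast, (deg_spec (f k)).1]
    rw [hd]
    refine dvd_trans ?_ hk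
    have hfactor : Nat.card G = q ^ 3 * ((q + 1) * (q - 1)) * N₃ := by
      rw [hG, show q ^ 3 + 1 = (q + 1) * N₃ by zify [hqq]; rw [hN₃z]; ring]
      ring
    refine Nat.Coprime.dvd_of_dvd_mul_left ?_ (show _ ∣ q ^ 3 * ((q + 1) * (q - 1)) * N₃ from
      (Nat.ordProj_dvd (Nat.card G) (orderOf x)).trans (dvd_of_eq hfactor))
    refine Nat.Coprime.pow_left _ (hxp.coprime_iff_not_dvd.2 fun h => hnd ?_)
    rcases hxp.dvd_mul.1 h with h' | h'
    · exact dvd_mul_of_dvd_left (dvd_mul_of_dvd_left (hxp.dvd_of_dvd_pow h') _) _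
    · rw [mul_assoc]
      exact dvd_mul_of_dvd_right h' _
  have h0 := hfac 0 (by rw [hdeg, hR', Int.natAbs_neg, Int.natAbs_natCast])
  have hi0 := hfac i (by rw [hdeg, hi, Int.natAbs_neg, Int.natAbs_natCast]; exact dvd_mul_left _ _)
  rcases hij with ⟨rfl, rfl⟩ | ⟨rfl, rfl⟩ <;>
    · rw [hsign, h0, hi0] at hexp
      simp at hexp
      linear_combination -hexp

/-- An element of prime order dividing `q² - q + 1` commutes with no element of order three. -/
theorem ree_not_commute {G : Type u} [Group G] [Finite G] [IsSimpleGroup G]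
    (hab : ∀ P : Sylow 2 G, ∀ a b : P, a * b = b * a) {F : Type v} [Field F] [Fintype F]
    (hodd : Odd (Fintype.card F)) (h5 : 5 < Fintype.card F) (t : G) (ht : orderOf t = 2)
    (hC : Nonempty (Subgroup.centralizer ({t} : Set G) ≃*
      Multiplicative (ZMod 2) × Matrix.ProjectiveSpecialLinearGroup (Fin 2) F))
    {x y : G} (hx : (orderOf x).Prime)
    (hxd : orderOf x ∣ Fintype.card F * Fintype.card F - Fintype.card F + 1)
    (hy : orderOf y = 3) (hc : Commute x y) : False := by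
  classical
  obtain ⟨m, hm, hq, hG, χ, hχ1, hχ⟩ := exists_steinberg hab hodd h5 t ht hC
  set q := Fintype.card F with hqdef
  set r := orderOf x with hr
  obtain ⟨hnd, hr3⟩ := ree_prime (hq ▸ dvd_pow_self 3 (by omega)) hx hxd
  have hcop : r.Coprime 3 := (Nat.coprime_primes hx Nat.prime_three).2 hr3
  set g := x * y with hg
  have hog : orderOf g = r * 3 := by rw [hg, hc.orderOf_mul_eq_mul_orderOf_of_coprime (hy ▸ hcop), hy]
  set C := Subgroup.zpowers g with hCdef
  have hxC : x ∈ C := by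
    obtain ⟨k, hk⟩ := exists_pow_eq_self_of_coprime (x := x) hcop.symm
    refine hk ▸ pow_mem ?_ k
    rw [show x ^ 3 = g ^ 3 by rw [hg, hc.mul_pow, ← hy, pow_orderOf_eq_one, mul_one]]
    exact pow_mem (Subgroup.mem_zpowers g) 3
  haveI := Fintype.ofFinite G
  haveI : IsCyclic ↥C := Subgroup.isCyclic_zpowers g
  letI := IsCyclic.commGroup (α := ↥C)
  set xc : ↥C := ⟨x, hxC⟩
  have hxc : orderOf xc = r := by rw [← Subgroup.orderOf_coe]
  -- a linear character trivial on the elements of order three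
  have hx3 : xc ^ 3 ≠ 1 := fun e => hr3 ((Nat.prime_dvd_prime_iff_eq hx Nat.prime_three).1
    (hxc ▸ orderOf_dvd_of_pow_eq_one e))
  obtain ⟨φ, hφ⟩ := CommGroup.exists_apply_ne_one_of_hasEnoughRootsOfUnity ↥C ℂ hx3
  set lam : ↥C →* ℂˣ := (powMonoidHom 3).comp φ with hlam
  set ω : ℂ := conj ((lam xc : ℂˣ) : ℂ) with hω
  have hω1 : ω ≠ 1 := fun e => hφ (Units.ext (by
    have h2 := congrArg (starRingEnd ℂ) e
    rw [hω, Complex.conj_conj, map_one] at h2
    simpa [hlam, map_pow] using h2))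
  have hωr : ω ^ r = 1 := by
    rw [hω, ← map_pow, ← Units.val_pow_eq_pow_val, ← map_pow, ← hxc, pow_orderOf_eq_one]
    simp
  have hgeom : ∑ i ∈ Finset.range r, ω ^ i = 0 := by
    rw [geom_sum_eq hω1, hωr, sub_self, zero_div]
  have hcard : Nat.card ↥C = r * 3 := by rw [Nat.card_zpowers, hog]
  obtain ⟨n, hn⟩ := classInner_char_nat (isCharacter_restrict C (irr_isCharacter χ))
    (isCharacter_linear lam)
  rw [classInner_def, hcard] at hn
  have hterm : ∑ c : ↥C, (χ : G → ℂ) (c : G) * conj ((lam c : ℂˣ) : ℂ) =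
      ∑ i ∈ Finset.range r, (χ : G → ℂ) (x ^ i) * ω ^ i := by
    have himg : ∀ c ∈ (Finset.univ : Finset ↥C), c ∉ (Finset.range r).image (fun i => xc ^ i) →
        (χ : G → ℂ) (c : G) * conj ((lam c : ℂˣ) : ℂ) = 0 := by
      intro c _ hcn
      rw [BlockCharsA.DefectZeroVanish.eq_zero_of_singular Nat.prime_three χ (g := (c : G)) ?_ ?_, zero_mul]
      · have hd : Cfsg.charDegree (χ : G → ℂ) = q ^ 3 := by
          apply Nat.cast_injective (R := ℂ)
          rw [Blocks.charDegree_cast, hχ1, Nat.cast_pow]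
        rw [hd]
        refine Nat.Coprime.dvd_of_dvd_mul_right (n := (q ^ 3 + 1) * (q - 1)) ?_
          ((Nat.ordProj_dvd (Nat.card G) 3).trans (dvd_of_eq (by rw [← mul_assoc, ← hG])))
        refine Nat.Coprime.pow_left _ (Nat.prime_three.coprime_iff_not_dvd.2 fun h => ?_)
        have h3 : 3 ∣ q := hq ▸ dvd_pow_self 3 (by omega)
        have h33 : 3 ∣ q ^ 3 := dvd_pow h3 (by norm_num)
        rcases Nat.prime_three.dvd_mul.1 h with h' | h' <;> omega
      · by_contra h3
        refine hcn ?_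
        have hdvd : orderOf (c : G) ∣ r := by
          refine Nat.Coprime.dvd_of_dvd_mul_right ((Nat.prime_three.coprime_iff_not_dvd.2 h3).symm) ?_
          rw [← hcard, Subgroup.orderOf_coe]
          exact orderOf_dvd_natCard c
        have : c ∈ Subgroup.zpowers xc := by
          obtain ⟨i, hi⟩ := Subgroup.mem_zpowers_iff.1 c.2
          have h1 : g ^ (i * r) = 1 := by
            rw [zpow_mul, hi, zpow_natCast]
            exact orderOf_dvd_iff_pow_eq_one.1 hdvd
          rw [← orderOf_dvd_iff_zpow_eq_one, hog] at h1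
          push_cast at h1
          rw [mul_comm i] at h1
          obtain ⟨k, rfl⟩ := Int.dvd_of_mul_dvd_mul_left (by exact_mod_cast hx.ne_zero) h1
          refine Subgroup.mem_zpowers_iff.2 ⟨3 * k, Subtype.ext ?_⟩
          show x ^ (3 * k) = (c : G)
          rw [← hi, hg, hc.mul_zpow, zpow_mul y]
          rw [show y ^ (3 : ℤ) = 1 by rw [show (3 : ℤ) = ((3 : ℕ) : ℤ) from rfl, zpow_natCast, ← hy, pow_orderOf_eq_one], one_zpow, mul_one]
        obtain ⟨i, hi, hic⟩ : ∃ i < r, xc ^ i = c := by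
          obtain ⟨i, hi⟩ := (mem_powers_iff_mem_zpowers).2 this
          exact ⟨i % r, Nat.mod_lt _ hx.pos, by rw [← hxc, pow_mod_orderOf]; exact hi⟩
        exact Finset.mem_image.2 ⟨i, Finset.mem_range.2 hi, hic⟩
    rw [← Finset.sum_subset (Finset.subset_univ _) himg, Finset.sum_image]
    · refine Finset.sum_congr rfl fun i _ => ?_
      rw [map_pow, Units.val_pow_eq_pow_val, map_pow]
      rfl
    · intro a ha b hb hab'
      exact pow_injOn_Iio_orderOf (by rw [hxc]; exact Finset.mem_range.1 ha)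
        (by rw [hxc]; exact Finset.mem_range.1 hb) hab'
  have hval : ∀ i ∈ Finset.range r, (χ : G → ℂ) (x ^ i) * ω ^ i =
      (if i = 0 then ((q : ℂ) ^ 3 + 1) else 0) - ω ^ i := by
    intro i hi
    rcases Nat.eq_zero_or_pos i with rfl | hi0
    · simp [hχ1]
    · have ho : orderOf (x ^ i) = r := Nat.Coprime.orderOf_pow
        ((hx.coprime_iff_not_dvd).2 fun h => by
          have := Nat.le_of_dvd hi0 h
          have := Finset.mem_range.1 hi
          omega)
      rw [if_neg hi0.ne', hχ _ (ho.symm ▸ hx) (ho.symm ▸ hxd)]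
      ring
  rw [hterm, Finset.sum_congr rfl hval, Finset.sum_sub_distrib, hgeom, sub_zero,
    Finset.sum_ite_eq' (Finset.range r) 0, if_pos (Finset.mem_range.2 hx.pos)] at hn
  have h3 : 3 ∣ q ^ 3 + 1 := by
    refine ⟨r * n, ?_⟩
    have hr0 : ((r * 3 : ℕ) : ℂ) ≠ 0 := Nat.cast_ne_zero.2 (by have := hx.pos; omega)
    have : (((q ^ 3 + 1 : ℕ)) : ℂ) = ((3 * (r * n) : ℕ) : ℂ) := by
      rw [inv_mul_eq_iff_eq_mul₀ hr0] at hn
      push_cast at hn ⊢
      linear_combination hn
    exact_mod_cast this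
  have h33 : 3 ∣ q ^ 3 := dvd_pow (hq ▸ dvd_pow_self 3 (by omega)) (by norm_num)
  omega

end Cfsg.Agent.Walter
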