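import Cfsg.Agent.Lib.Walter.ReeLocal
import Cfsg.Agent.Lib.Coprime.FixedPointFree

/-!
# The Ree configuration: an abelian Sylow 3-subgroup containing `U` and the centraliser of its part
inverted by `t`
-/

set_option autoImplicit false
set_option linter.unusedSectionVars false
set_option linter.style.haveILetI false

namespace Cfsg.Agent.Walter.Ree.Cfg

open Subgroup

universe u v

variable {G : Type u} [Group G] [Finite G] {L : Type v} [Group L] [Finite L] {q : ℕ} (c : Cfg G L q)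
include c

/-- A three-group centralised elementwise commutes. -/
theorem three_comm {R : Subgroup G} (hR : IsPGroup 3 R) {a b : G} (ha : a ∈ R) (hb : b ∈ R) :
    a * b = b * a := by
  obtain ⟨S, hS⟩ := hR.exists_le_sylow
  exact congrArg Subtype.val (c.hab3 S ⟨a, hS ha⟩ ⟨b, hS hb⟩)

theorem card_sylow (S : Sylow 3 G) : Nat.card S = q ^ 3 := by
  haveI : Fact (Nat.Prime 3) := ⟨Nat.prime_three⟩
  have h3 : ¬ 3 ∣ (q ^ 3 + 1) * (q - 1) := fun hd => by
    have h1 := c.three_q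
    have h8 := c.q_mod
    have h2 : 3 ∣ q ^ 3 := dvd_pow h1 (by norm_num)
    rcases (Nat.Prime.dvd_mul Nat.prime_three).1 hd with hd | hd
    · exact absurd ((Nat.dvd_add_right h2).1 hd) (by norm_num)
    · omega
  have h0 : (q ^ 3 + 1) * (q - 1) ≠ 0 := fun e => h3 (e ▸ dvd_zero 3)
  rw [S.card_eq_multiplicity, c.card_G, mul_assoc, Nat.factorization_mul
    (pow_pos (by have := c.q_big; omega) 3).ne' h0, Finsupp.add_apply,
    Nat.factorization_eq_zero_of_not_dvd h3, add_zero]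
  have e : (q ^ 3).factorization 3 = c.n * 3 := by
    conv_lhs => rw [show q ^ 3 = 3 ^ (c.n * 3) by rw [pow_mul]; exact congrArg (· ^ 3) c.q_eq]
    rw [Nat.factorization_pow, Nat.Prime.factorization Nat.prime_three, Finsupp.smul_single,
      Finsupp.single_eq_same, smul_eq_mul, mul_one]
  rw [e, pow_mul]
  exact (congrArg (· ^ 3) c.q_eq).symm

/-- The properties of the Sylow subgroup. -/
structure IsP (c : Cfg G L q) (P : Subgroup G) : Prop where
  card : Nat.card P = q ^ 3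
  pgroup : IsPGroup 3 P
  U_le : c.U ≤ P
  fixed : ∀ x ∈ P, x * c.t = c.t * x → x ∈ c.U
  norm : c.D ≤ normalizer (P : Set G)

theorem U_isPGroup : IsPGroup 3 c.U := IsPGroup.of_card (n := c.n) (c.card_U.trans c.q_eq)

theorem U_comm_D {d : G} (hd : d ∈ c.D) : ∀ u ∈ c.U, d * u * d⁻¹ ∈ c.U := by
  obtain ⟨e, l, hl, rfl⟩ := c.mem_D.1 hd
  rintro _ ⟨u, hu, rfl⟩
  refine ⟨l * u * l⁻¹, c.LN.H_norm l hl u hu, ?_⟩
  show c.E (1, _) = c.E (e, l) * c.E (1, u) * (c.E (e, l))⁻¹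
  rw [← map_inv, ← map_mul, ← map_mul]
  refine congrArg c.E ?_
  ext <;> simp

theorem D_commute_t {d : G} (hd : d ∈ c.D) : d * c.t = c.t * d := by
  obtain ⟨e, l, -, rfl⟩ := c.mem_D.1 hd
  exact c.E_commute _

theorem exists_P : ∃ P : Subgroup G, IsP c P := by
  haveI : Fact (Nat.Prime 3) := ⟨Nat.prime_three⟩
  set X := centralizer (c.U : Set G) with hXdef
  have htX : c.t ∈ X := by
    rw [hXdef, mem_centralizer_iff]
    rintro _ ⟨u, -, rfl⟩
    exact c.ofL_commute_t u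
  obtain ⟨u, hu, hu1⟩ : ∃ u ∈ c.LN.U, u ≠ 1 := by
    refine (bot_or_exists_ne_one c.LN.U).resolve_left fun e => ?_
    have h := c.LN.U_card
    rw [e, card_bot] at h
    have := c.q_big
    omega
  have hXu : ∀ g ∈ X, g * c.ofL u = c.ofL u * g := fun g hg =>
    (mem_centralizer_iff.1 hg _ (mem_map_of_mem _ hu)).symm
  obtain ⟨N, hNX, -, hNodd, hN⟩ := exists_odd_part c.hab c.S.ht htX (fun g hg hgt ⟨k, hk⟩ => by
    obtain ⟨e, l, hl, rfl⟩ := c.cent_t_U hu hu1 hgt (hXu g hg)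
    exact c.eq_one_or_t c.LU_odd hl hk)
  have hUcomm : ∀ a ∈ c.U, ∀ b ∈ c.U, a * b = b * a := fun a ha b hb => c.three_comm c.U_isPGroup ha hb
  have hUN : c.U ≤ N := fun g hg => (hN g).2 ⟨mem_centralizer_iff.2 fun b hb => hUcomm b hb g hg,
    odd_orderOf_of_mem c.U_odd hg⟩
  have hNt : ∀ g ∈ N, g * c.t = c.t * g → g ∈ c.U := by
    intro g hg hgt
    obtain ⟨l, rfl⟩ := c.exists_ofL hgt ((hN g).1 hg).2
    exact mem_map_of_mem _ ((c.LN.U_cent u hu hu1 l).1 (c.E_commute_ofL (hXu _ (hNX hg))))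
  -- elements of `D` normalise `N`
  have hDN : c.D ≤ normalizer (N : Set G) := by
    have hstep : ∀ d ∈ c.D, ∀ g ∈ N, d * g * d⁻¹ ∈ N := by
      intro d hd g hg
      refine (hN _).2 ⟨?_, by rw [orderOf_conj']; exact ((hN g).1 hg).2⟩
      rw [hXdef, mem_centralizer_iff]
      intro b hb
      have hb' := c.U_comm_D (inv_mem hd) b hb
      rw [inv_inv] at hb'
      have h1 := mem_centralizer_iff.1 (hNX hg) _ hb'
      calc b * (d * g * d⁻¹) = d * (d⁻¹ * b * d * g) * d⁻¹ := by group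
        _ = d * (g * (d⁻¹ * b * d)) * d⁻¹ := by rw [h1]
        _ = d * g * d⁻¹ * b := by group
    intro d hd
    rw [mem_normalizer_iff]
    refine fun g => ⟨hstep d hd g, fun h => ?_⟩
    have h1 := hstep d⁻¹ (inv_mem hd) _ h
    rwa [show d⁻¹ * (d * g * d⁻¹) * d⁻¹⁻¹ = g by group] at h1
  set A := zpowers c.t
  have hA : A ≤ normalizer (N : Set G) := (zpowers_le.2 c.t_mem_D).trans hDN
  have hcop : (Nat.card A).Coprime (Nat.card N) := by
    rw [Nat.card_zpowers, c.S.ht]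
    exact Nat.coprime_two_left.2 hNodd
  have hAsol : Group.IsSolvable A ∨ Group.IsSolvable N := Or.inl (Coprime.isSolvable_of_isMulCommutative A)
  obtain ⟨P₀, hP₀⟩ := Coprime.exists_invariant_sylow 3 hA hcop hAsol
  set P := (P₀ : Subgroup N).map N.subtype
  have hPN : P ≤ N := map_subtype_le _
  have hPp : IsPGroup 3 P := P₀.2.map _
  -- the order
  obtain ⟨R, hR⟩ := c.U_isPGroup.exists_le_sylow
  have hRN : (R : Subgroup G) ≤ N := fun r hr => by
    refine (hN r).2 ⟨mem_centralizer_iff.2 fun b hb => c.three_comm R.2 (hR hb) hr, ?_⟩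
    refine odd_orderOf_of_mem ?_ hr
    rw [c.card_sylow R]
    exact Odd.pow (Nat.odd_iff.2 (by have := c.q_mod; omega))
  have hcard : Nat.card P = q ^ 3 := by
    rw [card_subtype]
    refine Nat.dvd_antisymm ?_ ?_
    · obtain ⟨S, hS⟩ := hPp.exists_le_sylow
      rw [← c.card_sylow S, ← card_subtype N P₀]
      exact card_dvd_of_le hS
    · obtain ⟨Q, hQ⟩ := (R.2.comap_subtype (K := N)).exists_le_sylow
      have h1 : Nat.card ((R : Subgroup G).subgroupOf N) ∣ Nat.card (Q : Subgroup N) := card_dvd_of_le hQ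
      rw [Nat.card_congr (subgroupOfEquivOfLe hRN).toEquiv, c.card_sylow R] at h1
      rwa [show Nat.card (Q : Subgroup N) = Nat.card Q from rfl, Q.card_eq_multiplicity,
        ← P₀.card_eq_multiplicity] at h1
  have hUP : c.U ≤ P := by
    haveI : (c.U.subgroupOf N).Normal := by
      refine ⟨fun x hx g => ?_⟩
      rw [mem_subgroupOf] at hx ⊢
      have h1 := mem_centralizer_iff.1 (hNX g.2) _ hx
      have h2 : (g : G) * x * (g : G)⁻¹ = x := by rw [← h1, mul_inv_cancel_right]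
      show (g : G) * x * (g : G)⁻¹ ∈ c.U
      rw [h2]; exact hx
    have h1 : c.U.subgroupOf N ≤ P₀ :=
      (show IsPGroup 3 (c.U.subgroupOf N) from c.U_isPGroup.comap_subtype).le_sylow_of_normal P₀
    intro g hg
    exact ⟨⟨g, hUN hg⟩, h1 hg, rfl⟩
  refine ⟨P, hcard, hPp, hUP, fun x hx => hNt x (hPN hx), ?_⟩
  -- uniqueness of the invariant Sylow subgroup
  intro d hd
  let P₁ : Sylow 3 N := Sylow.ofCard ((P.map (MulAut.conj d).toMonoidHom).subgroupOf N) (by
    have hle : P.map (MulAut.conj d).toMonoidHom ≤ N := by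
      rintro _ ⟨x, hx, rfl⟩
      exact (mem_normalizer_iff.1 (hDN hd) x).1 (hPN hx)
    rw [Nat.card_congr (subgroupOfEquivOfLe hle).toEquiv, card_map_of_injective (MulEquiv.injective _),
      card_subtype, P₀.card_eq_multiplicity])
  have hP₁ : (P₁ : Subgroup N).map N.subtype = P.map (MulAut.conj d).toMonoidHom := by
    rw [show (P₁ : Subgroup N) = _ from Sylow.coe_ofCard _ _, map_subgroupOf_eq_of_le]
    rintro _ ⟨x, hx, rfl⟩
    exact (mem_normalizer_iff.1 (hDN hd) x).1 (hPN hx)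
  have hPinv : ∀ x ∈ P, c.t * x * c.t⁻¹ ∈ P := fun x hx => (mem_normalizer_iff.1 (hP₀ (mem_zpowers _)) x).1 hx
  obtain ⟨z, hz, hz'⟩ := Coprime.exists_centralizer_conj_sylow hA hcop hAsol P₀ P₁ hP₀ (by
    rw [hP₁, zpowers_le]
    refine mem_normalizer_of_invol c.t_mul_t ?_
    rintro _ ⟨x, hx, rfl⟩
    refine ⟨c.t * x * c.t⁻¹, hPinv x hx, ?_⟩
    simp only [MulEquiv.coe_toMonoidHom, MulAut.conj_apply]
    calc d * (c.t * x * c.t⁻¹) * d⁻¹ = (d * c.t) * x * (d * c.t)⁻¹ := by group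
      _ = (c.t * d) * x * (c.t * d)⁻¹ := by rw [c.D_commute_t hd]
      _ = c.t * (d * x * d⁻¹) * c.t⁻¹ := by group)
  have hzU : (z : G) ∈ c.U := hNt z z.2 (mem_centralizer_iff.1 hz _ (mem_zpowers _)).symm
  have hzP : z ∈ (P₀ : Subgroup N) := by
    obtain ⟨z', hz0, he⟩ := hUP hzU
    rwa [show z' = z from Subtype.ext he] at hz0
  have heq : P₀ = P₁ := by
    rw [← hz']
    exact (Sylow.smul_eq_iff_mem_normalizer.2 (le_normalizer hzP)).symm
  have hmap : P.map (MulAut.conj d).toMonoidHom = P := by rw [← hP₁, ← heq]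
  rw [mem_normalizer_iff]
  intro x
  constructor
  · intro hx
    rw [← hmap]
    exact ⟨x, hx, rfl⟩
  · intro hx
    rw [← hmap] at hx
    obtain ⟨y, hy, he⟩ := hx
    rwa [← show y = x from (MulAut.conj d).injective he]

variable {P : Subgroup G} (hP : IsP c P)
include hP

theorem P_comm {a b : G} (ha : a ∈ P) (hb : b ∈ P) : a * b = b * a := c.three_comm hP.pgroup ha hb

theorem t_norm {x : G} (hx : x ∈ P) : c.t * x * c.t⁻¹ ∈ P :=
  (mem_normalizer_iff.1 (hP.norm c.t_mem_D) x).1 hx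

theorem P_odd : Odd (Nat.card P) := by
  rw [hP.card]
  exact Odd.pow (Nat.odd_iff.2 (by have := c.q_mod; omega))

/-- The part of `P` inverted by `t`. -/
def P2 : Subgroup G where
  carrier := {x | x ∈ P ∧ c.t * x * c.t⁻¹ = x⁻¹}
  one_mem' := ⟨one_mem _, by group⟩
  mul_mem' := fun {a b} ha hb => ⟨mul_mem ha.1 hb.1, by
    rw [← conj_mul, ha.2, hb.2, ← mul_inv_rev, c.P_comm hP ha.1 hb.1]⟩
  inv_mem' := fun {a} ha => ⟨inv_mem ha.1, by
    rw [← conj_inv, ha.2]⟩

theorem P2_le : c.P2 hP ≤ P := fun _ hx => hx.1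

theorem P2_isPGroup : IsPGroup 3 (c.P2 hP) := hP.pgroup.to_le (c.P2_le hP)

theorem card_P2 : Nat.card (c.P2 hP) = q ^ 2 := by
  let f : P →* P :=
    { toFun := fun x => ⟨(x : G)⁻¹ * (c.t * x * c.t⁻¹), mul_mem (inv_mem x.2) (c.t_norm hP x.2)⟩
      map_one' := Subtype.ext (by simp)
      map_mul' := fun x y => Subtype.ext (by
        show ((x : G) * y)⁻¹ * (c.t * ((x : G) * y) * c.t⁻¹) =
          (x : G)⁻¹ * (c.t * x * c.t⁻¹) * ((y : G)⁻¹ * (c.t * y * c.t⁻¹))
        have h1 := c.P_comm hP (inv_mem y.2) (mul_mem (inv_mem x.2) (c.t_norm hP x.2))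
        calc ((x : G) * y)⁻¹ * (c.t * ((x : G) * y) * c.t⁻¹)
            = ((y : G)⁻¹ * ((x : G)⁻¹ * (c.t * x * c.t⁻¹))) * (c.t * y * c.t⁻¹) := by group
          _ = (((x : G)⁻¹ * (c.t * x * c.t⁻¹)) * (y : G)⁻¹) * (c.t * y * c.t⁻¹) := by rw [h1]
          _ = _ := by simp only [mul_assoc]) }
  have hker : f.ker = c.U.subgroupOf P := by
    ext x
    rw [MonoidHom.mem_ker, mem_subgroupOf, Subtype.ext_iff]
    show (x : G)⁻¹ * (c.t * x * c.t⁻¹) = 1 ↔ _
    rw [inv_mul_eq_one, eq_mul_inv_iff_mul_eq]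
    refine ⟨fun h => hP.fixed x x.2 h, fun h => ?_⟩
    obtain ⟨l, -, hl⟩ := h
    rw [← hl]
    exact c.ofL_commute_t l
  have hran : f.range = (c.P2 hP).subgroupOf P := by
    ext x
    rw [mem_subgroupOf]
    constructor
    · rintro ⟨y, rfl⟩
      refine ⟨(f y).2, ?_⟩
      show c.t * ((y : G)⁻¹ * (c.t * y * c.t⁻¹)) * c.t⁻¹ = ((y : G)⁻¹ * (c.t * y * c.t⁻¹))⁻¹
      calc c.t * ((y : G)⁻¹ * (c.t * y * c.t⁻¹)) * c.t⁻¹
          = (c.t * y * c.t⁻¹)⁻¹ * ((c.t * c.t) * y * (c.t * c.t)⁻¹) := by group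
        _ = (c.t * y * c.t⁻¹)⁻¹ * y := by rw [c.t_mul_t, one_mul, inv_one, mul_one]
        _ = ((y : G)⁻¹ * (c.t * y * c.t⁻¹))⁻¹ := by group
    · rintro ⟨-, hx⟩
      obtain ⟨y, hy⟩ := (powCoprime (Nat.Coprime.symm (Nat.coprime_two_left.2 (c.P_odd hP)))).surjective x⁻¹
      refine ⟨y, Subtype.ext ?_⟩
      have hy2 : y ^ 2 = x⁻¹ := hy
      have hxx : c.t * (y : G) * c.t⁻¹ = (y : G)⁻¹ := by
        have hsq : (⟨c.t * y * c.t⁻¹, c.t_norm hP y.2⟩ : P) ^ 2 = y⁻¹ ^ 2 := by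
          apply Subtype.ext
          show (c.t * (y : G) * c.t⁻¹) ^ 2 = ((y : G)⁻¹) ^ 2
          rw [conj_pow, inv_pow, show (y : G) ^ 2 = (x : G)⁻¹ from congrArg Subtype.val hy2,
            ← conj_inv, hx, inv_inv]
        exact congrArg Subtype.val
          ((powCoprime (Nat.Coprime.symm (Nat.coprime_two_left.2 (c.P_odd hP)))).injective hsq)
      show (y : G)⁻¹ * (c.t * y * c.t⁻¹) = x
      rw [hxx, ← mul_inv_rev, ← pow_two, show (y : G) ^ 2 = (x : G)⁻¹ from congrArg Subtype.val hy2, inv_inv]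
  have h1 := f.ker.card_mul_index
  rw [index_ker, hran, hker, Nat.card_congr (subgroupOfEquivOfLe hP.U_le).toEquiv,
    Nat.card_congr (subgroupOfEquivOfLe (c.P2_le hP)).toEquiv, c.card_U, hP.card, pow_succ', ] at h1
  exact Nat.eq_of_mul_eq_mul_left (by have := c.q_big; omega) h1

theorem nine_le_P2 : 9 ≤ Nat.card (c.P2 hP) := by
  rw [c.card_P2 hP]
  have := c.q_big
  nlinarith

theorem D_norm_P2 {d : G} (hd : d ∈ c.D) {x : G} (hx : x ∈ c.P2 hP) : d * x * d⁻¹ ∈ c.P2 hP := by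
  refine ⟨(mem_normalizer_iff.1 (hP.norm hd) x).1 hx.1, ?_⟩
  calc c.t * (d * x * d⁻¹) * c.t⁻¹ = (c.t * d) * x * (c.t * d)⁻¹ := by group
    _ = (d * c.t) * x * (d * c.t)⁻¹ := by rw [c.D_commute_t hd]
    _ = d * (c.t * x * c.t⁻¹) * d⁻¹ := by group
    _ = (d * x * d⁻¹)⁻¹ := by rw [hx.2]; group

/-- `M = C(P₂)`. -/
abbrev M : Subgroup G := centralizer ((c.P2 hP : Subgroup G) : Set G)

theorem P_le_M : P ≤ c.M hP := fun _ hx => mem_centralizer_iff.2 fun _ hz => c.P_comm hP hz.1 hx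

theorem D_norm_M : c.D ≤ normalizer (c.M hP : Set G) := by
  have key : ∀ d ∈ c.D, ∀ g ∈ c.M hP, d * g * d⁻¹ ∈ c.M hP := by
    intro d hd g hg
    rw [M, mem_centralizer_iff]
    intro z hz
    have h1 := mem_centralizer_iff.1 hg _ (c.D_norm_P2 hP (inv_mem hd) hz)
    rw [inv_inv] at h1
    calc z * (d * g * d⁻¹) = d * (d⁻¹ * z * d * g) * d⁻¹ := by group
      _ = d * (g * (d⁻¹ * z * d)) * d⁻¹ := by rw [h1]
      _ = d * g * d⁻¹ * z := by group
  intro d hd
  rw [mem_normalizer_iff]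
  refine fun g => ⟨key d hd g, fun h => ?_⟩
  have h1 := key d⁻¹ (inv_mem hd) _ h
  rwa [show d⁻¹ * (d * g * d⁻¹) * d⁻¹⁻¹ = g by group] at h1

theorem M_no_invol {g : G} (hg : g ∈ c.M hP) : orderOf g ≠ 2 := by
  intro h
  have h1 := c.card_three (c.P2_isPGroup hP) h fun z hz => mem_centralizer_iff.1 hg z hz
  rw [c.card_P2 hP] at h1
  have := c.q_big
  nlinarith

theorem M_odd : Odd (Nat.card (c.M hP)) := odd_card_of_forall_odd fun _ hg => c.M_no_invol hP hg

/-- Elements of prime order in `M`. -/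
theorem M_prime {g : G} (hg : g ∈ c.M hP) (hp : (orderOf g).Prime) (h3 : orderOf g ≠ 3) :
    orderOf g ∣ nq q :=
  c.pi_of_nine (c.P2_isPGroup hP) (c.nine_le_P2 hP) (fun z hz => mem_centralizer_iff.1 hg z hz) hp
    (c.M_no_invol hP hg) h3

theorem M_fixed {g : G} (hg : g ∈ c.M hP) (hgt : g * c.t = c.t * g) : g ∈ c.U := by
  haveI : Fact (Nat.Prime 3) := ⟨Nat.prime_three⟩
  set X := c.M hP ⊓ centralizer ({c.t} : Set G)
  have hX : IsPGroup 3 X := by
    refine IsPGroup.of_card (n := (Nat.card X).primeFactorsList.length)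
      (Nat.eq_prime_pow_of_unique_prime_dvd Nat.card_pos.ne' ?_)
    intro p hp hpX
    haveI := Fact.mk hp
    obtain ⟨b, hb⟩ := exists_prime_orderOf_dvd_card' p hpX
    have hbo : orderOf (b : G) = p := (Subgroup.orderOf_coe b).trans hb
    by_contra hne
    have h1 := c.M_prime hP b.2.1 (hbo ▸ hp) (hbo ▸ hne)
    refine not_dvd_of_dvd_nq c.q_mod c.three_q hp (hbo ▸ h1) ?_
    rw [← c.card_C, ← hbo]
    exact orderOf_dvd_natCard _ b.2.2
  have hUX : c.U ≤ X := le_inf (hP.U_le.trans (c.P_le_M hP)) (by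
    rintro _ ⟨l, -, rfl⟩
    exact mem_centralizer_singleton_iff.2 (c.ofL_commute_t l))
  have hle : Nat.card X ≤ Nat.card c.U := by
    rw [c.card_U]
    exact c.card_three hX c.S.ht fun r hr => mem_centralizer_singleton_iff.1 hr.2
  rw [eq_of_le_of_card_ge hUX hle]
  exact ⟨hg, mem_centralizer_singleton_iff.2 hgt⟩

/-- Elements of `D` other than one fix nothing on the core of `M`. -/
theorem core_fpf {d : G} (hd : d ∈ c.D) (hd1 : d ≠ 1) {x : G} (hx : x ∈ coreIn 3 (c.M hP))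
    (hdx : x * d = d * x) : x = 1 := by
  by_contra hx1
  haveI : Fact (Nat.Prime 3) := ⟨Nat.prime_three⟩
  have h3 : ¬ 3 ∣ Nat.card (coreIn 3 (c.M hP)) :=
    (Nat.Prime.coprime_iff_not_dvd Nat.prime_three).1 (coprime_coreIn 3 _).symm
  obtain ⟨k, hk, hkd⟩ := prime_orderOf_pow hx1
  have hyM : x ^ k ∈ c.M hP := pow_mem (coreIn_le _ _ hx) k
  have hyne : orderOf (x ^ k) ≠ 3 := fun e => by
    have h := hkd.trans (Subgroup.orderOf_dvd_natCard _ hx)
    rw [e] at h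
    exact h3 h
  obtain ⟨e, l, hl, rfl⟩ := c.mem_D.1 hd
  by_cases hl1 : l = 1
  · subst hl1
    rcases z2_cases e with rfl | rfl
    · exact hd1 (map_one _)
    · rw [c.emb_t] at hdx
      have hU := c.M_fixed hP (coreIn_le _ _ hx) hdx
      have h1 := Subgroup.orderOf_dvd_natCard _ hU
      replace h1 : orderOf x ∣ 3 ^ c.n := h1.trans (dvd_of_eq (c.card_U.trans c.q_eq))
      obtain ⟨j, -, hj⟩ := (Nat.dvd_prime_pow Nat.prime_three).1 h1
      have hj0 : j ≠ 0 := fun e => hx1 (orderOf_eq_one_iff.1 (by rw [hj, e, pow_zero]))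
      exact h3 ((dvd_pow_self 3 hj0).trans (hj ▸ Subgroup.orderOf_dvd_natCard _ hx))
  · have hl2 : l ^ 2 ≠ 1 := fun e2 => hl1 (orderOf_eq_one_iff.1 (Nat.eq_one_of_dvd_coprimes
      ((c.H_odd.of_dvd_nat (c.LN.H.orderOf_dvd_natCard hl)).coprime_two_right) dvd_rfl
      (orderOf_dvd_of_pow_eq_one e2)))
    refine c.H_no_commute (pow_mem hl 2) hl2 (y := x ^ k) ?_ hk (Or.inr (c.M_prime hP hyM hk hyne))
    have h2 : c.ofL (l ^ 2) = c.E (e, l) * c.E (e, l) := by
      rw [c.ofL_apply, ← map_mul, pow_two]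
      refine congrArg c.E ?_
      ext
      · exact (z2_sq e).symm
      · rfl
    rw [h2]
    exact (((show Commute x (c.E (e, l)) from hdx).mul_right hdx).pow_left k).eq

theorem core_dvd : Nat.card (coreIn 3 (c.M hP)) ∣ nq q := by
  haveI : Fact (Nat.Prime 3) := ⟨Nat.prime_three⟩
  set C := coreIn 3 (c.M hP)
  have hcop : (Nat.card C).Coprime (q * ((q - 1) * (q + 1))) := by
    refine Nat.coprime_of_dvd' fun p hp h1 h2 => absurd h2 (not_dvd_of_dvd_nq c.q_mod c.three_q hp ?_)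
    haveI := Fact.mk hp
    obtain ⟨b, hb⟩ := exists_prime_orderOf_dvd_card' p h1
    have hbo : orderOf (b : G) = p := (Subgroup.orderOf_coe b).trans hb
    have hp3 : p ≠ 3 := fun e => by
      have h4 : p ∣ Nat.card C := h1
      have h5 : ¬ 3 ∣ Nat.card C := (Nat.Prime.coprime_iff_not_dvd Nat.prime_three).1 (coprime_coreIn 3 _).symm
      exact h5 (by rwa [show (3 : ℕ) = p from e.symm])
    exact hbo ▸ c.M_prime hP (coreIn_le _ _ b.2) (hbo ▸ hp) (hbo ▸ hp3)
  have hd := C.card_subgroup_dvd_card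
  rw [c.card_G, cube_add_one q (by have := c.q_big; omega),
    show q ^ 3 * ((q + 1) * nq q) * (q - 1) = nq q * (q ^ 2 * (q * ((q - 1) * (q + 1)))) by ring] at hd
  exact (Nat.Coprime.mul_right (hcop.coprime_dvd_right (dvd_mul_right q _) |>.pow_right 2) hcop).dvd_of_dvd_mul_right hd

end Cfsg.Agent.Walter.Ree.Cfg
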