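import Cfsg.Agent.Lib.Walter.ReeSylow

/-!
# The Ree configuration: the abelian Sylow 3-subgroup is a trivial intersection set, with normaliser `P D`
-/

set_option autoImplicit false
set_option linter.unusedSectionVars false
set_option linter.style.haveILetI false

namespace Cfsg.Agent.Walter.Ree.Cfg

open Subgroup

universe u v

variable {G : Type u} [Group G] [Finite G] [IsSimpleGroup G] {L : Type v} [Group L] [Finite L] {q : ℕ}
  (c : Cfg G L q)
include c

/-- No proper subgroup has index at most `q + 1`. -/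
theorem index_absurd {K : Subgroup G} (hK : K ≠ ⊤) (h : K.index ≤ q + 1) : False := by
  classical
  have hq := c.q_big
  have hinj : Function.Injective (MulAction.toPermHom G (G ⧸ K)) := by
    rw [← MonoidHom.ker_eq_bot_iff, ← normalCore_eq_ker]
    rcases (inferInstance : K.normalCore.Normal).eq_bot_or_eq_top with e | e
    · exact e
    · exact absurd (top_le_iff.1 (e.symm.le.trans K.normalCore_le)) hK
  letI : MulAction L (G ⧸ K) := MulAction.compHom _ c.ofL
  have hsmul : ∀ (l : L) (x : G ⧸ K), l • x = c.ofL l • x := fun _ _ => rfl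
  have hcardX : Nat.card (G ⧸ K) = K.index := K.index_eq_card.symm
  have hbound : ∀ x : G ⧸ K, (MulAction.stabilizer L x).index ≤ K.index := fun x => by
    rw [MulAction.index_stabilizer, ← hcardX, ← Set.ncard_univ]
    exact Set.ncard_le_ncard (Set.subset_univ _)
  by_cases hall : ∀ x : G ⧸ K, MulAction.stabilizer L x = ⊤
  · have hw : MulAction.toPermHom G (G ⧸ K) (c.ofL c.LN.w) = MulAction.toPermHom G (G ⧸ K) 1 := by
      ext x
      rw [map_one, Equiv.Perm.one_apply, MulAction.toPermHom_apply, MulAction.toPerm_apply, ← hsmul]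
      exact MulAction.mem_stabilizer_iff.1 (hall x ▸ mem_top c.LN.w)
    have h1 := congrArg orderOf (hinj hw)
    rw [c.orderOf_ofL, c.LN.w_two, orderOf_one] at h1
    exact absurd h1 (by norm_num)
  push Not at hall
  obtain ⟨x₀, hx₀⟩ := hall
  have h0 := c.LN.min_index _ hx₀
  have hKidx : K.index = q + 1 := by have := hbound x₀; omega
  have horb : MulAction.orbit L x₀ = Set.univ := by
    refine Set.eq_of_subset_of_ncard_le (Set.subset_univ _) ?_
    rw [Set.ncard_univ, hcardX, ← MulAction.index_stabilizer]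
    omega
  have hidx : ∀ x : G ⧸ K, (MulAction.stabilizer L x).index = q + 1 := fun x => by
    have hx : x ∈ MulAction.orbit L x₀ := horb ▸ Set.mem_univ x
    rw [MulAction.index_stabilizer, MulAction.orbit_eq_iff.2 hx, horb, Set.ncard_univ, hcardX, hKidx]
  have ht : MulAction.toPermHom G (G ⧸ K) c.t = MulAction.toPermHom G (G ⧸ K) 1 := by
    ext x
    rw [map_one, Equiv.Perm.one_apply, MulAction.toPermHom_apply, MulAction.toPerm_apply]
    set y := c.t • x with hy
    obtain ⟨l, hl⟩ := MulAction.mem_orbit_iff.1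
      (show y ∈ MulAction.orbit L x by
        rw [MulAction.orbit_eq_iff.2 (show x ∈ MulAction.orbit L x₀ from horb ▸ Set.mem_univ x), horb]
        exact Set.mem_univ y)
    have hcomm : ∀ m : L, m • y = c.t • (m • x) := fun m => by
      rw [hy, hsmul, hsmul, ← mul_smul, ← mul_smul, c.ofL_commute_t]
    set S := MulAction.stabilizer L x with hSdef
    have hS : S.map (MulAut.conj l).toMonoidHom = S := by
      have e1 : MulAction.stabilizer L (l • x) = S.map (MulAut.conj l).toMonoidHom :=
        MulAction.stabilizer_smul_eq_stabilizer_map_conj l x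
      rw [← e1, hl]
      ext m
      rw [hSdef, MulAction.mem_stabilizer_iff, MulAction.mem_stabilizer_iff, hcomm]
      exact ⟨fun h => by rw [hy] at h; exact MulAction.injective c.t h, fun h => by rw [h]⟩
    have hlN : l ∈ normalizer (S : Set L) := by
      rw [mem_normalizer_iff]
      intro m
      constructor
      · intro hm
        rw [← hS]
        exact ⟨m, hm, rfl⟩
      · intro hm
        rw [← hS] at hm
        obtain ⟨m', hm', e⟩ := hm
        rwa [← show m' = m from (MulAut.conj l).injective e]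
    have hN : normalizer (S : Set L) = S := by
      have hle : S ≤ normalizer (S : Set L) := le_normalizer
      have hne : normalizer (S : Set L) ≠ ⊤ := fun e => by
        haveI : S.Normal := normalizer_eq_top_iff.1 e
        haveI := c.LN.simple
        rcases (inferInstance : S.Normal).eq_bot_or_eq_top with e' | e'
        · have h1 := hidx x
          rw [← hSdef, e', index_bot] at h1
          have h2 := c.LN.card
          rw [h1] at h2
          have h4 : q * ((q - 1) * (q + 1)) = (q * (q - 1)) * (q + 1) := by ring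
          rw [h4] at h2
          have h5 := Nat.eq_of_mul_eq_mul_right (Nat.succ_pos q) h2
          have h6 : 27 * 1 ≤ q * (q - 1) := Nat.mul_le_mul hq (by omega)
          omega
        · have h1 := hidx x
          rw [← hSdef, e', index_top] at h1
          omega
      have h1 := c.LN.min_index _ hne
      have h2 := relIndex_mul_index hle
      rw [hidx x] at h2
      have hone : S.relIndex (normalizer (S : Set L)) = 1 := by
        by_contra hne1
        have h3 : 2 ≤ S.relIndex (normalizer (S : Set L)) := by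
          have h4 : S.relIndex (normalizer (S : Set L)) ≠ 0 := fun e => by
            rw [e, zero_mul] at h2
            omega
          omega
        have h5 := Nat.mul_le_mul h3 h1
        omega
      exact le_antisymm (relIndex_eq_one.1 hone) hle
    rw [hN, hSdef, MulAction.mem_stabilizer_iff, hl] at hlN
    exact hlN
  exact c.t_ne_one (hinj ht)

variable {P : Subgroup G} (hP : IsP c P)
include hP

theorem not_three_relIndex {X : Subgroup G} (hPX : P ≤ X) : ¬ 3 ∣ P.relIndex X := by
  intro h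
  have h1 := card_mul_index (P.subgroupOf X)
  rw [Nat.card_congr (subgroupOfEquivOfLe hPX).toEquiv, hP.card] at h1
  have h2 : q ^ 3 * 3 ∣ q ^ 3 * ((q ^ 3 + 1) * (q - 1)) := by
    rw [← mul_assoc, ← c.card_G]
    exact (mul_dvd_mul_left _ h).trans (dvd_trans (dvd_of_eq h1) X.card_subgroup_dvd_card)
  have h3 := (Nat.mul_dvd_mul_iff_left (pow_pos (by have := c.q_big; omega) 3)).1 h2
  rcases (Nat.Prime.dvd_mul Nat.prime_three).1 h3 with h3 | h3
  · exact absurd ((Nat.dvd_add_right (dvd_pow c.three_q (by norm_num))).1 h3) (by norm_num)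
  · have := c.q_mod
    have := c.three_q
    omega

/-- The core of `M` is trivial. -/
theorem core_M : coreIn 3 (c.M hP) = ⊥ := by
  have hq := c.q_big
  set C := coreIn 3 (c.M hP) with hC
  have hDC : c.D ≤ normalizer (C : Set G) := (c.D_norm_M hP).trans (normalizer_le_normalizer_coreIn 3 _)
  have hmod := Coprime.fpf_card_mod hDC fun d hd hd1 => (eq_bot_iff_forall _).2 fun x hx =>
    c.core_fpf hP hd hd1 hx.1 (mem_centralizer_singleton_iff.1 hx.2)
  rw [c.card_D, Nat.one_mod_eq_one.2 (by omega)] at hmod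
  rcases dvd_nq_eq (by omega) (c.core_dvd hP) hmod with e | e
  · exact card_eq_one.1 e
  exfalso
  rw [← hC] at e
  set K := normalizer (C : Set G) with hK
  have hKne : K ≠ ⊤ := fun h => by
    haveI : C.Normal := normalizer_eq_top_iff.1 h
    have h1 : 1 < nq q := by
      have : 1 * 1 ≤ q * (q - 1) := Nat.mul_le_mul (by omega) (by omega)
      rw [nq]; omega
    rcases (inferInstance : C.Normal).eq_bot_or_eq_top with e' | e'
    · rw [e', card_bot] at e
      omega
    · rw [e', card_top, c.card_G, cube_add_one q (by omega)] at e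
      have h3 : q ^ 3 * ((q + 1) * nq q) * (q - 1) = nq q * (q ^ 3 * ((q + 1) * (q - 1))) := by ring
      rw [h3] at e
      have h4 := Nat.eq_of_mul_eq_mul_left (by omega) (e.trans (mul_one _).symm)
      have h5 : 27 * 1 ≤ q ^ 3 * ((q + 1) * (q - 1)) :=
        Nat.mul_le_mul (le_trans hq (Nat.le_self_pow (by norm_num) q))
          (Nat.one_le_iff_ne_zero.2 (Nat.mul_ne_zero (by omega) (by omega)))
      omega
  have hcopPD : (Nat.card P).Coprime (Nat.card c.D) := by
    rw [hP.card, c.card_D]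
    exact Nat.Coprime.pow_left 3 ((Nat.coprime_self_sub_right (by omega)).2 (Nat.coprime_one_right q))
  have hPD : q ^ 3 * (q - 1) ∣ Nat.card K := by
    rw [← hP.card, ← c.card_D, ← Coprime.card_sup_of_coprime hP.norm hcopPD]
    exact card_dvd_of_le (sup_le (((c.P_le_M hP).trans le_normalizer).trans
      (normalizer_le_normalizer_coreIn 3 _)) hDC)
  have hCK : nq q ∣ Nat.card K := e ▸ card_dvd_of_le le_normalizer
  have h0 := coprime_nq c.q_mod c.three_q
  have hcop : (q ^ 3 * (q - 1)).Coprime (nq q) :=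
    ((h0.coprime_dvd_right (dvd_mul_right q _)).symm.pow_left 3).mul_left
      (h0.coprime_dvd_right (Dvd.dvd.mul_left (dvd_mul_right _ _) _)).symm
  obtain ⟨j, hj⟩ := hcop.mul_dvd_of_dvd_of_dvd hPD hCK
  have h1 := K.card_mul_index
  rw [hj, c.card_G, cube_add_one q (by omega)] at h1
  have h2 : j * K.index = q + 1 := by
    refine Nat.eq_of_mul_eq_mul_left (show 0 < q ^ 3 * (q - 1) * nq q from ?_) ?_
    · have : 0 < q - 1 := by omega
      have : 0 < nq q := by rw [nq]; omega
      positivity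
    · rw [← mul_assoc, h1]; ring
  exact c.index_absurd hKne (Nat.le_of_dvd (by omega) ⟨j, by rw [← h2]; ring⟩)

theorem M_le : c.M hP ≤ normalizer (P : Set G) ∧
    ∀ m ∈ c.M hP, (∀ z ∈ P, m * z = z * m) → m ∈ P :=
  haveI : Fact (Nat.Prime 3) := ⟨Nat.prime_three⟩
  normal_sylow_of_no_core (c.M_odd hP) (c.P_le_M hP) hP.pgroup
    (c.not_three_relIndex hP (c.P_le_M hP)) (fun _ ha _ hb => c.P_comm hP ha hb) (c.core_M hP)

theorem cent_P {g : G} (h : ∀ z ∈ P, g * z = z * g) : g ∈ P :=
  (c.M_le hP).2 g (mem_centralizer_iff.2 fun z hz => (h z (c.P2_le hP hz)).symm) h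

/-- An element of a `3'`-subgroup normalised by `P` which normalises `P` is trivial. -/
theorem eq_one_of_core {Q : Subgroup G} (hQ : (Nat.card Q).Coprime 3) (hPQ : P ≤ normalizer (Q : Set G))
    {g : G} (hgQ : g ∈ Q) (hgN : g ∈ normalizer (P : Set G)) : g = 1 := by
  obtain ⟨k, hk⟩ := IsPGroup.iff_card.1 hP.pgroup
  have hdis : ∀ x : G, x ∈ P → x ∈ Q → x = 1 := fun x hxP hxQ => by
    have h1 := orderOf_dvd_natCard _ hxP
    rw [hk] at h1
    exact orderOf_eq_one_iff.1 (Nat.eq_one_of_dvd_coprimes (hQ.pow_right k)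
      (orderOf_dvd_natCard _ hxQ) h1)
  refine hdis g (c.cent_P hP fun z hz => ?_) hgQ
  have h1 : g * z * g⁻¹ * z⁻¹ = 1 := by
    refine hdis _ (mul_mem ((mem_normalizer_iff.1 hgN z).1 hz) (inv_mem hz)) ?_
    rw [show g * z * g⁻¹ * z⁻¹ = g * (z * g⁻¹ * z⁻¹) by group]
    exact mul_mem hgQ ((mem_normalizer_iff.1 (hPQ hz) _).1 (inv_mem hgQ))
  calc g * z = g * z * g⁻¹ * z⁻¹ * z * g := by group
    _ = z * g := by rw [h1, one_mul]

theorem cent_U {u : G} (hu : u ∈ c.U) (hu1 : u ≠ 1) :
    centralizer ({u} : Set G) ≤ normalizer (P : Set G) := by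
  haveI : Fact (Nat.Prime 3) := ⟨Nat.prime_three⟩
  obtain ⟨l₀, hl₀, rfl⟩ := hu
  have hl1 : l₀ ≠ 1 := fun e => hu1 (by rw [e, map_one])
  set X := centralizer ({c.ofL l₀} : Set G)
  have htX : c.t ∈ X := mem_centralizer_singleton_iff.2 (c.ofL_commute_t l₀).symm
  obtain ⟨K, hKX, hcard, hKodd, hK⟩ := exists_odd_part c.hab c.S.ht htX (fun g hg hgt ⟨k, hk⟩ => by
    obtain ⟨e, l, hl, rfl⟩ := c.cent_t_U hl₀ hl1 hgt (mem_centralizer_singleton_iff.1 hg)
    exact c.eq_one_or_t c.LU_odd hl hk)
  have hPK : P ≤ K := fun z hz => (hK z).2 ⟨mem_centralizer_singleton_iff.2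
    (c.P_comm hP hz (hP.U_le ⟨l₀, hl₀, rfl⟩)), odd_orderOf_of_mem (c.P_odd hP) hz⟩
  have htK : c.t ∈ normalizer (K : Set G) := mem_normalizer_of_invol c.t_mul_t fun g hg =>
    (hK _).2 ⟨mul_mem (mul_mem htX ((hK g).1 hg).1) (inv_mem htX),
      by rw [orderOf_conj']; exact ((hK g).1 hg).2⟩
  set Q := coreIn 3 K with hQdef
  have hQcop : (Nat.card Q).Coprime 3 := coprime_coreIn 3 K
  have hQ : Q = ⊥ := by
    have htQ := normalizer_le_normalizer_coreIn 3 K htK
    have hinv := inverts_of_fixed_trivial c.t_mul_t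
      (fun g hg => (mem_normalizer_iff.1 htQ g).1 hg) (fun g hg hgt => by
        obtain ⟨l, rfl⟩ := c.exists_ofL hgt.symm ((hK g).1 (coreIn_le _ _ hg)).2
        have hlU : l ∈ c.LN.U := (c.LN.U_cent l₀ hl₀ hl1 l).1 (c.E_commute_ofL
          (mem_centralizer_singleton_iff.1 (hKX (coreIn_le _ _ hg))))
        have h1 : c.ofL l ∈ P := hP.U_le (mem_map_of_mem _ hlU)
        obtain ⟨k, hk⟩ := IsPGroup.iff_card.1 hP.pgroup
        have h2 := orderOf_dvd_natCard _ h1
        rw [hk] at h2
        exact orderOf_eq_one_iff.1 (Nat.eq_one_of_dvd_coprimes (hQcop.pow_right k)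
          (orderOf_dvd_natCard _ hg) h2))
    have hPQ : P ≤ normalizer (Q : Set G) := hPK.trans (le_normalizer_coreIn 3 K)
    rw [eq_bot_iff_forall]
    intro g hg
    have hgM : g ∈ c.M hP := by
      rw [M, mem_centralizer_iff]
      intro z hz
      have hzg : z * g * z⁻¹ ∈ Q := (mem_normalizer_iff.1 (hPQ hz.1) g).1 hg
      have h1 := hinv _ hzg
      rw [show c.t * (z * g * z⁻¹) * c.t⁻¹ = (c.t * z * c.t⁻¹) * (c.t * g * c.t⁻¹) * (c.t * z * c.t⁻¹)⁻¹
        by group, hz.2, hinv g hg] at h1
      have h2 : (z * z) * g⁻¹ = g⁻¹ * (z * z) := by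
        calc (z * z) * g⁻¹ = z * (z * g * z⁻¹)⁻¹ * z := by group
          _ = z * (z⁻¹ * g⁻¹ * z⁻¹⁻¹) * z := by rw [← h1]
          _ = g⁻¹ * (z * z) := by group
      have h3 : Commute (z * z) g := by
        have h4 := (show Commute (z * z) g⁻¹ from h2)
        exact Commute.inv_right_iff.1 h4
      obtain ⟨j, hj⟩ := (c.P_odd hP)
      have hzpow : z = (z * z) ^ (j + 1) := by
        have h5 : z ^ Nat.card P = 1 := by
          have := congrArg Subtype.val (pow_card_eq_one' (x := (⟨z, hz.1⟩ : P)))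
          simpa only [SubmonoidClass.coe_pow, OneMemClass.coe_one] using this
        rw [← pow_two, ← pow_mul, show 2 * (j + 1) = Nat.card P + 1 by omega, pow_succ, h5, one_mul]
      rw [hzpow]
      exact (h3.pow_left _).eq
    exact c.eq_one_of_core hP hQcop hPQ hg ((c.M_le hP).1 hgM)
  obtain ⟨hKN, -⟩ := normal_sylow_of_no_core hKodd hPK hP.pgroup (c.not_three_relIndex hP hPK)
    (fun _ ha _ hb => c.P_comm hP ha hb) hQ
  have hcop : (Nat.card K).Coprime (Nat.card (zpowers c.t)) := by
    rw [Nat.card_zpowers, c.S.ht]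
    exact Nat.coprime_two_right.2 hKodd
  have hsup : K ⊔ zpowers c.t = X := by
    refine eq_of_le_of_card_ge (sup_le hKX (zpowers_le.2 htX)) (le_of_eq ?_)
    rw [Coprime.card_sup_of_coprime (zpowers_le.2 htK) hcop, Nat.card_zpowers, c.S.ht, hcard, mul_comm]
  rw [← hsup]
  exact sup_le hKN (zpowers_le.2 (hP.norm c.t_mem_D))

/-- Two Sylow 3-subgroups, one normalising the other, are equal. -/
theorem eq_of_normalizes {R : Subgroup G} (hR : IsPGroup 3 R) (hRcard : Nat.card R = q ^ 3)
    (h : P ≤ normalizer (R : Set G)) : P = R := by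
  haveI : Fact (Nat.Prime 3) := ⟨Nat.prime_three⟩
  obtain ⟨S, hS⟩ := (hP.pgroup.to_sup_of_normal_right' hR h).exists_le_sylow
  have hle : Nat.card (P ⊔ R : Subgroup G) ≤ q ^ 3 := by
    rw [← c.card_sylow S]
    exact Nat.le_of_dvd Nat.card_pos (card_dvd_of_le hS)
  exact (eq_of_le_of_card_ge le_sup_left (hle.trans hP.card.ge)).trans
    (eq_of_le_of_card_ge le_sup_right (hle.trans hRcard.ge)).symm

theorem cent_any {y : G} (hy : y ∈ P) (hy1 : y ≠ 1) :
    centralizer ({y} : Set G) ≤ normalizer (P : Set G) := by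
  haveI : Fact (Nat.Prime 3) := ⟨Nat.prime_three⟩
  set X := centralizer ({y} : Set G) with hXdef
  have hPX : P ≤ X := fun z hz => mem_centralizer_singleton_iff.2 (c.P_comm hP hz hy)
  by_cases hs : ∃ s ∈ X, orderOf s = 2
  · obtain ⟨s, hsX, hs2⟩ := hs
    obtain ⟨g, hg⟩ := isConj_iff.1 (c.fused s hs2)
    obtain ⟨k, hk⟩ := IsPGroup.iff_orderOf.1 hP.pgroup ⟨y, hy⟩
    rw [← Subgroup.orderOf_coe] at hk
    simp only at hk
    have ho : orderOf (g⁻¹ * y * g⁻¹⁻¹) = 3 ^ k := by rw [orderOf_conj', hk]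
    have hcomm : (g⁻¹ * y * g⁻¹⁻¹) * c.t = c.t * (g⁻¹ * y * g⁻¹⁻¹) := by
      have h1 := mem_centralizer_singleton_iff.1 hsX
      rw [← hg] at h1
      calc g⁻¹ * y * g⁻¹⁻¹ * c.t = g⁻¹ * (y * (g * c.t * g⁻¹)) * g := by group
        _ = g⁻¹ * (g * c.t * g⁻¹ * y) * g := by rw [h1]
        _ = _ := by group
    obtain ⟨l, hl⟩ := c.exists_ofL hcomm (by rw [ho]; exact Odd.pow (by decide))
    obtain ⟨a, ha⟩ := c.exists_conj_U (k := k) (l := l) (by rw [← c.orderOf_ofL, hl, ho])
    set h := g * (c.ofL a)⁻¹ with hh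
    set u := c.ofL (a * l * a⁻¹) with hudef
    have hyu : h * u * h⁻¹ = y := by
      rw [hh, hudef, map_mul, map_mul, map_inv, hl]
      group
    have hu1 : u ≠ 1 := fun e => hy1 (by rw [← hyu, e, mul_one, mul_inv_cancel])
    have hCu := c.cent_U hP (mem_map_of_mem _ ha) hu1
    set P' := P.map (MulAut.conj h).toMonoidHom with hP'
    have hXle : X ≤ normalizer (P' : Set G) := by
      intro x hx
      have hxu : h⁻¹ * x * h ∈ normalizer (P : Set G) := hCu (by
        rw [mem_centralizer_singleton_iff]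
        have h1 := mem_centralizer_singleton_iff.1 hx
        rw [← hyu] at h1
        calc h⁻¹ * x * h * u = h⁻¹ * (x * (h * u * h⁻¹)) * h := by group
          _ = h⁻¹ * (h * u * h⁻¹ * x) * h := by rw [h1]
          _ = u * (h⁻¹ * x * h) := by group)
      rw [mem_normalizer_iff]
      intro z
      simp only [hP', mem_map_equiv, MulAut.conj_symm_apply]
      rw [mem_normalizer_iff.1 hxu (h⁻¹ * z * h)]
      exact Iff.of_eq (congrArg (· ∈ P) (by group))
    have heq : P = P' := c.eq_of_normalizes hP (hP.pgroup.map _)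
      (by rw [hP', card_map_of_injective (MulEquiv.injective _), hP.card]) (hPX.trans hXle)
    rw [← heq] at hXle
    exact hXle
  · push Not at hs
    have hXodd : Odd (Nat.card X) := odd_card_of_forall_odd hs
    set Q := coreIn 3 X
    have hQcop : (Nat.card Q).Coprime 3 := coprime_coreIn 3 X
    have hPQ : P ≤ normalizer (Q : Set G) := hPX.trans (le_normalizer_coreIn 3 X)
    have hU3 : ∀ z ∈ c.U, z ^ 3 = 1 := by
      rintro _ ⟨l, hl, rfl⟩
      rw [← map_pow, c.LN.U_pow l hl, map_one]
    haveI : IsMulCommutative c.U := ⟨⟨fun a b => Subtype.ext (c.three_comm c.U_isPGroup a.2 b.2)⟩⟩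
    have hUcyc : ¬ IsCyclic c.U := by
      intro hcy
      obtain ⟨g, hg⟩ := hcy.exists_generator
      have h1 := orderOf_eq_card_of_forall_mem_zpowers hg
      have h2 : orderOf g ∣ 3 := orderOf_dvd_of_pow_eq_one (Subtype.ext (hU3 g g.2))
      rw [h1, c.card_U] at h2
      have := Nat.le_of_dvd (by norm_num) h2
      have := c.q_big
      omega
    have hcop : (Nat.card c.U).Coprime (Nat.card Q) := by
      obtain ⟨k, hk⟩ := IsPGroup.iff_card.1 c.U_isPGroup
      rw [hk]
      exact (hQcop.pow_right k).symm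
    have hgen := Coprime.fixedGen_eq hUcyc (hP.U_le.trans hPQ) hcop
    have hQ : Q = ⊥ := le_bot_iff.1 (hgen.symm.le.trans (iSup₂_le fun z hz g hg =>
      mem_bot.2 (c.eq_one_of_core hP hQcop hPQ hg.1 (c.cent_U hP hz.1 hz.2 hg.2))))
    exact (normal_sylow_of_no_core hXodd hPX hP.pgroup (c.not_three_relIndex hP hPX)
      (fun _ ha _ hb => c.P_comm hP ha hb) hQ).1

/-- `P` is a trivial intersection set. -/
theorem ti {y : G} (hy : y ∈ P) (hy1 : y ≠ 1) {x : G} (hx : x⁻¹ * y * x ∈ P) :
    x ∈ normalizer (P : Set G) := by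
  have hne : x⁻¹ * y * x ≠ 1 := fun e => hy1 (by
    calc y = x * (x⁻¹ * y * x) * x⁻¹ := by group
      _ = 1 := by rw [e, mul_one, mul_inv_cancel])
  set P' := P.map (MulAut.conj x⁻¹).toMonoidHom with hP'
  have hle : P' ≤ centralizer ({x⁻¹ * y * x} : Set G) := by
    rintro _ ⟨z, hz, rfl⟩
    rw [mem_centralizer_singleton_iff]
    simp only [MulEquiv.coe_toMonoidHom, MulAut.conj_apply, inv_inv]
    calc x⁻¹ * z * x * (x⁻¹ * y * x) = x⁻¹ * (z * y) * x := by group
      _ = x⁻¹ * (y * z) * x := by rw [c.P_comm hP hz hy]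
      _ = _ := by group
  -- `P'` normalises `P`, so they are equal
  haveI : Fact (Nat.Prime 3) := ⟨Nat.prime_three⟩
  obtain ⟨S, hS⟩ := ((hP.pgroup.map (MulAut.conj x⁻¹).toMonoidHom).to_sup_of_normal_right' hP.pgroup
    (hle.trans (c.cent_any hP hx hne))).exists_le_sylow
  have hcard : Nat.card (P' ⊔ P : Subgroup G) ≤ q ^ 3 := by
    rw [← c.card_sylow S]
    exact Nat.le_of_dvd Nat.card_pos (card_dvd_of_le hS)
  have heq : P' = P := (eq_of_le_of_card_ge le_sup_left (hcard.trans
    (le_of_eq (by rw [hP', card_map_of_injective (MulEquiv.injective _), hP.card])))).trans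
    (eq_of_le_of_card_ge le_sup_right (hcard.trans hP.card.ge)).symm
  rw [mem_normalizer_iff]
  intro z
  have : z ∈ P ↔ x * z * x⁻¹ ∈ P := by
    nth_rewrite 1 [← heq]
    simp only [hP', mem_map_equiv, MulAut.conj_symm_apply, inv_inv]
  exact this

/-- There are `q³ + 1` Sylow 3-subgroups and `N(P) = P D`. -/
theorem normalizer_eq : normalizer (P : Set G) = P ⊔ c.D ∧
    Nat.card (normalizer (P : Set G)) = q ^ 3 * (q - 1) := by
  classical
  haveI : Fact (Nat.Prime 3) := ⟨Nat.prime_three⟩
  have hq := c.q_big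
  obtain ⟨S, hS⟩ := hP.pgroup.exists_le_sylow
  have hSP : (S : Subgroup G) = P :=
    (eq_of_le_of_card_ge hS ((c.card_sylow S).le.trans hP.card.ge)).symm
  let X := {R : Sylow 3 G // R ≠ S}
  letI : MulAction P X :=
    { smul := fun z R => ⟨(z : G) • R.1, fun h => R.2 (by
        have hzS : (z : G) • S = S := Sylow.smul_eq_iff_mem_normalizer.2 (le_normalizer (hS z.2))
        exact MulAction.injective (z : G) (h.trans hzS.symm))⟩
      one_smul := fun R => Subtype.ext (one_smul G R.1)
      mul_smul := fun a b R => Subtype.ext (mul_smul (a : G) (b : G) R.1) }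
  have hstab : ∀ R : X, MulAction.stabilizer P R = ⊥ := by
    intro R
    rw [eq_bot_iff_forall]
    intro z hz
    by_contra hz1
    have hzR : (z : G) • R.1 = R.1 := congrArg Subtype.val (MulAction.mem_stabilizer_iff.1 hz)
    have hzmem : (z : G) ∈ R.1 := by
      obtain ⟨k, hk⟩ := IsPGroup.iff_orderOf.1 hP.pgroup z
      rw [← Subgroup.orderOf_coe] at hk
      obtain ⟨T, hT⟩ := ((IsPGroup.of_card (G := zpowers (z : G)) (n := k)
        (by rw [Nat.card_zpowers, hk])).to_sup_of_normal_right' R.1.2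
          (zpowers_le.2 (Sylow.smul_eq_iff_mem_normalizer.1 hzR))).exists_le_sylow
      have heq : (R.1 : Subgroup G) = T := eq_of_le_of_card_ge ((le_sup_right).trans hT)
        (by rw [c.card_sylow T, c.card_sylow R.1])
      show (z : G) ∈ (R.1 : Subgroup G)
      rw [heq]
      exact hT (le_sup_left (b := (R.1 : Subgroup G)) (mem_zpowers (z : G)))
    obtain ⟨g, hg⟩ := MulAction.exists_smul_eq G S R.1
    have hz1' : (z : G) ≠ 1 := fun e => hz1 (Subtype.ext e)
    have hmem : g⁻¹ * z * g ∈ P := by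
      have h1 : (z : G) ∈ ((g • S : Sylow 3 G) : Subgroup G) := hg.symm ▸ hzmem
      rw [Sylow.coe_subgroup_smul] at h1
      obtain ⟨y, hy, he⟩ := h1
      have h2 : g⁻¹ * (z : G) * g ∈ (S : Subgroup G) := by
        rw [← he]
        simp only [MulDistribMulAction.toMonoidEnd_apply, MulDistribMulAction.toMonoidHom_apply,
          MulAut.smul_def, MulAut.conj_apply]
        rwa [show g⁻¹ * (g * y * g⁻¹) * g = y by group]
      exact hSP.le h2
    have hgN := c.ti hP z.2 hz1' hmem
    refine R.2 ?_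
    rw [← hg]
    exact Sylow.smul_eq_iff_mem_normalizer.2 (by
      show g ∈ normalizer ((S : Subgroup G) : Set G)
      rw [hSP]; exact hgN)
  have hX : Nat.card X = Nat.card (MulAction.orbitRel.Quotient P X) * q ^ 3 := by
    rw [← hP.card, ← Nat.card_prod]
    refine Nat.card_congr ((MulAction.selfEquivSigmaOrbitsQuotientStabilizer P X).trans
      ((Equiv.sigmaCongrRight fun ω => ?_).trans (Equiv.sigmaEquivProd _ _)))
    exact (quotientEquivOfEq (hstab _)).trans (QuotientGroup.quotientBot (G := P)).toEquiv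
  have hn : Nat.card (Sylow 3 G) = Nat.card X + 1 := by
    have h : Nat.card (Sylow 3 G) = Nat.card {R : Sylow 3 G // R = S} + Nat.card X := by
      rw [← Nat.card_sum]; exact Nat.card_congr (Equiv.sumCompl _).symm
    rw [h, Nat.card_unique, add_comm]
  rw [S.card_eq_index_normalizer, ← Sylow.coe_coe, hSP, hX] at hn
  -- the order of the normaliser
  have hcop : (Nat.card P).Coprime (Nat.card c.D) := by
    rw [hP.card, c.card_D]
    exact Nat.Coprime.pow_left 3 ((Nat.coprime_self_sub_right (by omega)).2 (Nat.coprime_one_right q))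
  have hle : P ⊔ c.D ≤ normalizer (P : Set G) := sup_le le_normalizer hP.norm
  have hPDcard : Nat.card (P ⊔ c.D : Subgroup G) = q ^ 3 * (q - 1) := by
    rw [Coprime.card_sup_of_coprime hP.norm hcop, hP.card, c.card_D]
  obtain ⟨e, he⟩ := hPDcard ▸ card_dvd_of_le hle
  have h1 := (normalizer (P : Set G)).card_mul_index
  rw [he, c.card_G, hn] at h1
  set a := Nat.card (MulAction.orbitRel.Quotient P X)
  have h2 : e * (a * q ^ 3 + 1) = q ^ 3 + 1 := by
    refine Nat.eq_of_mul_eq_mul_left (show 0 < q ^ 3 * (q - 1) from ?_) ?_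
    · have : 0 < q - 1 := by omega
      positivity
    · rw [← mul_assoc, h1]; ring
  have ha : a ≠ 0 := by
    intro ha
    rw [ha, zero_mul, zero_add] at hn
    haveI : P.Normal := normalizer_eq_top_iff.1 (index_eq_one.1 hn)
    rcases (inferInstance : P.Normal).eq_bot_or_eq_top with e' | e'
    · have h3 := hP.card
      rw [e', card_bot] at h3
      have : 27 ≤ q ^ 3 := le_trans hq (Nat.le_self_pow (by norm_num) q)
      omega
    · have h4 := c.S.ht
      exact absurd ((c.P_odd hP).of_dvd_nat (orderOf_dvd_natCard _ (e' ▸ mem_top c.t : c.t ∈ P)))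
        (by rw [h4]; decide)
  have he1 : e = 1 := by
    by_contra hne
    have he2 : 2 ≤ e := by
      rcases Nat.eq_zero_or_pos e with h0 | h0
      · rw [h0, zero_mul] at h2; omega
      · omega
    have h3 := Nat.mul_le_mul he2 (Nat.add_le_add_right (Nat.le_mul_of_pos_left (q ^ 3)
      (Nat.pos_of_ne_zero ha)) 1)
    omega
  rw [he1, mul_one] at he
  exact ⟨(eq_of_le_of_card_ge hle (by rw [he, hPDcard])).symm, he⟩

end Cfsg.Agent.Walter.Ree.Cfg
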