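import Cfsg.Agent.Lib.Coprime.Sylow
import Cfsg.Agent.Lib.Coprime.Generation
import Cfsg.Agent.Lib.CharP.StronglyClosedOrder
import Cfsg.Agent.Lib.PLocal.PSolvable
import Cfsg.Agent.Lib.PLocal.SolvableSeparable
import Cfsg.Agent.S0205

/-!
# General lemmas for the Ree configuration with abelian Sylow 3-subgroup
-/

set_option autoImplicit false
set_option linter.unusedSectionVars false
set_option linter.style.haveILetI false

namespace Cfsg.Agent.Walter.Ree

open Subgroup

universe u

variable {G : Type u} [Group G] [Finite G]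

theorem prime_orderOf_pow {y : G} (hy : y ≠ 1) :
    ∃ k : ℕ, (orderOf (y ^ k)).Prime ∧ orderOf (y ^ k) ∣ orderOf y := by
  obtain ⟨p, hp, hpd⟩ := Nat.exists_prime_and_dvd (fun e => hy (orderOf_eq_one_iff.1 e) : orderOf y ≠ 1)
  refine ⟨orderOf y / p, ?_, ?_⟩ <;> rw [orderOf_pow_orderOf_div (orderOf_pos y).ne' hpd]
  exacts [hp, hpd]

theorem odd_card_of_forall_odd {K : Subgroup G} (h : ∀ g ∈ K, orderOf g ≠ 2) : Odd (Nat.card K) := by
  by_contra hev
  haveI : Fact (Nat.Prime 2) := ⟨Nat.prime_two⟩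
  obtain ⟨g, hg⟩ := exists_prime_orderOf_dvd_card' (G := K) 2 (even_iff_two_dvd.1 (Nat.not_odd_iff_even.1 hev))
  exact h g g.2 (by rw [Subgroup.orderOf_coe, hg])

theorem odd_orderOf_of_mem {K : Subgroup G} (hK : Odd (Nat.card K)) {g : G} (hg : g ∈ K) :
    Odd (orderOf g) :=
  hK.of_dvd_nat (K.orderOf_dvd_natCard hg)

theorem orderOf_conj' (c g : G) : orderOf (c * g * c⁻¹) = orderOf g := (MulAut.conj c).orderOf_eq g

/-- A subgroup with a Sylow 2-subgroup of order two has a subgroup of index two made of its elements of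
odd order. -/
theorem exists_odd_part (hab : ∀ P : Sylow 2 G, ∀ a b : P, a * b = b * a) {X : Subgroup G} {t : G}
    (ht : orderOf t = 2) (htX : t ∈ X)
    (h : ∀ g ∈ X, g * t = t * g → (∃ k, orderOf g = 2 ^ k) → g = 1 ∨ g = t) :
    ∃ K : Subgroup G, K ≤ X ∧ Nat.card X = 2 * Nat.card K ∧ Odd (Nat.card K) ∧
      ∀ g, g ∈ K ↔ g ∈ X ∧ Odd (orderOf g) := by
  classical
  haveI : Fact (Nat.Prime 2) := ⟨Nat.prime_two⟩
  let t' : X := ⟨t, htX⟩
  have ht' : orderOf t' = 2 := by rw [← Subgroup.orderOf_coe]; exact ht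
  have hz : IsPGroup 2 (zpowers t') := IsPGroup.of_card (n := 1) (by rw [Nat.card_zpowers, ht', pow_one])
  obtain ⟨S, hS⟩ := hz.exists_le_sylow
  have hS2 : (S : Subgroup X) = zpowers t' := by
    refine le_antisymm (fun g hg => ?_) hS
    have hcomm : (g : G) * t = t * g := by
      obtain ⟨R, hR⟩ := (S.2.map X.subtype).exists_le_sylow
      exact congrArg Subtype.val (hab R ⟨_, hR (mem_map_of_mem _ hg)⟩
        ⟨_, hR (mem_map_of_mem _ (hS (mem_zpowers t')))⟩)
    obtain ⟨k, hk⟩ := IsPGroup.iff_orderOf.1 S.2 ⟨g, hg⟩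
    rw [← Subgroup.orderOf_coe] at hk
    rcases h g g.2 hcomm ⟨k, by rw [Subgroup.orderOf_coe]; exact hk⟩ with e | e
    · rw [show g = 1 from Subtype.ext e]; exact one_mem _
    · rw [show g = t' from Subtype.ext e]; exact mem_zpowers t'
  have hScard : Nat.card S = 2 := by
    show Nat.card (S : Subgroup X) = 2
    rw [hS2, Nat.card_zpowers, ht']
  haveI : IsCyclic (S : Subgroup X) := isCyclic_of_prime_card hScard
  obtain ⟨S', N, hN, hc⟩ := CharP.StronglyClosedOrder.hasNormalPComplement_of_cyclic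
    (G := X) (p := 2) (fun q hq _ => hq.two_le) S
  haveI := hN
  have hS'card : Nat.card S' = 2 := by rw [S'.card_eq_multiplicity, ← S.card_eq_multiplicity, hScard]
  have hidx : N.index = 2 := by rw [hc.symm.index_eq_card]; exact hS'card
  have hNodd : Odd (Nat.card N) := by
    have h1 : S'.index = Nat.card N := hc.index_eq_card
    exact Nat.not_even_iff_odd.1 fun he => S'.not_dvd_index (h1 ▸ even_iff_two_dvd.1 he)
  refine ⟨N.map X.subtype, map_subtype_le N, ?_, by rwa [card_subtype], fun g => ⟨?_, ?_⟩⟩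
  · rw [card_subtype, ← hidx, mul_comm, N.card_mul_index]
  · rintro ⟨g, hg, rfl⟩
    refine ⟨g.2, ?_⟩
    show Odd (orderOf (g : G))
    rw [Subgroup.orderOf_coe]
    exact odd_orderOf_of_mem hNodd hg
  · rintro ⟨hgX, hodd⟩
    refine ⟨⟨g, hgX⟩, ?_, rfl⟩
    have h1 : orderOf (QuotientGroup.mk' N ⟨g, hgX⟩) ∣ orderOf g :=
      (orderOf_map_dvd _ _).trans (by rw [← Subgroup.orderOf_coe])
    have h2 : orderOf (QuotientGroup.mk' N ⟨g, hgX⟩) ∣ 2 := by
      rw [← hidx, Subgroup.index_eq_card]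
      exact orderOf_dvd_natCard _
    have h3 := Nat.eq_one_of_dvd_coprimes hodd.coprime_two_right h1 h2
    rw [orderOf_eq_one_iff, QuotientGroup.mk'_apply, QuotientGroup.eq_one_iff] at h3
    exact h3

/-- An involution without fixed points on a group of odd order inverts it. -/
theorem inverts_of_fixed_trivial {K : Subgroup G} {t : G} (ht : t * t = 1)
    (hKt : ∀ k ∈ K, t * k * t⁻¹ ∈ K) (hfix : ∀ k ∈ K, t * k = k * t → k = 1) :
    ∀ k ∈ K, t * k * t⁻¹ = k⁻¹ := by
  let f : K → K := fun k => ⟨(k : G)⁻¹ * (t * k * t⁻¹), mul_mem (inv_mem k.2) (hKt k k.2)⟩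
  have hf : Function.Injective f := fun a b hab => by
    have e : (a : G)⁻¹ * (t * a * t⁻¹) = (b : G)⁻¹ * (t * b * t⁻¹) := congrArg Subtype.val hab
    have h1 : t * ((a : G) * (b : G)⁻¹) * t⁻¹ = (a : G) * (b : G)⁻¹ := by
      calc t * ((a : G) * (b : G)⁻¹) * t⁻¹ = (t * a * t⁻¹) * (t * b * t⁻¹)⁻¹ := by group
        _ = a * ((a : G)⁻¹ * (t * a * t⁻¹)) * (t * b * t⁻¹)⁻¹ := by group
        _ = a * ((b : G)⁻¹ * (t * b * t⁻¹)) * (t * b * t⁻¹)⁻¹ := by rw [e]
        _ = a * (b : G)⁻¹ := by group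
    have h2 := hfix _ (mul_mem a.2 (inv_mem b.2)) (mul_inv_eq_iff_eq_mul.1 h1)
    exact Subtype.ext (mul_inv_eq_one.1 h2)
  intro k hk
  obtain ⟨c, hc⟩ := (Finite.injective_iff_surjective.1 hf) ⟨k, hk⟩
  have e : (c : G)⁻¹ * (t * c * t⁻¹) = k := congrArg Subtype.val hc
  have hti : t⁻¹ = t := inv_eq_of_mul_eq_one_right ht
  rw [← e]
  calc t * ((c : G)⁻¹ * (t * c * t⁻¹)) * t⁻¹ = (t * c * t⁻¹)⁻¹ * (t * t) * c * (t⁻¹ * t⁻¹) := by group
    _ = (t * c * t⁻¹)⁻¹ * c := by rw [hti, ht, mul_one, mul_one]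
    _ = ((c : G)⁻¹ * (t * c * t⁻¹))⁻¹ := by group

/-- A prime dividing the order of a subgroup of odd order normalised by a four-group shows in the
centraliser of one of the involutions. -/
theorem exists_fixed_prime {a b : G} (ha : orderOf a = 2) (hb : orderOf b = 2) (hab : a * b = b * a)
    (hne : a ≠ b) {K : Subgroup G} (hK : Odd (Nat.card K)) (haK : a ∈ normalizer (K : Set G))
    (hbK : b ∈ normalizer (K : Set G)) {p : ℕ} [Fact p.Prime] (hp : p ∣ Nat.card K) :
    ∃ T : Subgroup G, T ≤ K ∧ IsPGroup p T ∧ a ∈ normalizer (T : Set G) ∧ b ∈ normalizer (T : Set G) ∧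
      ∃ v, (v = a ∨ v = b ∨ v = a * b) ∧ ∃ y ∈ T, y ≠ 1 ∧ y * v = v * y := by
  have ha2 : a * a = 1 := by rw [← pow_two, ← ha, pow_orderOf_eq_one]
  have hb2 : b * b = 1 := by rw [← pow_two, ← hb, pow_orderOf_eq_one]
  let V : Subgroup G :=
    { carrier := {g | g = 1 ∨ g = a ∨ g = b ∨ g = a * b}
      one_mem' := Or.inl rfl
      mul_mem' := by
        have h1 : a * (a * b) = b := by rw [← mul_assoc, ha2, one_mul]
        have h2 : b * (a * b) = a := by rw [← mul_assoc, ← hab, mul_assoc, hb2, mul_one]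
        have h3 : a * b * a = b := by rw [hab, mul_assoc, ha2, mul_one]
        have h4 : a * b * b = a := by rw [mul_assoc, hb2, mul_one]
        have h5 : a * b * (a * b) = 1 := by rw [mul_assoc, h2, ha2]
        rintro x y (e | e | e | e) (e' | e' | e' | e') <;> rw [e, e'] <;>
          simp [ha2, hb2, ← hab, h1, h2, h3, h4, h5]
      inv_mem' := by
        rintro x (e | e | e | e) <;> rw [e]
        · simp
        · exact Or.inr (Or.inl (inv_eq_of_mul_eq_one_right ha2))
        · exact Or.inr (Or.inr (Or.inl (inv_eq_of_mul_eq_one_right hb2)))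
        · refine Or.inr (Or.inr (Or.inr ?_))
          rw [mul_inv_rev, inv_eq_of_mul_eq_one_right ha2, inv_eq_of_mul_eq_one_right hb2, hab] }
  have haV : a ∈ V := Or.inr (Or.inl rfl)
  have hbV : b ∈ V := Or.inr (Or.inr (Or.inl rfl))
  haveI hVc : IsMulCommutative V := by
    refine ⟨⟨fun x y => Subtype.ext ?_⟩⟩
    have key : ∀ x : G, x ∈ V → Commute x a ∧ Commute x b := by
      intro x hx
      rcases hx with e | e | e | e <;> rw [e]
      exacts [⟨Commute.one_left _, Commute.one_left _⟩, ⟨Commute.refl _, hab⟩,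
        ⟨(show Commute a b from hab).symm, Commute.refl _⟩,
        ⟨(Commute.refl a).mul_left (show Commute a b from hab).symm,
          (show Commute a b from hab).mul_left (Commute.refl b)⟩]
    obtain ⟨h1, h2⟩ := key x x.2
    rcases y.2 with e | e | e | e <;> show (x : G) * (y : G) = (y : G) * x <;> rw [e]
    · simp
    · exact h1.eq
    · exact h2.eq
    · exact (h1.mul_right h2).eq
  have hVcyc : ¬ IsCyclic V := by
    intro hcy
    obtain ⟨g, hg⟩ := hcy.exists_generator
    have hg2 : g ^ 2 = 1 := by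
      refine Subtype.ext ?_
      show (g : G) ^ 2 = 1
      rcases g.2 with e | e | e | e <;> rw [e, pow_two]
      · exact one_mul 1
      · exact ha2
      · exact hb2
      · rw [(show Commute b a from hab.symm).mul_mul_mul_comm a b, ha2, hb2, one_mul]
    have hcases : ∀ x : V, x = 1 ∨ x = g := fun x => by
      obtain ⟨n, rfl⟩ := mem_zpowers_iff.1 (hg x)
      obtain ⟨k, rfl | rfl⟩ := Int.even_or_odd' n <;> simp [zpow_add, zpow_mul, hg2]
    have hane : (⟨a, haV⟩ : V) ≠ 1 := fun e => by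
      have : a = 1 := congrArg Subtype.val e
      rw [this, orderOf_one] at ha
      exact absurd ha (by norm_num)
    have hbne : (⟨b, hbV⟩ : V) ≠ 1 := fun e => by
      have : b = 1 := congrArg Subtype.val e
      rw [this, orderOf_one] at hb
      exact absurd hb (by norm_num)
    exact hne (congrArg Subtype.val (((hcases _).resolve_left hane).trans ((hcases _).resolve_left hbne).symm))
  have hVK : V ≤ normalizer (K : Set G) := by
    rintro x (e | e | e | e) <;> rw [e]
    exacts [one_mem _, haK, hbK, mul_mem haK hbK]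
  have hV2 : IsPGroup 2 V := by
    intro x
    refine ⟨1, Subtype.ext ?_⟩
    show (x : G) ^ 2 ^ 1 = 1
    rcases x.2 with e | e | e | e <;> rw [e, pow_one, pow_two]
    · exact one_mul 1
    · exact ha2
    · exact hb2
    · rw [(show Commute b a from hab.symm).mul_mul_mul_comm a b, ha2, hb2, one_mul]
  haveI : Fact (Nat.Prime 2) := ⟨Nat.prime_two⟩
  obtain ⟨n, hn⟩ := IsPGroup.iff_card.1 hV2
  have hcop : (Nat.card V).Coprime (Nat.card K) := by
    rw [hn]
    exact Nat.Coprime.pow_left n (Nat.coprime_two_left.2 hK)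
  obtain ⟨T, hT⟩ := Coprime.exists_invariant_sylow p hVK hcop
    (Or.inl (Coprime.isSolvable_of_isMulCommutative V))
  set T' := (T : Subgroup K).map K.subtype
  have hT'K : T' ≤ K := map_subtype_le _
  have hT'ne : T' ≠ ⊥ := by
    rw [Ne, ← Subgroup.card_eq_one, card_subtype]
    intro e
    have h := T.dvd_card_of_dvd_card hp
    rw [e] at h
    exact (Fact.out : p.Prime).ne_one (Nat.dvd_one.1 h)
  have hgen := Coprime.fixedGen_eq hVcyc hT (hcop.coprime_dvd_right (card_dvd_of_le hT'K))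
  refine ⟨T', hT'K, T.2.map _, hT haV, hT hbV, ?_⟩
  by_contra hno
  push Not at hno
  refine hT'ne (le_bot_iff.1 (hgen.symm.le.trans (iSup₂_le fun v hv y hy => ?_)))
  rw [mem_bot]
  by_contra hy1
  obtain ⟨hyT, hyv⟩ := hy
  obtain ⟨hvV, hv1⟩ := hv
  have hv : v = a ∨ v = b ∨ v = a * b := by
    rcases hvV with e | e | e | e
    exacts [absurd e hv1, Or.inl e, Or.inr (Or.inl e), Or.inr (Or.inr e)]
  exact hno v hv y hyT hy1 (mem_centralizer_singleton_iff.1 hyv)

/-- The `p'`-core of a subgroup, as a subgroup of the ambient group. -/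
def coreIn (p : ℕ) (M : Subgroup G) : Subgroup G := (Cfsg.pPrimeCore p M).map M.subtype

theorem coreIn_le (p : ℕ) (M : Subgroup G) : coreIn p M ≤ M := map_subtype_le _

theorem coprime_coreIn (p : ℕ) (M : Subgroup G) : (Nat.card (coreIn p M)).Coprime p := by
  rw [coreIn, card_subtype]
  exact PLocal.Cores.coprime_card_pPrimeCore

/-- An element normalising a subgroup normalises its core. -/
theorem normalizer_le_normalizer_coreIn (p : ℕ) (M : Subgroup G) :
    normalizer (M : Set G) ≤ normalizer (coreIn p M : Set G) := by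
  have key : ∀ g ∈ normalizer (M : Set G), ∀ x ∈ coreIn p M, g * x * g⁻¹ ∈ coreIn p M := by
    intro g hg x hx
    obtain ⟨x', hx', rfl⟩ := hx
    have h1 : (Subgroup.normalizerMonoidHom M ⟨g, hg⟩).toMonoidHom x' ∈ Cfsg.pPrimeCore p M := by
      rw [← PLocal.Cores.map_pPrimeCore_equiv (p := p) (Subgroup.normalizerMonoidHom M ⟨g, hg⟩)]
      exact mem_map_of_mem _ hx'
    exact ⟨_, h1, rfl⟩
  intro g hg
  rw [mem_normalizer_iff]
  refine fun x => ⟨key g hg x, fun h => ?_⟩
  have h1 := key g⁻¹ (inv_mem hg) _ h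
  rwa [show g⁻¹ * (g * x * g⁻¹) * g⁻¹⁻¹ = x by group] at h1

theorem le_normalizer_coreIn (p : ℕ) (M : Subgroup G) : M ≤ normalizer (coreIn p M : Set G) :=
  le_normalizer.trans (normalizer_le_normalizer_coreIn p M)

/-- A group of odd order with an abelian Sylow `p`-subgroup `P` and trivial `p'`-core has `P` as a
normal, self-centralising subgroup. -/
theorem normal_sylow_of_no_core {M P : Subgroup G} (hodd : Odd (Nat.card M)) {p : ℕ} [Fact p.Prime]
    (hPM : P ≤ M) (hPp : IsPGroup p P) (hsy : ¬ p ∣ P.relIndex M)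
    (habP : ∀ a ∈ P, ∀ b ∈ P, a * b = b * a)
    (hcore : coreIn p M = ⊥) :
    M ≤ normalizer (P : Set G) ∧ ∀ m ∈ M, (∀ z ∈ P, m * z = z * m) → m ∈ P := by
  haveI : Group.IsSolvable M := S0205.result hodd
  let P' : Sylow p M := (hPp.comap_subtype (K := M)).toSylow hsy
  have hP' : (P' : Subgroup M) = P.subgroupOf M := rfl
  have hO : Cfsg.pPrimeCore p M = ⊥ := (map_eq_bot_iff_of_injective _ M.subtype_injective).1 hcore
  have hHH := PLocal.PSolvable.centralizer_pCore_le hO
    (PLocal.SolvableSeparable.isPSolvable_of_isSolvable p _)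
  have hle : Cfsg.pCore p M ≤ (P' : Subgroup M) := PLocal.Cores.pCore_le_sylow P'
  have hge : (P' : Subgroup M) ≤ Cfsg.pCore p M := fun x hx => hHH (mem_centralizer_iff.2 fun y hy =>
    Subtype.ext (habP _ (hle hy) _ hx))
  have heq : (P.subgroupOf M) = Cfsg.pCore p M := hP' ▸ le_antisymm hge hle
  refine ⟨?_, fun m hm hc => ?_⟩
  · haveI : (P.subgroupOf M).Normal := heq ▸ (inferInstance : (Cfsg.pCore p M).Normal)
    exact (normal_subgroupOf_iff_le_normalizer hPM).1 inferInstance
  · have h1 : (⟨m, hm⟩ : M) ∈ Cfsg.pCore p M := hHH (mem_centralizer_iff.2 fun y hy =>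
      Subtype.ext (hc _ (hle hy)).symm)
    rw [← heq, mem_subgroupOf] at h1
    exact h1

end Cfsg.Agent.Walter.Ree
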