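import Mathlib
import Cfsg.Agent.Lib.Forms.KleinPSL
import Cfsg.Agent.Lib.Coprime.Basic

/-!
# Borel subgroup and Weyl element of `PSL₂(q)`
-/

set_option autoImplicit false
set_option linter.unusedSectionVars false
set_option linter.style.haveILetI false

namespace Cfsg.Agent.Walter.ReeTwoTrans

open Subgroup Cfsg.Agent.Forms.KleinPSL
open scoped MatrixGroups

variable (F : Type*) [Field F]

local notation "PG" => Matrix.ProjectiveSpecialLinearGroup (Fin 2) F

/-- Upper unitriangular matrices. -/
def upSL : Multiplicative F →* SL(2, F) where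
  toFun a := ⟨!![1, Multiplicative.toAdd a; 0, 1], by rw [Matrix.det_fin_two_of]; ring⟩
  map_one' := Subtype.ext (by
    rw [Matrix.SpecialLinearGroup.coe_one]; ext i j; fin_cases i <;> fin_cases j <;> simp)
  map_mul' a b := Subtype.ext (by
    show !![1, Multiplicative.toAdd (a * b); 0, 1] =
      !![1, Multiplicative.toAdd a; 0, 1] * !![1, Multiplicative.toAdd b; 0, 1]
    ext i j
    fin_cases i <;> fin_cases j <;> simp [Matrix.mul_apply, Fin.sum_univ_two, add_comm])

/-- Diagonal matrices. -/
def dgSL : Fˣ →* SL(2, F) where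
  toFun c := ⟨!![(c : F), 0; 0, ((c⁻¹ : Fˣ) : F)], by rw [Matrix.det_fin_two_of]; simp⟩
  map_one' := Subtype.ext (by
    rw [Matrix.SpecialLinearGroup.coe_one]; ext i j; fin_cases i <;> fin_cases j <;> simp)
  map_mul' a b := Subtype.ext (by
    show !![((a * b : Fˣ) : F), 0; 0, (((a * b)⁻¹ : Fˣ) : F)] =
      !![(a : F), 0; 0, ((a⁻¹ : Fˣ) : F)] * !![(b : F), 0; 0, ((b⁻¹ : Fˣ) : F)]
    ext i j
    fin_cases i <;> fin_cases j <;> simp [Matrix.mul_apply, Fin.sum_univ_two, mul_comm])

/-- The Weyl element. -/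
def weylSL : SL(2, F) := ⟨!![0, 1; -1, 0], by rw [Matrix.det_fin_two_of]; ring⟩

variable {F}

theorem upSL_coe (a : Multiplicative F) :
    (upSL F a : Matrix (Fin 2) (Fin 2) F) = !![1, Multiplicative.toAdd a; 0, 1] := rfl

theorem dgSL_coe (c : Fˣ) :
    (dgSL F c : Matrix (Fin 2) (Fin 2) F) = !![(c : F), 0; 0, ((c⁻¹ : Fˣ) : F)] := rfl

theorem weylSL_coe : (weylSL F : Matrix (Fin 2) (Fin 2) F) = !![0, 1; -1, 0] := rfl

theorem eq_mul_of_lower_zero (g : SL(2, F)) (h : g.1 1 0 = 0) :
    ∃ a c, g = upSL F a * dgSL F c := by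
  have hd := g.2
  rw [Matrix.det_fin_two, h, mul_zero, sub_zero] at hd
  refine ⟨Multiplicative.ofAdd (g.1 0 1 * g.1 0 0), ⟨g.1 0 0, g.1 1 1, hd, by rw [mul_comm]; exact hd⟩,
    Subtype.ext ?_⟩
  rw [Matrix.SpecialLinearGroup.coe_mul, upSL_coe, dgSL_coe]
  ext i j
  fin_cases i <;> fin_cases j <;> simp [Matrix.mul_apply, Fin.sum_univ_two, h]
  linear_combination -(g.1 0 1) * hd

theorem dgSL_upSL (c : Fˣ) (a : Multiplicative F) :
    dgSL F c * upSL F a = upSL F (Multiplicative.ofAdd ((c : F) * c * Multiplicative.toAdd a)) *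
      dgSL F c := by
  refine Subtype.ext ?_
  rw [Matrix.SpecialLinearGroup.coe_mul, Matrix.SpecialLinearGroup.coe_mul, upSL_coe, upSL_coe,
    dgSL_coe]
  ext i j
  fin_cases i <;> fin_cases j <;> simp [Matrix.mul_apply, Fin.sum_univ_two]
  have := c.ne_zero
  field_simp

theorem weylSL_dgSL (c : Fˣ) : weylSL F * dgSL F c = dgSL F c⁻¹ * weylSL F := by
  refine Subtype.ext ?_
  rw [Matrix.SpecialLinearGroup.coe_mul, Matrix.SpecialLinearGroup.coe_mul, dgSL_coe, dgSL_coe,
    weylSL_coe]
  ext i j
  fin_cases i <;> fin_cases j <;> simp [Matrix.mul_apply, Fin.sum_univ_two]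

theorem weylSL_sq : weylSL F * weylSL F = -1 := by
  refine Subtype.ext ?_
  rw [Matrix.SpecialLinearGroup.coe_mul, Matrix.SpecialLinearGroup.coe_neg,
    Matrix.SpecialLinearGroup.coe_one, weylSL_coe]
  ext i j
  fin_cases i <;> fin_cases j <;> simp [Matrix.mul_apply, Fin.sum_univ_two]

variable [Fintype F]

variable (F) in
/-- The image of the unitriangular group. -/
def upP : Subgroup PG := ((pi F).comp (upSL F)).range

variable (F) in
/-- The image of the diagonal group. -/
def dgP : Subgroup PG := ((pi F).comp (dgSL F)).range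

variable (F) in
/-- The image of the Weyl element. -/
def weylP : PG := pi F (weylSL F)

theorem weylP_sq : weylP F * weylP F = 1 := by
  rw [weylP, ← map_mul]
  exact pi_eq_one.2 (Or.inr weylSL_sq)

theorem weylP_ne_one : weylP F ≠ 1 := by
  intro h
  rcases pi_eq_one.1 h with h | h
  · have := congrFun (congrFun (congrArg Subtype.val h) 0) 1
    simp [weylSL_coe] at this
  · have := congrFun (congrFun (congrArg Subtype.val h) 0) 1
    simp [weylSL_coe, Matrix.SpecialLinearGroup.coe_neg] at this

theorem weylP_conj_dgP {x : PG} (hx : x ∈ dgP F) : weylP F * x * weylP F ∈ dgP F := by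
  obtain ⟨c, rfl⟩ := hx
  refine ⟨c⁻¹, ?_⟩
  show pi F (dgSL F c⁻¹) = pi F (weylSL F) * pi F (dgSL F c) * pi F (weylSL F)
  rw [← map_mul, ← map_mul, weylSL_dgSL, mul_assoc, weylSL_sq, mul_neg_one]
  exact (pi_neg _).symm

theorem dgP_le_normalizer : dgP F ≤ normalizer (upP F : Set PG) := by
  rw [Subgroup.le_normalizer_iff]
  rintro _ ⟨c, rfl⟩ _ ⟨a, rfl⟩
  refine ⟨Multiplicative.ofAdd ((c : F) * c * Multiplicative.toAdd a), ?_⟩
  show pi F (upSL F _) = pi F (dgSL F c) * pi F (upSL F a) * (pi F (dgSL F c))⁻¹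
  rw [eq_mul_inv_iff_mul_eq, ← map_mul, ← map_mul, ← dgSL_upSL]

/-- Only the Borel subgroup normalises the unitriangular group. -/
theorem mem_of_normalize {g : PG} (h : ∀ u ∈ upP F, g * u * g⁻¹ ∈ upP F) :
    ∃ u ∈ upP F, ∃ s ∈ dgP F, g = u * s := by
  obtain ⟨X, rfl⟩ := pi_surjective g
  obtain ⟨b, hb⟩ := h _ ⟨Multiplicative.ofAdd 1, rfl⟩
  have e : pi F (upSL F b) * pi F X = pi F X * pi F (upSL F (Multiplicative.ofAdd 1)) := by
    rw [show pi F (upSL F b) = ((pi F).comp (upSL F)) b from rfl, hb, inv_mul_cancel_right]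
    rfl
  rw [← map_mul, ← map_mul, pi_eq_iff] at e
  have hX : X.1 1 0 = 0 := by
    rcases e with e | e
    · have := congrFun (congrFun (congrArg Subtype.val e) 1) 1
      rw [Matrix.SpecialLinearGroup.coe_mul, Matrix.SpecialLinearGroup.coe_mul, upSL_coe,
        upSL_coe] at this
      simp [Matrix.mul_apply, Fin.sum_univ_two] at this
      exact this
    · have h0 := congrFun (congrFun (congrArg Subtype.val e) 1) 0
      have h1 := congrFun (congrFun (congrArg Subtype.val e) 1) 1
      rw [Matrix.SpecialLinearGroup.coe_neg, Matrix.SpecialLinearGroup.coe_mul,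
        Matrix.SpecialLinearGroup.coe_mul, upSL_coe, upSL_coe] at h0 h1
      simp [Matrix.mul_apply, Fin.sum_univ_two] at h0 h1
      by_contra h2
      have h2' : (2 : F) = 0 := (mul_eq_zero.1 (by linear_combination h0 :
        (2 : F) * X.1 1 0 = 0)).resolve_right h2
      refine h2 ?_
      linear_combination h1 - (X.1 1 1) * h2'
  obtain ⟨a, c, rfl⟩ := eq_mul_of_lower_zero X hX
  exact ⟨_, ⟨a, rfl⟩, _, ⟨c, rfl⟩, map_mul _ _ _⟩

theorem upP_conj_inter {x : PG} (hx : x ∈ upP F) (hw : weylP F * x * weylP F ∈ upP F) : x = 1 := by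
  obtain ⟨a, rfl⟩ := hx
  obtain ⟨b, hb⟩ := hw
  have e : pi F (upSL F b) = pi F (weylSL F * upSL F a * weylSL F) := by
    rw [map_mul, map_mul]; exact hb
  rw [pi_eq_iff] at e
  have ha : Multiplicative.toAdd a = 0 := by
    rcases e with e | e <;>
    · have := congrFun (congrFun (congrArg Subtype.val e) 1) 0
      simp [upSL_coe, weylSL_coe, Matrix.SpecialLinearGroup.coe_neg,
        Matrix.SpecialLinearGroup.coe_mul, Matrix.mul_apply, Fin.sum_univ_two] at this
      first | exact this | exact this.symm | (rw [this]; simp) | (rw [← this]; simp)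
  have : a = 1 := ha
  rw [this, map_one]

theorem upP_inf_dgP (x : PG) (hu : x ∈ upP F) (hd : x ∈ dgP F) : x = 1 := by
  obtain ⟨a, rfl⟩ := hu
  obtain ⟨c, hc⟩ := hd
  change pi F (dgSL F c) = pi F (upSL F a) at hc
  have ha : Multiplicative.toAdd a = 0 := by
    rcases pi_eq_iff.1 hc with e | e <;>
    · have := congrFun (congrFun (congrArg Subtype.val e) 0) 1
      simp [upSL_coe, dgSL_coe, Matrix.SpecialLinearGroup.coe_neg] at this
      first | exact this | exact this.symm | (rw [this]; simp) | (rw [← this]; simp)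
  have : a = 1 := ha
  rw [this, map_one]

theorem natCard_upP : Nat.card (upP F) = Fintype.card F := by
  rw [← Nat.card_eq_fintype_card, ← Nat.card_congr (Multiplicative.toAdd (α := F))]
  refine (Nat.card_congr (MonoidHom.ofInjective ?_).toEquiv).symm
  rw [injective_iff_map_eq_one]
  intro a ha
  have : Multiplicative.toAdd a = 0 := by
    rcases pi_eq_one.1 (show pi F (upSL F a) = 1 from ha) with e | e <;>
    · have := congrFun (congrFun (congrArg Subtype.val e) 0) 1
      simp [upSL_coe, Matrix.SpecialLinearGroup.coe_neg] at this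
      exact this
  exact this

theorem natCard_dgP (h2 : (2 : F) ≠ 0) : 2 * Nat.card (dgP F) = Fintype.card F - 1 := by
  classical
  have hker : ∀ c : Fˣ, ((pi F).comp (dgSL F)) c = 1 ↔ c = 1 ∨ c = -1 := by
    intro c
    constructor
    · intro h
      rcases pi_eq_one.1 (show pi F (dgSL F c) = 1 from h) with e | e
      · left
        have := congrFun (congrFun (congrArg Subtype.val e) 0) 0
        simp [dgSL_coe] at this
        exact Units.ext (by simpa using this)
      · right
        have := congrFun (congrFun (congrArg Subtype.val e) 0) 0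
        simp [dgSL_coe, Matrix.SpecialLinearGroup.coe_neg] at this
        exact Units.ext (by simpa using this)
    · rintro (rfl | rfl)
      · exact map_one _
      · refine pi_eq_one.2 (Or.inr (Subtype.ext ?_))
        rw [dgSL_coe, Matrix.SpecialLinearGroup.coe_neg, Matrix.SpecialLinearGroup.coe_one]
        ext i j
        fin_cases i <;> fin_cases j <;> simp
  have hk : Nat.card ((pi F).comp (dgSL F)).ker = 2 := by
    rw [← SetLike.coe_sort_coe, Nat.card_coe_set_eq,
      show ((((pi F).comp (dgSL F)).ker : Subgroup Fˣ) : Set Fˣ) = {1, -1} from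
        Set.ext fun c => hker c]
    refine Set.ncard_pair fun h => h2 ?_
    have := congrArg Units.val h
    simp at this
    linear_combination this
  have := Subgroup.card_mul_index ((pi F).comp (dgSL F)).ker
  rw [Subgroup.index_ker, hk, Nat.card_units, Nat.card_eq_fintype_card (α := F)] at this
  exact this

variable (F) in
/-- The Borel subgroup. -/
def borelP : Subgroup PG := upP F ⊔ dgP F

theorem natCard_borelP (h2 : (2 : F) ≠ 0) : 2 * Nat.card (borelP F) = Fintype.card F * (Fintype.card F - 1) := by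
  have hd : Disjoint (upP F) (dgP F) := Subgroup.disjoint_def.2 fun hu hs => upP_inf_dgP _ hu hs
  rw [borelP, Coprime.card_sup_of_disjoint dgP_le_normalizer hd, natCard_upP, ← natCard_dgP h2]
  ring

end Cfsg.Agent.Walter.ReeTwoTrans
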