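import Mathlib
import Cfsg.Agent.Lib.Cores.Fitting
import Cfsg.Agent.Lib.Coprime.Sylow
import Cfsg.Agent.S0205

/-!
# An involution with a small centraliser on a group of odd order

If `X` has odd order, the involution `τ` centralises a subgroup `T` of `X` containing full Sylow
subgroups for its primes, `3` does not divide `|T|` and `O_3 = 1`, then `3` does not divide `|X|`.
-/

set_option autoImplicit false
set_option linter.unusedSectionVars false
set_option linter.style.haveILetI false

namespace Cfsg.Agent.Walter.ReeTwoTrans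

open Subgroup

variable {W : Type*} [Group W] [Finite W]

/-- An involution without fixed points inverts. -/
theorem inverts_of_fpf {τ : W} (hτ : τ * τ = 1) {Q : Subgroup W}
    (hQ : ∀ v ∈ Q, τ * v * τ ∈ Q) (hfix : ∀ v ∈ Q, Commute v τ → v = 1) :
    ∀ v ∈ Q, τ * v * τ = v⁻¹ := by
  intro v hv
  let φ : Q →* Q :=
    { toFun := fun x => ⟨τ * x * τ, hQ x x.2⟩
      map_one' := Subtype.ext (by simp [hτ])
      map_mul' := fun a b => Subtype.ext (by
        show τ * ((a : W) * b) * τ = τ * a * τ * (τ * b * τ)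
        simp only [mul_assoc]
        rw [← mul_assoc τ τ, hτ, one_mul]) }
  have hinv : Function.Involutive φ := fun x => Subtype.ext (by
    show τ * (τ * x * τ) * τ = x
    simp only [mul_assoc]
    rw [hτ, mul_one, ← mul_assoc, hτ, one_mul])
  have hfpf : MonoidHom.FixedPointFree φ := fun x hx => Subtype.ext (hfix x x.2 (by
    have h : τ * x * τ = x := congrArg Subtype.val hx
    show (x : W) * τ = τ * x
    nth_rewrite 1 [← h]
    rw [mul_assoc, hτ, mul_one]))
  exact congrArg Subtype.val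
    (congrFun (MonoidHom.FixedPointFree.coe_eq_inv_of_involutive hfpf hinv) ⟨v, hv⟩)

/-- An inverted element and its inverse act alike on a subgroup centralised or inverted. -/
theorem sq_commute {τ y v : W} (hτ : τ * τ = 1) (hy : τ * y * τ = y⁻¹)
    (h : Commute v τ ∧ Commute (y * v * y⁻¹) τ ∨
      τ * v * τ = v⁻¹ ∧ τ * (y * v * y⁻¹) * τ = (y * v * y⁻¹)⁻¹) :
    Commute (y ^ 2) v := by
  have hc : ∀ a b : W, τ * (a * b) * τ = τ * a * τ * (τ * b * τ) := by
    intro a b
    simp only [mul_assoc]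
    rw [← mul_assoc τ τ, hτ, one_mul]
  have hy' : τ * y⁻¹ * τ = y := by
    rw [← hy]
    simp only [mul_assoc]
    rw [hτ, mul_one, ← mul_assoc, hτ, one_mul]
  have key : τ * (y * v * y⁻¹) * τ = y⁻¹ * (τ * v * τ) * y := by
    rw [hc, hc, hy, hy']
  rcases h with ⟨h1, h2⟩ | ⟨h1, h2⟩
  · have e : ∀ x : W, Commute x τ → τ * x * τ = x := fun x hx => by
      rw [← hx.eq, mul_assoc, hτ, mul_one]
    rw [e _ h1, e _ h2] at key
    show y ^ 2 * v = v * y ^ 2
    calc y ^ 2 * v = y * (y * v * y⁻¹) * y := by simp [pow_two, mul_assoc]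
      _ = y * (y⁻¹ * v * y) * y := by rw [key]
      _ = v * y ^ 2 := by simp [pow_two, mul_assoc]
  · rw [h1, h2] at key
    have e : y * v * y⁻¹ = y⁻¹ * v * y := by
      have := congrArg Inv.inv key
      simpa [mul_assoc] using this
    show y ^ 2 * v = v * y ^ 2
    calc y ^ 2 * v = y * (y * v * y⁻¹) * y := by simp [pow_two, mul_assoc]
      _ = y * (y⁻¹ * v * y) * y := by rw [e]
      _ = v * y ^ 2 := by simp [pow_two, mul_assoc]

theorem mem_of_sq_mem {Y : Subgroup W} {y : W} (hodd : Odd (orderOf y)) (h : y ^ 2 ∈ Y) : y ∈ Y := by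
  obtain ⟨k, hk⟩ := hodd
  have : y = (y ^ 2) ^ (k + 1) := by
    rw [← pow_mul, show 2 * (k + 1) = orderOf y + 1 by omega, pow_succ, pow_orderOf_eq_one, one_mul]
  rw [this]
  exact pow_mem h _

theorem not_three_dvd {τ : W} (hτ : τ * τ = 1) {X T : Subgroup W} [X.Normal]
    (hXodd : Odd (Nat.card X)) (hTc : ∀ a ∈ T, Commute a τ)
    (hcent : ∀ x ∈ X, Commute x τ → x ∈ T) (hT3 : ¬ 3 ∣ Nat.card T)
    (hfull : ∀ r : ℕ, r.Prime → r ∣ Nat.card T → ¬ r ∣ T.index)
    (h3 : Cfsg.pCore 3 W = ⊥) : ¬ 3 ∣ Nat.card X := by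
  classical
  haveI : Fact (Nat.Prime 3) := ⟨Nat.prime_three⟩
  haveI : Group.IsSolvable X := Cfsg.Agent.S0205.result hXodd
  -- elements of 3-power order of `X` in `T` are trivial
  have hT1 : ∀ x ∈ T, ∀ k : ℕ, x ^ 3 ^ k = 1 → x = 1 := by
    intro x hx k hk
    refine orderOf_eq_one_iff.1 (Nat.eq_one_of_dvd_coprimes
      (Nat.Coprime.pow_left k (Nat.prime_three.coprime_iff_not_dvd.2 hT3))
      (orderOf_dvd_of_pow_eq_one hk) (Subgroup.orderOf_dvd_natCard _ hx))
  -- inverted 3-elements are trivial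
  have hinv : ∀ y ∈ X, ∀ k : ℕ, y ^ 3 ^ k = 1 → τ * y * τ = y⁻¹ → y = 1 := by
    intro y hy k hk hyi
    have hyo : Odd (orderOf y) :=
      (Odd.pow (by decide)).of_dvd_nat (orderOf_dvd_of_pow_eq_one hk)
    set y' : X := ⟨y, hy⟩ with hy'
    have hR : ∀ r : ℕ, r.Prime → ∀ v ∈ Cfsg.pCore r X, Commute (y ^ 2) (v : W) := by
      intro r hr v hv
      haveI : Fact r.Prime := ⟨hr⟩
      set R : Subgroup W := (Cfsg.pCore r X).map X.subtype with hRdef
      haveI hRn : R.Normal := Agent.Cores.normal_map_subtype X _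
      have hRp : IsPGroup r R := (Agent.Cores.pCore_isPGroup r).map _
      have hvR : (v : W) ∈ R := ⟨v, hv, rfl⟩
      have hRX : R ≤ X := map_subtype_le _
      have hτR : ∀ x ∈ R, τ * x * τ ∈ R := fun x hx => by
        have h := hRn.conj_mem x hx τ
        rwa [inv_eq_of_mul_eq_one_right hτ] at h
      refine sq_commute hτ hyi ?_
      have hyv : y * v * y⁻¹ ∈ R := hRn.conj_mem _ hvR y
      by_cases hrT : r ∣ Nat.card T
      · left
        obtain ⟨P⟩ : Nonempty (Sylow r T) := inferInstance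
        have hidx : ¬ r ∣ ((P : Subgroup T).map T.subtype).index := by
          rw [index_map_subtype]
          intro hd
          rcases hr.dvd_mul.1 hd with h | h
          · exact P.not_dvd_index h
          · exact hfull r hr hrT h
        set P' := (P.2.map T.subtype).toSylow hidx
        have hle : R ≤ T := fun x hx => by
          have h1 : x ∈ (P' : Subgroup W) := IsPGroup.le_sylow_of_normal hRp P' hx
          exact map_subtype_le _ (show x ∈ (P : Subgroup T).map T.subtype from h1)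
        exact ⟨hTc _ (hle hvR), hTc _ (hle hyv)⟩
      · right
        have hfix : ∀ x ∈ R, Commute x τ → x = 1 := by
          intro x hx hc
          obtain ⟨j, hj⟩ := hRp ⟨x, hx⟩
          refine orderOf_eq_one_iff.1 (Nat.eq_one_of_dvd_coprimes
            (Nat.Coprime.pow_left j (hr.coprime_iff_not_dvd.2 hrT))
            (orderOf_dvd_of_pow_eq_one (congrArg Subtype.val hj))
            (Subgroup.orderOf_dvd_natCard _ (hcent x (hRX hx) hc)))
        exact ⟨inverts_of_fpf hτ hτR hfix _ hvR, inverts_of_fpf hτ hτR hfix _ hyv⟩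
    have hF : y' ^ 2 ∈ Cfsg.fittingSubgroup X := by
      refine Agent.Cores.centralizer_fittingSubgroup_le ?_
      rw [mem_centralizer_iff]
      intro v hv
      have hle : Cfsg.fittingSubgroup X ≤ centralizer ({y' ^ 2} : Set X) := by
        rw [Agent.Cores.fittingSubgroup_eq_iSup]
        refine iSup_le fun p => fun x hx => ?_
        rw [mem_centralizer_singleton_iff]
        exact Subtype.ext (hR _ (Nat.prime_of_mem_primeFactors p.2) x hx).eq.symm
      exact mem_centralizer_singleton_iff.1 (hle hv)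
    have hy'o : Odd (orderOf y') := by rwa [hy', Subgroup.orderOf_mk]
    have hyF := mem_of_sq_mem hy'o hF
    -- the 3-part of the Fitting subgroup
    obtain ⟨P⟩ : Nonempty (Sylow 3 (Cfsg.fittingSubgroup X)) := inferInstance
    haveI : Group.IsNilpotent (Cfsg.fittingSubgroup X) := Agent.Cores.fittingSubgroup_isNilpotent
    haveI : (P : Subgroup (Cfsg.fittingSubgroup X)).Normal := inferInstance
    have hz : IsPGroup 3 (zpowers (⟨y', hyF⟩ : Cfsg.fittingSubgroup X)) := by
      refine IsPGroup.iff_card.2 ?_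
      obtain ⟨j, -, hj⟩ := (Nat.dvd_prime_pow Nat.prime_three).1 (orderOf_dvd_of_pow_eq_one hk)
      exact ⟨j, by rw [Nat.card_zpowers, Subgroup.orderOf_mk, hy', Subgroup.orderOf_mk, hj]⟩
    obtain ⟨P₁, hP₁⟩ := hz.exists_le_sylow
    have hmem : y' ∈ Cfsg.pCore 3 X := by
      rw [← Agent.Cores.sylow_fitting_map P₁]
      exact ⟨_, hP₁ (mem_zpowers _), rfl⟩
    have h4 := Agent.Cores.map_pCore_subtype_le 3 X (mem_map_of_mem X.subtype hmem)
    rw [h3, mem_bot] at h4
    exact h4
  -- an invariant Sylow subgroup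
  intro hd
  have hA : zpowers τ ≤ normalizer (X : Set W) := le_normalizer_of_normal
  have hτo : orderOf τ ∣ 2 := orderOf_dvd_of_pow_eq_one (by rw [pow_two, hτ])
  have hcop : (Nat.card (zpowers τ)).Coprime (Nat.card X) := by
    rw [Nat.card_zpowers]
    exact Nat.Coprime.coprime_dvd_left hτo (Nat.coprime_two_left.2 hXodd)
  obtain ⟨Q, hQ⟩ := Coprime.exists_invariant_sylow 3 hA hcop
    (Or.inl (Coprime.isSolvable_of_isMulCommutative _))
  set Q' := (Q : Subgroup X).map X.subtype with hQ'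
  have hQτ : ∀ v ∈ Q', τ * v * τ ∈ Q' := fun v hv => by
    have h := (mem_normalizer_iff.1 (hQ (mem_zpowers τ)) v).1 hv
    rwa [inv_eq_of_mul_eq_one_right hτ] at h
  have hfix : ∀ v ∈ Q', Commute v τ → v = 1 := by
    intro v hv hc
    obtain ⟨j, hj⟩ := (Q.2.map X.subtype) ⟨v, hv⟩
    exact hT1 v (hcent v (map_subtype_le _ hv) hc) j (congrArg Subtype.val hj)
  refine Q.ne_bot_of_dvd_card hd (Subgroup.eq_bot_iff_forall _ |>.2 fun x hx => Subtype.ext ?_)
  have hxQ : (x : W) ∈ Q' := ⟨x, hx, rfl⟩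
  obtain ⟨j, hj⟩ := (Q.2.map X.subtype) ⟨(x : W), hxQ⟩
  exact hinv x x.2 j (congrArg Subtype.val hj) (inverts_of_fpf hτ hQτ hfix _ hxQ)

end Cfsg.Agent.Walter.ReeTwoTrans
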