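import Mathlib
import Cfsg.Agent.Lib.JT.Local
import Cfsg.Agent.Lib.GoldSFour.Ree
import Cfsg.Agent.Lib.Walter.ReeTwoTransitiveBorel
import Cfsg.Agent.Lib.Walter.ReeTwoTransitiveSolvable

/-!
# A simple group of Ree order and Ree type is doubly transitive

`G` simple with abelian Sylow 2-subgroups, `C(t) ≅ C₂ × PSL₂(q)`, `q = 3^(2m+1)`, and
`|G| = q³(q³+1)(q-1)`: the normaliser `M` of a Sylow 3-subgroup `S` normalised by the torus of
`C(t)` has index `q³+1`, and `S` is regular on the other cosets since `S ∩ wSw = 1`.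
-/

set_option autoImplicit false
set_option linter.unusedSectionVars false
set_option linter.style.haveILetI false

namespace Cfsg.Agent.Walter.ReeTwoTrans

open Subgroup Cfsg.Agent.Forms.KleinPSL
open Cfsg.Agent.JT (Setup)

universe u v

theorem exists_pow_order_three {K : Type*} [Group K] {y : K} {k : ℕ} (hk : y ^ 3 ^ k = 1)
    (hy : y ≠ 1) : ∃ i : ℕ, (y ^ 3 ^ i) ^ 3 = 1 ∧ y ^ 3 ^ i ≠ 1 := by
  obtain ⟨j, -, hj⟩ := (Nat.dvd_prime_pow Nat.prime_three).1 (orderOf_dvd_of_pow_eq_one hk)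
  obtain ⟨j, rfl⟩ : ∃ i, j = i + 1 := Nat.exists_eq_succ_of_ne_zero (by
    rintro rfl
    exact hy (orderOf_eq_one_iff.1 hj))
  refine ⟨j, by rw [← pow_mul, ← pow_succ, ← hj, pow_orderOf_eq_one], fun h => ?_⟩
  have := Nat.le_of_dvd (by positivity) (hj ▸ orderOf_dvd_of_pow_eq_one h)
  have h0 : 0 < 3 ^ j := by positivity
  rw [pow_succ] at this
  omega

theorem z2_eq_one_of_odd {b : Multiplicative (ZMod 2)} {k : ℕ} (hk : Odd k) (h : b ^ k = 1) :
    b = 1 := by
  obtain ⟨j, rfl⟩ := hk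
  rwa [pow_succ, pow_mul, pow_two, JT.Loc.z2_sq, one_pow, one_mul] at h

variable {G : Type u} [Group G] [Finite G] {F : Type v} [Field F] [Fintype F] {n : ℕ}

local notation "PG" => Matrix.ProjectiveSpecialLinearGroup (Fin 2) F

theorem two_ne_zero' (hF : Fintype.card F = 3 ^ (2 * n + 1)) : (2 : F) ≠ 0 :=
  Classical.SylowSL2.two_ne_zero_of_odd (hF ▸ Odd.pow (by decide))

theorem natCard_dgP_odd (hF : Fintype.card F = 3 ^ (2 * n + 1)) :
    Odd (Nat.card (dgP F)) ∧ ¬ 3 ∣ Nat.card (dgP F) := by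
  have h := natCard_dgP (F := F) (two_ne_zero' hF)
  have h8 := GoldSFour.card_mod_eight hF
  have h3 : Fintype.card F % 3 = 0 := by rw [hF, pow_succ]; simp
  refine ⟨Nat.odd_iff.2 (by omega), ?_⟩
  omega

theorem natCard_borelP_odd (hF : Fintype.card F = 3 ^ (2 * n + 1)) : Odd (Nat.card (borelP F)) := by
  have h := natCard_borelP (F := F) (two_ne_zero' hF)
  rw [← natCard_dgP (F := F) (two_ne_zero' hF), mul_left_comm] at h
  rw [Nat.eq_of_mul_eq_mul_left two_pos h]
  exact (hF ▸ Odd.pow (by decide)).mul (natCard_dgP_odd hF).1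

/-- `U₀`, the unitriangular group in the centraliser. -/
noncomputable def U0 (H : Setup G PG) : Subgroup G := (upP F).map H.embK

/-- `⟨t⟩ × T`. -/
noncomputable def A0 (H : Setup G PG) : Subgroup G :=
  ((⊤ : Subgroup (Multiplicative (ZMod 2))).prod (dgP F)).map H.emb

variable {H : Setup G (Matrix.ProjectiveSpecialLinearGroup (Fin 2) F)}

theorem embK_apply (k : PG) : H.embK k = H.emb (1, k) := rfl

theorem isPGroup_U0 (hF : Fintype.card F = 3 ^ (2 * n + 1)) : IsPGroup 3 (U0 H) :=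
  (IsPGroup.of_card (n := 2 * n + 1) (natCard_upP.trans hF)).map _

theorem U0_le_centralizer : U0 H ≤ centralizer ({H.t} : Set G) := by
  rintro _ ⟨k, -, rfl⟩
  exact mem_centralizer_singleton_iff.2 (JT.Loc.emb_commute H (1, k)).eq

/-- A 3-subgroup of the centraliser over `U₀` is `U₀`. -/
theorem three_group_eq (hF : Fintype.card F = 3 ^ (2 * n + 1)) {R : Subgroup G}
    (hR : IsPGroup 3 R) (hUR : U0 H ≤ R) (hRC : R ≤ centralizer ({H.t} : Set G)) : R = U0 H := by
  refine (eq_of_le_of_card_ge hUR ?_).symm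
  rw [U0, card_map_of_injective (f := H.embK)
    (fun a b h => congrArg Prod.snd (JT.Loc.emb_injective H h)), natCard_upP]
  exact Nat.le_of_dvd Fintype.card_pos (GoldSFour.card_dvd_of_three_group hF H.e hR hRC)

theorem natCard_A0 (hF : Fintype.card F = 3 ^ (2 * n + 1)) :
    Nat.card (A0 H) = Fintype.card F - 1 := by
  rw [A0, card_map_of_injective (JT.Loc.emb_injective H),
    Nat.card_congr (prodEquiv _ _).toEquiv, Nat.card_prod, card_top,
    show Nat.card (Multiplicative (ZMod 2)) = Nat.card (ZMod 2) from rfl, Nat.card_zmod,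
    natCard_dgP (two_ne_zero' hF)]

theorem A0_le_normalizer_U0 : A0 H ≤ normalizer (U0 H : Set G) := by
  rw [Subgroup.le_normalizer_iff]
  rintro _ ⟨⟨b, s⟩, hbs, rfl⟩ _ ⟨u, hu, rfl⟩
  refine ⟨s * u * s⁻¹, (Subgroup.le_normalizer_iff.1 dgP_le_normalizer) s (mem_prod.1 hbs).2 u hu, ?_⟩
  rw [embK_apply, embK_apply, ← map_inv, ← map_mul, ← map_mul]
  congr 1
  ext <;> simp

/-- The centraliser part of the normaliser of a 3-subgroup over `U₀`. -/
theorem cent_normalizer (hF : Fintype.card F = 3 ^ (2 * n + 1)) {S : Subgroup G}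
    (hS : IsPGroup 3 S) (hUS : U0 H ≤ S) {g : G} (hg : g ∈ normalizer (S : Set G))
    (hgt : Commute g H.t) : ∃ b, ∃ k ∈ borelP F, H.emb (b, k) = g := by
  have hfix : S ⊓ centralizer ({H.t} : Set G) = U0 H :=
    three_group_eq hF (hS.to_le inf_le_left) (le_inf hUS U0_le_centralizer) inf_le_right
  obtain ⟨⟨b, k⟩, rfl⟩ := JT.Loc.emb_surj H hgt
  have hnorm : ∀ u ∈ upP F, k * u * k⁻¹ ∈ upP F := by
    intro u hu
    have h1 : H.emb (b, k) * H.embK u * (H.emb (b, k))⁻¹ ∈ U0 H := by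
      rw [← hfix]
      refine ⟨(mem_normalizer_iff.1 hg _).1 (hUS ⟨u, hu, rfl⟩), mem_centralizer_singleton_iff.2 ?_⟩
      exact ((hgt.mul_left (JT.Loc.emb_commute H (1, u))).mul_left hgt.inv_left).eq
    obtain ⟨v, hv, hve⟩ := h1
    rw [embK_apply, embK_apply, ← map_inv, ← map_mul, ← map_mul] at hve
    have := congrArg Prod.snd (JT.Loc.emb_injective H hve)
    simp only [Prod.snd_mul, Prod.snd_inv] at this
    exact this ▸ hv
  obtain ⟨u, hu, s, hs, rfl⟩ := mem_of_normalize hnorm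
  exact ⟨b, _, mul_mem (mem_sup_left hu) (mem_sup_right hs), rfl⟩

/-- No element of 3-power order centralised by an involution is inverted by one commuting with it. -/
theorem conj_three_inverted (hF : Fintype.card F = 3 ^ (2 * n + 1))
    (hfused : ∀ y : G, orderOf y = 2 → IsConj H.t y) {s d τ : G} (hs : orderOf s = 2)
    (hτ : τ * τ = 1) (hτs : Commute τ s) (hds : Commute d s) {k : ℕ} (hd : d ^ 3 ^ k = 1)
    (hinv : τ * d * τ = d⁻¹) : d = 1 := by
  obtain ⟨g, hg⟩ := isConj_iff.1 (hfused s hs)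
  set φ : G ≃* G := MulAut.conj g⁻¹ with hφ
  have hst : φ s = H.t := by rw [← hg, hφ, MulAut.conj_apply]; group
  obtain ⟨⟨b, y⟩, hy⟩ := JT.Loc.emb_surj H (g := φ d) (by rw [← hst]; exact hds.map φ)
  obtain ⟨⟨c, j⟩, hj⟩ := JT.Loc.emb_surj H (g := φ τ) (by rw [← hst]; exact hτs.map φ)
  have hinj := JT.Loc.emb_injective H
  have hj2 : ((c, j) : Multiplicative (ZMod 2) × PG) * (c, j) = 1 := hinj (by
    rw [map_mul, hj, ← map_mul, hτ, map_one, map_one])
  have hy3 : ((b, y) : Multiplicative (ZMod 2) × PG) ^ 3 ^ k = 1 := hinj (by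
    rw [map_pow, hy, ← map_pow, hd, map_one, map_one])
  have hji : ((c, j) : Multiplicative (ZMod 2) × PG) * (b, y) * (c, j) = (b, y)⁻¹ := hinj (by
    rw [map_mul, map_mul, map_inv, hy, hj, ← map_mul, ← map_mul, ← map_inv, hinv])
  have hb : b = 1 := z2_eq_one_of_odd (Odd.pow (by decide)) (congrArg Prod.fst hy3)
  have hy1 : y = 1 := by
    by_contra hne
    obtain ⟨i, hi3, hi1⟩ := exists_pow_order_three (congrArg Prod.snd hy3 : y ^ 3 ^ k = 1) hne
    have hjj : j * j = 1 := congrArg Prod.snd hj2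
    have hjinv : j⁻¹ = j := inv_eq_of_mul_eq_one_right hjj
    have hji2 : j * y * j = y⁻¹ := congrArg Prod.snd hji
    have hjy : j * y ^ 3 ^ i * j⁻¹ = (y ^ 3 ^ i)⁻¹ := by
      rw [← conj_pow, hjinv, hji2, inv_pow]
    rcases eq_or_ne j 1 with rfl | hj1
    · rw [one_mul, inv_one, mul_one] at hjy
      refine hi1 ?_
      have h2 : y ^ 3 ^ i * y ^ 3 ^ i = 1 := by
        nth_rewrite 1 [hjy]
        exact inv_mul_cancel _
      rw [pow_succ, pow_two, h2, one_mul] at hi3
      exact hi3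
    · exact (GoldSFour.no_norm_three hF hjj hj1 hi3 hi1).2 hjy
  apply φ.injective
  rw [← hy, hb, hy1, map_one]
  exact map_one H.emb

/-- A Sylow 3-subgroup normalised by `⟨t⟩ × T`, containing all 3-elements of its normaliser. -/
theorem exists_sylow_three (hab : ∀ P : Sylow 2 G, ∀ a b : P, a * b = b * a)
    (ht : H.emb (Multiplicative.ofAdd 1, 1) = H.t) (hF : Fintype.card F = 3 ^ (2 * n + 1))
    (hcard : Nat.card G =
      Fintype.card F ^ 3 * (Fintype.card F ^ 3 + 1) * (Fintype.card F - 1)) :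
    ∃ S : Subgroup G, IsPGroup 3 S ∧ U0 H ≤ S ∧ A0 H ≤ normalizer (S : Set G) ∧
      Fintype.card F ^ 3 ∣ Nat.card S ∧
      ∀ x ∈ normalizer (S : Set G), ∀ k : ℕ, x ^ 3 ^ k = 1 → x ∈ S := by
  classical
  haveI : Fact (Nat.Prime 2) := ⟨Nat.prime_two⟩
  haveI : Fact (Nat.Prime 3) := ⟨Nat.prime_three⟩
  obtain ⟨S, hUS, ⟨hS, -, hAS⟩, hmax⟩ := Set.Finite.exists_le_maximal
    (Set.toFinite {S : Subgroup G | IsPGroup 3 S ∧ U0 H ≤ S ∧ A0 H ≤ normalizer (S : Set G)})
    (a := U0 H) ⟨isPGroup_U0 hF, le_rfl, A0_le_normalizer_U0⟩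
  set M := normalizer (S : Set G) with hM
  have hSM : S ≤ M := le_normalizer
  have htA : H.t ∈ A0 H := ⟨(Multiplicative.ofAdd 1, 1), mem_prod.2 ⟨mem_top _, one_mem _⟩, ht⟩
  set tM : M := ⟨H.t, hAS htA⟩ with htM
  have htMo : orderOf tM = 2 := by rw [htM, Subgroup.orderOf_mk]; exact H.ht
  have ht1 : H.t ≠ 1 := fun e => by simpa [e] using H.ht
  -- the centraliser of `t` in `M`
  have hCM : ∀ x : M, Commute x tM → ∃ b, ∃ k ∈ borelP F, H.emb (b, k) = (x : G) :=
    fun x hx => cent_normalizer hF hS hUS x.2 (congrArg Subtype.val hx.eq)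
  -- the Sylow 2-subgroup of `M`
  obtain ⟨R, hR⟩ := (IsPGroup.of_card (n := 1) (G := zpowers tM) (by
    rw [Nat.card_zpowers, htMo, pow_one])).exists_le_sylow
  have htR : tM ∈ (R : Subgroup M) := hR (mem_zpowers _)
  have hR2 : ∀ x ∈ (R : Subgroup M), x = 1 ∨ x = tM := by
    intro x hx
    obtain ⟨P, hP⟩ := (R.2.map M.subtype).exists_le_sylow
    have hcG : (x : G) * H.t = H.t * x := congrArg Subtype.val
      (hab P ⟨x, hP ⟨x, hx, rfl⟩⟩ ⟨H.t, hP ⟨tM, htR, rfl⟩⟩)
    have hc : Commute x tM := Subtype.ext hcG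
    obtain ⟨b, k, hk, hbk⟩ := hCM x hc
    obtain ⟨j, hj⟩ := R.2 ⟨x, hx⟩
    have h1 : H.emb ((b, k) ^ 2 ^ j) = H.emb 1 := by
      rw [map_pow, hbk, map_one, ← Subgroup.coe_pow,
        show x ^ 2 ^ j = 1 from congrArg Subtype.val hj]
      rfl
    have hk1 : k = 1 := orderOf_eq_one_iff.1 (Nat.eq_one_of_dvd_coprimes
      (Nat.Coprime.pow_left j (Nat.coprime_two_left.2 (natCard_borelP_odd hF)))
      (orderOf_dvd_of_pow_eq_one (congrArg Prod.snd (JT.Loc.emb_injective H h1)))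
      (Subgroup.orderOf_dvd_natCard _ hk))
    subst hk1
    rcases JT.Loc.z2_cases b with rfl | rfl
    · left; exact Subtype.ext (hbk.symm.trans (map_one H.emb))
    · right; exact Subtype.ext (hbk.symm.trans ht)
  have hRz : (R : Subgroup M) = zpowers tM := le_antisymm (fun x hx => by
    rcases hR2 x hx with rfl | rfl
    exacts [one_mem _, mem_zpowers _]) hR
  have hRcent : normalizer ((R : Subgroup M) : Set M) ≤ centralizer ((R : Subgroup M) : Set M) := by
    intro g hg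
    rw [mem_centralizer_iff]
    intro r hr
    rcases hR2 r hr with rfl | rfl
    · simp
    · rcases hR2 _ ((mem_normalizer_iff.1 hg tM).1 htR) with h | h
      · exact absurd (congrArg Subtype.val (conj_eq_one_iff.1 h)) ht1
      · exact (mul_inv_eq_iff_eq_mul.1 h).symm
  obtain ⟨P', N, hNn, hN⟩ :=
    Transfer.NormalPComplement.hasNormalPComplement_of_normalizer_le_centralizer R hRcent
  haveI := hNn
  have hNidx : N.index = 2 := by
    rw [hN.symm.index_eq_card, Nat.card_congr (P'.equiv R).toEquiv, hRz, Nat.card_zpowers, htMo]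
  have hNodd : Odd (Nat.card N) := by
    rw [Nat.odd_iff, ← Nat.two_dvd_ne_zero]
    intro hd
    exact P'.not_dvd_index (hN.index_eq_card ▸ hd)
  have hodd_mem : ∀ x : M, Odd (orderOf x) → x ∈ N := fun x hx =>
    mem_of_sq_mem hx (sq_mem_of_index_two hNidx x)
  have h3odd : ∀ (x : M) (k : ℕ), x ^ 3 ^ k = 1 → Odd (orderOf x) := fun x k hk =>
    (Odd.pow (by decide)).of_dvd_nat (orderOf_dvd_of_pow_eq_one hk)
  -- the quotient
  set S' := S.subgroupOf M with hS'
  haveI : S'.Normal := Subgroup.normal_in_normalizer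
  have hS'p : IsPGroup 3 S' := hS.comap_subtype
  have hS'N : S' ≤ N := fun x hx => by
    obtain ⟨k, hk⟩ := hS'p ⟨x, hx⟩
    exact hodd_mem x (h3odd x k (congrArg Subtype.val hk))
  set π := QuotientGroup.mk' S' with hπ
  haveI : (N.map π).Normal := hNn.map π (QuotientGroup.mk'_surjective S')
  let ι : dgP F →* M := (H.embK.comp (dgP F).subtype).codRestrict M fun s =>
    hAS ⟨(1, s), mem_prod.2 ⟨mem_top _, s.2⟩, rfl⟩
  let ψ : dgP F →* M ⧸ S' := π.comp ι
  have hψ : Function.Injective ψ := by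
    rw [injective_iff_map_eq_one]
    intro s hs
    have hsS : ι s ∈ S' := (QuotientGroup.eq_one_iff _).1 hs
    obtain ⟨k, hk⟩ := hS ⟨(ι s : G), hsS⟩
    have h1 : H.emb ((1, (s : PG)) ^ 3 ^ k) = H.emb 1 := by
      rw [map_pow, map_one]; exact congrArg Subtype.val hk
    have h2 : (s : PG) ^ 3 ^ k = 1 := congrArg Prod.snd (JT.Loc.emb_injective H h1)
    exact Subtype.ext (orderOf_eq_one_iff.1 (Nat.eq_one_of_dvd_coprimes
      (Nat.Coprime.pow_left k (Nat.prime_three.coprime_iff_not_dvd.2 (natCard_dgP_odd hF).2))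
      (orderOf_dvd_of_pow_eq_one h2) (Subgroup.orderOf_dvd_natCard _ s.2)))
  have hTcard : Nat.card ψ.range = Nat.card (dgP F) :=
    (Nat.card_congr (MonoidHom.ofInjective hψ).toEquiv).symm
  have hτ : π tM * π tM = 1 := by
    rw [← map_mul, ← pow_two, ← htMo, pow_orderOf_eq_one, map_one]
  have hTc : ∀ a ∈ ψ.range, Commute a (π tM) := by
    rintro _ ⟨s, rfl⟩
    exact Commute.map (Subtype.ext (JT.Loc.emb_commute H (1, (s : PG))).eq : Commute (ι s) tM) π
  have hcent : ∀ x ∈ N.map π, Commute x (π tM) → x ∈ ψ.range := by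
    rintro _ ⟨x, hx, rfl⟩ hc
    obtain ⟨c, ⟨hcN, hct⟩, hxc⟩ := Coprime.exists_fixed_mod (A := zpowers tM) (K := N) (N := S')
      (by rw [Nat.card_zpowers, htMo]; exact Nat.coprime_two_left.2 hNodd)
      (Or.inl (Coprime.isSolvable_of_isMulCommutative _)) hS'N le_normalizer_of_normal
      le_normalizer_of_normal hx (fun a ha => by
        obtain ⟨i, rfl⟩ := mem_zpowers_iff.1 ha
        have hci : Commute (π x) (π (tM ^ i)) := by rw [map_zpow]; exact hc.zpow_right i
        refine (QuotientGroup.eq_one_iff _).1 ?_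
        show π (tM ^ i * x * (tM ^ i)⁻¹ * x⁻¹) = 1
        rw [map_mul, map_mul, map_mul, map_inv, map_inv, ← hci.eq, mul_inv_cancel_right,
          mul_inv_cancel])
    obtain ⟨b, k, hk, hbk⟩ := hCM c (mem_centralizer_iff.1 hct tM (mem_zpowers _)).symm
    have hcpow : c ^ Nat.card N = 1 := by
      have h := pow_card_eq_one' (x := (⟨c, hcN⟩ : N))
      exact congrArg Subtype.val h
    have hb : b = 1 := z2_eq_one_of_odd hNodd (congrArg Prod.fst (JT.Loc.emb_injective H
      (show H.emb ((b, k) ^ Nat.card N) = H.emb 1 by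
        rw [map_pow, hbk, map_one, ← Subgroup.coe_pow, hcpow]; rfl)))
    subst hb
    obtain ⟨u, hu, s, hs, rfl⟩ := (Coprime.mem_sup_of_le_normalizer dgP_le_normalizer).1 hk
    have huS : H.embK u ∈ S := hUS ⟨u, hu, rfl⟩
    refine ⟨⟨s, hs⟩, ?_⟩
    show π (ι ⟨s, hs⟩) = π x
    have hcs : c = ⟨H.embK u, hSM huS⟩ * ι ⟨s, hs⟩ := Subtype.ext (by
      show (c : G) = H.embK u * H.embK s
      rw [← map_mul, embK_apply, hbk])
    have hxc' : π x = π c := QuotientGroup.eq.2 hxc
    rw [hxc', hcs, map_mul, (QuotientGroup.eq_one_iff _).2 (show (⟨H.embK u, hSM huS⟩ : M) ∈ S' from huS)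
      |> (fun h : π ⟨H.embK u, hSM huS⟩ = 1 => h), one_mul]
  have hfull : ∀ r : ℕ, r.Prime → r ∣ Nat.card ψ.range → ¬ r ∣ ψ.range.index := by
    intro r hr hrh hri
    rw [hTcard] at hrh
    have hmul : Nat.card ψ.range * ψ.range.index * Nat.card S' = Nat.card M := by
      rw [Subgroup.card_mul_index]
      exact (Subgroup.card_eq_card_quotient_mul_card_subgroup S').symm
    have hG : Nat.card G = Nat.card (dgP F) *
        (2 * Fintype.card F ^ 3 * (Fintype.card F ^ 3 + 1)) := by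
      rw [hcard, ← natCard_dgP (F := F) (two_ne_zero' hF)]; ring
    have hd : r ∣ 2 * Fintype.card F ^ 3 * (Fintype.card F ^ 3 + 1) := by
      have h1 : Nat.card (dgP F) * (ψ.range.index * Nat.card S') ∣ Nat.card G := by
        rw [← mul_assoc, ← hTcard, hmul]; exact M.card_subgroup_dvd_card
      rw [hG] at h1
      exact hri.trans ((Dvd.intro _ rfl).trans (Nat.dvd_of_mul_dvd_mul_left Nat.card_pos h1))
    have hodd := (natCard_dgP_odd hF).1.of_dvd_nat hrh
    have hr2 : ¬ r ∣ 2 := fun h => by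
      rw [(Nat.prime_dvd_prime_iff_eq hr Nat.prime_two).1 h] at hodd
      exact absurd hodd (by decide)
    rcases hr.dvd_mul.1 hd with h | h
    · rcases hr.dvd_mul.1 h with h | h
      · exact hr2 h
      · rw [hF, ← pow_mul] at h
        rw [(Nat.prime_dvd_prime_iff_eq hr Nat.prime_three).1 (hr.dvd_of_dvd_pow h)] at hrh
        exact (natCard_dgP_odd hF).2 hrh
    · have h1 : r ∣ Fintype.card F - 1 := by
        rw [← natCard_dgP (F := F) (two_ne_zero' hF)]; exact hrh.mul_left 2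
      obtain ⟨j, hj⟩ : ∃ j, Fintype.card F = j + 1 :=
        ⟨Fintype.card F - 1, by have := Fintype.card_pos (α := F); omega⟩
      rw [hj] at h h1
      rw [Nat.add_sub_cancel] at h1
      refine hr2 ((Nat.dvd_add_right (dvd_mul_of_dvd_left h1 ((j * j + 3 * j + 3) : ℕ))).1 ?_)
      refine h.trans (dvd_of_eq ?_)
      ring
  have h3 : Cfsg.pCore 3 (M ⧸ S') = ⊥ := by
    set R0 := (Cfsg.pCore 3 (M ⧸ S')).comap π with hR0
    have hR0p : IsPGroup 3 R0 := (Cores.pCore_isPGroup 3).comap_of_ker_isPGroup π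
      (by rw [hπ, QuotientGroup.ker_mk']; exact hS'p)
    have hle : S ≤ R0.map M.subtype := fun x hx => ⟨⟨x, hSM hx⟩, by
      show π ⟨x, hSM hx⟩ ∈ Cfsg.pCore 3 (M ⧸ S')
      rw [(QuotientGroup.eq_one_iff (⟨x, hSM hx⟩ : M)).2 hx |> (fun h : π ⟨x, hSM hx⟩ = 1 => h)]
      exact one_mem _, rfl⟩
    have hnorm : A0 H ≤ normalizer (R0.map M.subtype : Set G) := by
      haveI : (Cfsg.pCore 3 (M ⧸ S')).Normal := inferInstance
      haveI hR0n : R0.Normal := Subgroup.Normal.comap inferInstance π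
      rw [Subgroup.le_normalizer_iff]
      rintro a ha _ ⟨x, hx, rfl⟩
      exact ⟨⟨a, hAS ha⟩ * x * ⟨a, hAS ha⟩⁻¹, hR0n.conj_mem x hx _, rfl⟩
    have hge := hmax ⟨hR0p.map M.subtype, hUS.trans hle, hnorm⟩ hle
    rw [Subgroup.eq_bot_iff_forall]
    intro w hw
    obtain ⟨y, rfl⟩ := QuotientGroup.mk'_surjective S' w
    exact (QuotientGroup.eq_one_iff y).2 (hge ⟨y, hw, rfl⟩)
  have hnot := not_three_dvd (W := M ⧸ S') hτ (X := N.map π) (T := ψ.range)
    (hNodd.of_dvd_nat (Subgroup.card_map_dvd N π)) hTc hcent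
    (hTcard ▸ (natCard_dgP_odd hF).2) hfull h3
  have hmem : ∀ (x : M) (k : ℕ), x ^ 3 ^ k = 1 → x ∈ S' := by
    intro x k hk
    have hxN := hodd_mem x (h3odd x k hk)
    have h1 : π x = 1 := orderOf_eq_one_iff.1 (Nat.eq_one_of_dvd_coprimes
      (Nat.Coprime.pow_left k (Nat.prime_three.coprime_iff_not_dvd.2 hnot))
      (orderOf_dvd_of_pow_eq_one (by rw [← map_pow, hk, map_one]))
      (Subgroup.orderOf_dvd_natCard _ (mem_map_of_mem π hxN)))
    exact (QuotientGroup.eq_one_iff x).1 h1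
  refine ⟨S, hS, hUS, hAS, ?_, fun x hx k hk => hmem ⟨x, hx⟩ k (Subtype.ext hk)⟩
  obtain ⟨j, hj⟩ := IsPGroup.iff_card.1 hS
  rw [hj, hF, ← pow_mul]
  refine pow_dvd_pow 3 ?_
  by_contra hlt
  have hdvd : 3 ^ (j + 1) ∣ Nat.card G := by
    rw [hcard, hF, ← pow_mul, mul_assoc]
    exact (pow_dvd_pow 3 (by omega)).trans (dvd_mul_right _ _)
  have h3W : 3 ∣ Nat.card (M ⧸ S') := Sylow.prime_dvd_card_quotient_normalizer hdvd hj
  obtain ⟨w, hw⟩ := exists_prime_orderOf_dvd_card' (G := M ⧸ S') 3 h3W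
  obtain ⟨y, rfl⟩ := QuotientGroup.mk'_surjective S' w
  have hy3 : y ^ 3 ∈ S' := (QuotientGroup.eq_one_iff _).1 (by
    show π (y ^ 3) = 1
    rw [map_pow, ← hw, pow_orderOf_eq_one])
  obtain ⟨i, hi⟩ := hS'p ⟨y ^ 3, hy3⟩
  have hy : y ∈ S' := hmem y (i + 1) (by
    rw [pow_succ', pow_mul]; exact congrArg Subtype.val hi)
  rw [(QuotientGroup.eq_one_iff y).2 hy |> (fun h : π y = 1 => h), orderOf_one] at hw
  omega

/-- The doubly transitive configuration: `S` a Sylow 3-subgroup, `N(S) = S(⟨t⟩ × T)`, and `S`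
regular on the other cosets of `N(S)`. -/
structure Setting (H : Setup G (Matrix.ProjectiveSpecialLinearGroup (Fin 2) F)) where
  S : Subgroup G
  isPGroup : IsPGroup 3 S
  card_S : Nat.card S = Fintype.card F ^ 3
  U0_le : U0 H ≤ S
  A0_le : A0 H ≤ normalizer (S : Set G)
  inf_centralizer : S ⊓ centralizer ({H.t} : Set G) = U0 H
  card_normalizer :
    Nat.card (normalizer (S : Set G)) = Fintype.card F ^ 3 * (Fintype.card F - 1)
  index_normalizer : (normalizer (S : Set G)).index = Fintype.card F ^ 3 + 1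
  decomp : ∀ x ∈ normalizer (S : Set G), ∃ p ∈ S, ∃ a ∈ A0 H, x = p * a
  exists_bruhat : ∀ g ∉ normalizer (S : Set G),
    ∃ p ∈ S, ∃ x ∈ normalizer (S : Set G), g = p * H.emb (1, weylP F) * x
  weyl_not_mem : H.emb (1, weylP F) ∉ normalizer (S : Set G)
  ti : ∀ g ∉ normalizer (S : Set G), ∀ d ∈ S, g⁻¹ * d * g ∈ S → d = 1

/-- The configuration exists in a simple group of Ree order. -/
theorem exists_setting [IsSimpleGroup G]
    (hab : ∀ P : Sylow 2 G, ∀ a b : P, a * b = b * a) {m : ℕ} (hm : 1 ≤ m)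
    (hF : Fintype.card F = 3 ^ (2 * m + 1)) (H : Setup G PG)
    (hcard : Nat.card G =
      Fintype.card F ^ 3 * (Fintype.card F ^ 3 + 1) * (Fintype.card F - 1)) :
    Nonempty (Setting H) := by
  classical
  haveI : Fintype PG := Fintype.ofFinite _
  have h27 : 27 ≤ Fintype.card F := by
    rw [hF]
    calc 27 = 3 ^ 3 := by norm_num
      _ ≤ _ := Nat.pow_le_pow_right (by norm_num) (by omega)
  obtain ⟨-, hL, -⟩ := Setup.local_facts hab (hF ▸ Odd.pow (by decide)) (by omega) H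
  obtain ⟨S, hS, hUS, hAS, hqS, hmem⟩ := exists_sylow_three hab hL.emb_t hF hcard
  set M := normalizer (S : Set G) with hM
  set w : G := H.emb (1, weylP F) with hw
  have ht2 : H.t * H.t = 1 := JT.Loc.invol_mul_self H.ht
  have hw2 : w * w = 1 := by
    rw [hw, ← map_mul, ← map_one H.emb]; congr 1; ext
    · rfl
    · exact weylP_sq
  have hwt : Commute w H.t := JT.Loc.emb_commute H _
  have hord : ∀ b : Multiplicative (ZMod 2), orderOf (H.emb (b, weylP F)) = 2 := by
    intro b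
    rw [JT.Loc.orderOf_emb]
    refine orderOf_eq_prime ?_ fun h => weylP_ne_one (congrArg Prod.snd h)
    rw [pow_two]
    exact Prod.ext (JT.Loc.z2_sq b) weylP_sq
  have htw : H.t * w = H.emb (Multiplicative.ofAdd 1, weylP F) := by
    rw [hw, ← hL.emb_t, ← map_mul, Prod.mk_mul_mk, one_mul, mul_one]
  -- `S ⊓ wSw = 1`
  have hD : ∀ d ∈ S, w * d * w ∈ S → d = 1 := by
    set D := S ⊓ S.comap (MulAut.conj w).toMonoidHom with hD'
    have hwinv : w⁻¹ = w := inv_eq_of_mul_eq_one_right hw2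
    have hDmem : ∀ d, d ∈ D ↔ d ∈ S ∧ w * d * w ∈ S := fun d => by
      rw [hD', mem_inf, mem_comap, MulEquiv.coe_toMonoidHom, MulAut.conj_apply, hwinv]
    have htN : ∀ d ∈ S, H.t * d * H.t ∈ S := fun d hd => by
      have h := (mem_normalizer_iff.1 (hAS ⟨(Multiplicative.ofAdd 1, 1),
        mem_prod.2 ⟨mem_top _, one_mem _⟩, hL.emb_t⟩) d).1 hd
      rwa [inv_eq_of_mul_eq_one_right ht2] at h
    have hinner : ∀ d, w * (H.t * d * H.t) * w = H.t * (w * d * w) * H.t := fun d => by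
      calc w * (H.t * d * H.t) * w = w * H.t * d * (H.t * w) := by simp only [mul_assoc]
        _ = H.t * w * d * (w * H.t) := by rw [hwt.eq]
        _ = _ := by simp only [mul_assoc]
    have hDt : ∀ d ∈ D, H.t * d * H.t ∈ D := fun d hd => by
      rw [hDmem] at hd ⊢
      exact ⟨htN d hd.1, by rw [hinner]; exact htN _ hd.2⟩
    have hDw : ∀ d ∈ D, w * d * w ∈ D := fun d hd => by
      rw [hDmem] at hd ⊢
      refine ⟨hd.2, ?_⟩
      rw [show w * (w * d * w) * w = d by
        simp only [mul_assoc]; rw [hw2, mul_one, ← mul_assoc, hw2, one_mul]]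
      exact hd.1
    have hfix : S ⊓ centralizer ({H.t} : Set G) = U0 H :=
      three_group_eq hF (hS.to_le inf_le_left) (le_inf hUS U0_le_centralizer) inf_le_right
    have hCt : ∀ d ∈ D, Commute d H.t → d = 1 := by
      intro d hd hdt
      rw [hDmem] at hd
      have h1 : d ∈ U0 H := hfix ▸ ⟨hd.1, mem_centralizer_singleton_iff.2 hdt.eq⟩
      have h2 : w * d * w ∈ U0 H := hfix ▸
        ⟨hd.2, mem_centralizer_singleton_iff.2 ((hwt.mul_left hdt).mul_left hwt).eq⟩
      obtain ⟨x, hx, rfl⟩ := h1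
      obtain ⟨y, hy, hye⟩ := h2
      rw [embK_apply, embK_apply, hw, ← map_mul, ← map_mul] at hye
      have h3 : y = weylP F * x * weylP F := congrArg Prod.snd (JT.Loc.emb_injective H hye)
      rw [upP_conj_inter hx (h3 ▸ hy)]
      exact map_one H.embK
    have htinv := inverts_of_fpf ht2 hDt hCt
    have hpow : ∀ d ∈ D, ∃ k, d ^ 3 ^ k = 1 := fun d hd => by
      obtain ⟨k, hk⟩ := hS ⟨d, ((hDmem d).1 hd).1⟩
      exact ⟨k, congrArg Subtype.val hk⟩
    have hkill : ∀ b, ∀ d ∈ D, Commute d (H.emb (b, weylP F)) → d = 1 := fun b d hd hc => by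
      obtain ⟨k, hk⟩ := hpow d hd
      exact conj_three_inverted hF hL.fused (hord b) ht2
        ((JT.Loc.emb_commute H (b, weylP F)).symm) hc hk (htinv d hd)
    have hwinvD := inverts_of_fpf hw2 hDw (hkill 1)
    intro d hd hd'
    have hdD : d ∈ D := (hDmem d).2 ⟨hd, hd'⟩
    refine hkill (Multiplicative.ofAdd 1) d hdD ?_
    rw [← htw]
    have h1 : H.t * w * d * (w * H.t) = d := by
      calc H.t * w * d * (w * H.t) = H.t * (w * d * w) * H.t := by simp only [mul_assoc]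
        _ = H.t * d⁻¹ * H.t := by rw [hwinvD d hdD]
        _ = d := by rw [htinv d⁻¹ (inv_mem hdD), inv_inv]
    show d * (H.t * w) = H.t * w * d
    nth_rewrite 1 [← h1]
    simp only [mul_assoc]
    rw [← mul_assoc H.t H.t w, ht2, one_mul, hw2, mul_one]
  -- the points
  let o : G ⧸ M := ((1 : G) : G ⧸ M)
  let a : G ⧸ M := ((w : G) : G ⧸ M)
  have hfixo : ∀ p ∈ M, p • o = o := fun p hp => by
    show ((p * 1 : G) : G ⧸ M) = ((1 : G) : G ⧸ M)
    rw [mul_one, QuotientGroup.eq]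
    simpa using hp
  have hoa : ∀ p ∈ M, p • a ≠ o := by
    intro p hp h
    have h' : p * w ∈ M := by
      have h1 := QuotientGroup.eq.1 (show ((p * w : G) : G ⧸ M) = ((1 : G) : G ⧸ M) from h)
      simpa using inv_mem h1
    have hwM : w ∈ M := by simpa using mul_mem (inv_mem hp) h'
    have hall : ∀ d ∈ S, d = 1 := fun d hd => hD d hd (by
      have := (mem_normalizer_iff.1 hwM d).1 hd
      rwa [inv_eq_of_mul_eq_one_right hw2] at this)
    have h1 : Nat.card S = 1 := Subgroup.card_eq_one.2 ((Subgroup.eq_bot_iff_forall S).2 hall)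
    have := Nat.le_of_dvd one_pos (h1 ▸ hqS)
    nlinarith [Nat.pow_le_pow_left h27 3]
  have hinjS : Function.Injective fun p : S => (p : G) • a := by
    intro p p' h
    have h1 : (w⁻¹ * ((p : G)⁻¹ * p') * w) ∈ M := by
      have := QuotientGroup.eq.1 (show (((p : G) * w : G) : G ⧸ M) = (((p' : G) * w : G) : G ⧸ M) from h)
      simpa [mul_assoc] using this
    obtain ⟨k, hk⟩ := hS (p⁻¹ * p')
    have hk' : ((p : G)⁻¹ * p') ^ 3 ^ k = 1 := congrArg Subtype.val hk
    have h2 := hmem _ h1 k (by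
      nth_rewrite 2 [← inv_inv w]
      rw [conj_pow, hk']; group)
    rw [inv_eq_of_mul_eq_one_right hw2] at h2
    have h3 := hD _ (mul_mem (inv_mem p.2) p'.2) h2
    exact Subtype.ext (inv_mul_eq_one.1 h3)
  -- counting
  have hAM : Fintype.card F ^ 3 * (Fintype.card F - 1) ∣ Nat.card M := by
    refine Nat.Coprime.mul_dvd_of_dvd_of_dvd ?_ (hqS.trans (card_dvd_of_le le_normalizer))
      (natCard_A0 (H := H) hF ▸ card_dvd_of_le hAS)
    rw [hF, ← pow_mul]
    refine Nat.Coprime.pow_left _ ((Nat.prime_three.coprime_iff_not_dvd).2 ?_)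
    have h3 : (3 ^ (2 * m + 1)) % 3 = 0 := by rw [pow_succ]; simp
    omega
  have hidx : Nat.card (G ⧸ M) ≤ Fintype.card F ^ 3 + 1 := by
    have h1 := Subgroup.card_eq_card_quotient_mul_card_subgroup M
    rw [hcard] at h1
    obtain ⟨c, hc⟩ := hAM
    rw [hc] at h1
    refine Nat.le_of_dvd (Nat.succ_pos _) ⟨c, ?_⟩
    refine Nat.eq_of_mul_eq_mul_left
      (show 0 < Fintype.card F ^ 3 * (Fintype.card F - 1) by
        have h0 : 0 < Fintype.card F ^ 3 := by positivity
        exact Nat.mul_pos h0 (by omega)) ?_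
    linear_combination h1
  have himg : Nat.card S ≤ Nat.card {x : G ⧸ M // x ≠ o} :=
    Nat.card_le_card_of_injective (fun p : S => (⟨(p : G) • a, hoa _ (le_normalizer p.2)⟩ :
      {x : G ⧸ M // x ≠ o})) fun p p' h => hinjS (congrArg Subtype.val h)
  haveI : Fintype (G ⧸ M) := Fintype.ofFinite _
  have hsub : Nat.card {x : G ⧸ M // x ≠ o} + 1 = Nat.card (G ⧸ M) := by
    rw [Nat.card_eq_fintype_card, Nat.card_eq_fintype_card, Fintype.card_subtype_compl,
      Fintype.card_subtype_eq, Nat.sub_add_cancel Fintype.card_pos]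
  have hqle : Fintype.card F ^ 3 ≤ Nat.card S := Nat.le_of_dvd Nat.card_pos hqS
  have hcardQ : Nat.card (G ⧸ M) = Fintype.card F ^ 3 + 1 := by omega
  have hsurj : ∀ x : G ⧸ M, x ≠ o → ∃ p ∈ S, p • a = x := by
    intro x hx
    have hb : Function.Bijective (fun p : S => (⟨(p : G) • a, hoa _ (le_normalizer p.2)⟩ :
        {x : G ⧸ M // x ≠ o})) :=
      (Nat.bijective_iff_injective_and_card _).2
        ⟨fun p p' h => hinjS (congrArg Subtype.val h), by omega⟩
    obtain ⟨p, hp⟩ := hb.2 ⟨x, hx⟩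
    exact ⟨p, p.2, congrArg Subtype.val hp⟩
  have hcardS : Nat.card S = Fintype.card F ^ 3 := by omega
  have hcardM : Nat.card M = Fintype.card F ^ 3 * (Fintype.card F - 1) := by
    have h1 := Subgroup.card_eq_card_quotient_mul_card_subgroup M
    rw [hcard, hcardQ] at h1
    refine (Nat.eq_of_mul_eq_mul_left (Nat.add_pos_right (Fintype.card F ^ 3) one_pos) ?_).symm
    linear_combination h1
  have hwM : w ∉ M := fun h => hoa 1 (one_mem _) (by
    rw [one_smul]
    exact (QuotientGroup.eq.2 (by simpa using h)).symm)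
  have hbruhat : ∀ g ∉ M, ∃ p ∈ S, ∃ x ∈ M, g = p * w * x := by
    intro g hg
    obtain ⟨p, hp, hpg⟩ := hsurj (g : G ⧸ M) fun h => hg (by
      have := QuotientGroup.eq.1 h
      simpa using this)
    exact ⟨p, hp, _, QuotientGroup.eq.1 (show ((p * w : G) : G ⧸ M) = (g : G ⧸ M) from hpg),
      (mul_inv_cancel_left _ _).symm⟩
  refine ⟨⟨S, hS, hcardS, hUS, hAS,
    three_group_eq hF (hS.to_le inf_le_left) (le_inf hUS U0_le_centralizer) inf_le_right,
    hcardM, ?_, ?_, hbruhat, hwM, ?_⟩⟩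
  · rw [Subgroup.index_eq_card]; exact hcardQ
  · -- `M = S A₀`
    intro x hx
    have hcop : (Nat.card S).Coprime (Nat.card (A0 H)) := by
      rw [hcardS, natCard_A0 hF, hF, ← pow_mul]
      refine Nat.Coprime.pow_left _ ((Nat.prime_three.coprime_iff_not_dvd).2 ?_)
      have h3 : (3 ^ (2 * m + 1)) % 3 = 0 := by rw [pow_succ]; simp
      omega
    have heq : S ⊔ A0 H = M := eq_of_le_of_card_ge (sup_le le_normalizer hAS) (by
      rw [Coprime.card_sup_of_coprime hAS hcop, hcardS, natCard_A0 hF, hcardM])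
    obtain ⟨p, hp, c, hc, hpc⟩ := (Coprime.mem_sup_of_le_normalizer hAS).1
      (show x ∈ S ⊔ A0 H by rw [heq]; exact hx)
    exact ⟨p, hp, c, hc, hpc.symm⟩
  · -- trivial intersections
    intro g hg d hd hdg
    obtain ⟨p, hp, x, hx, rfl⟩ := hbruhat g hg
    have h1 : w * (p⁻¹ * d * p) * w ∈ S := by
      refine (mem_normalizer_iff''.1 hx _).2 ?_
      convert hdg using 1
      rw [mul_inv_rev, mul_inv_rev, inv_eq_of_mul_eq_one_right hw2]
      group
    have h2 := hD _ (mul_mem (mul_mem (inv_mem hp) hd) hp) h1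
    calc d = p * (p⁻¹ * d * p) * p⁻¹ := by group
      _ = 1 := by rw [h2, mul_one, mul_inv_cancel]

omit [Fintype F] in
theorem isCyclic_dgP [Finite F] : IsCyclic (dgP F) :=
  isCyclic_of_surjective _ (MonoidHom.rangeRestrict_surjective _)

/-- `⟨t⟩ × T` is cyclic. -/
theorem isCyclic_A0 (hF : Fintype.card F = 3 ^ (2 * n + 1)) : IsCyclic (A0 H) := by
  haveI := isCyclic_dgP (F := F)
  haveI : IsCyclic (⊤ : Subgroup (Multiplicative (ZMod 2))) := inferInstance
  have h : IsCyclic ((⊤ : Subgroup (Multiplicative (ZMod 2))) × (dgP F)) := by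
    rw [Group.isCyclic_prod_iff]
    refine ⟨inferInstance, inferInstance, ?_⟩
    rw [card_top, show Nat.card (Multiplicative (ZMod 2)) = Nat.card (ZMod 2) from rfl, Nat.card_zmod]
    exact Nat.coprime_two_left.2 (natCard_dgP_odd hF).1
  exact isCyclic_of_surjective
    ((Subgroup.equivMapOfInjective _ H.emb (JT.Loc.emb_injective H)).toMonoidHom.comp
      (prodEquiv _ _).symm.toMonoidHom)
    ((Subgroup.equivMapOfInjective _ H.emb (JT.Loc.emb_injective H)).surjective.comp
      (prodEquiv _ _).symm.surjective)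

namespace Setting

variable (T : Setting H)

/-- The action on the cosets of the normaliser is doubly transitive. -/
theorem isMultiplyPretransitive :
    MulAction.IsMultiplyPretransitive G (G ⧸ normalizer (T.S : Set G)) 2 := by
  set M := normalizer (T.S : Set G) with hM
  set w : G := H.emb (1, weylP F)
  let o : G ⧸ M := ((1 : G) : G ⧸ M)
  let a : G ⧸ M := ((w : G) : G ⧸ M)
  have hfixo : ∀ p ∈ M, p • o = o := fun p hp => by
    show ((p * 1 : G) : G ⧸ M) = ((1 : G) : G ⧸ M)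
    rw [mul_one, QuotientGroup.eq]
    simpa using hp
  have hsurj : ∀ x : G ⧸ M, x ≠ o → ∃ p ∈ T.S, p • a = x := by
    intro x hx
    obtain ⟨g, rfl⟩ := QuotientGroup.mk_surjective x
    obtain ⟨p, hp, y, hy, rfl⟩ := T.exists_bruhat g fun hg => hx (by
      show (g : G ⧸ M) = ((1 : G) : G ⧸ M)
      rw [QuotientGroup.eq]
      simpa using hg)
    exact ⟨p, hp, (QuotientGroup.mk_mul_of_mem _ hy).symm⟩
  have hpair : ∀ x y : G ⧸ M, x ≠ y → ∃ g : G, g • o = x ∧ g • a = y := by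
    intro x y hxy
    obtain ⟨g, hg⟩ := MulAction.exists_smul_eq G o x
    obtain ⟨p, hp, hpy⟩ := hsurj (g⁻¹ • y) fun h => hxy (by rw [← hg, ← h, smul_inv_smul])
    exact ⟨g * p, by rw [mul_smul, hfixo p (le_normalizer hp), hg],
      by rw [mul_smul, hpy, smul_inv_smul]⟩
  rw [MulAction.is_two_pretransitive_iff]
  intro i j k l hij hkl
  obtain ⟨g, hg1, hg2⟩ := hpair i j hij
  obtain ⟨g', hg1', hg2'⟩ := hpair k l hkl
  refine ⟨g' * g⁻¹, ?_, ?_⟩
  · rw [mul_smul, ← hg1, inv_smul_smul, hg1']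
  · rw [mul_smul, ← hg2, inv_smul_smul, hg2']

end Setting

/-- A simple group with abelian Sylow 2-subgroups, an involution centraliser `C₂ × PSL₂(q)`,
`q = 3^(2m+1)`, and the order `q³(q³+1)(q-1)` is doubly transitive on `q³+1` points. -/
theorem exists_two_transitive [IsSimpleGroup G]
    (hab : ∀ P : Sylow 2 G, ∀ a b : P, a * b = b * a) {m : ℕ} (hm : 1 ≤ m)
    (hF : Fintype.card F = 3 ^ (2 * m + 1)) (t : G) (ht : orderOf t = 2)
    (e : centralizer ({t} : Set G) ≃* Multiplicative (ZMod 2) × PG)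
    (hcard : Nat.card G =
      Fintype.card F ^ 3 * (Fintype.card F ^ 3 + 1) * (Fintype.card F - 1)) :
    ∃ (Ω : Type) (_ : Fintype Ω) (_ : MulAction G Ω), FaithfulSMul G Ω ∧
      MulAction.IsMultiplyPretransitive G Ω 2 ∧ Nat.card Ω = Fintype.card F ^ 3 + 1 := by
  classical
  let H : Setup G PG := ⟨t, ht, e⟩
  obtain ⟨T⟩ := exists_setting hab hm hF H hcard
  set M := normalizer (T.S : Set G)
  have h2 := T.isMultiplyPretransitive
  haveI : Fintype (G ⧸ M) := Fintype.ofFinite _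
  have hcardQ : Nat.card (G ⧸ M) = Fintype.card F ^ 3 + 1 := by
    rw [← Subgroup.index_eq_card]; exact T.index_normalizer
  -- transport to `Fin (q³+1)`
  let η : G ⧸ M ≃ Fin (Fintype.card F ^ 3 + 1) :=
    (Fintype.equivFin (G ⧸ M)).trans (finCongr (by rw [← Nat.card_eq_fintype_card, hcardQ]))
  letI act : MulAction G (Fin (Fintype.card F ^ 3 + 1)) :=
    { smul := fun g i => η (g • η.symm i)
      one_smul := fun i => by show η ((1 : G) • η.symm i) = i; simp
      mul_smul := fun g h i => by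
        show η ((g * h) • η.symm i) = η (g • η.symm (η (h • η.symm i)))
        simp [mul_smul] }
  have hsmul : ∀ (g : G) (i : Fin (Fintype.card F ^ 3 + 1)), g • i = η (g • η.symm i) :=
    fun g i => rfl
  refine ⟨Fin (Fintype.card F ^ 3 + 1), inferInstance, act, ?_, ?_, Nat.card_fin _⟩
  · have hker := MonoidHom.normal_ker (MulAction.toPermHom G (Fin (Fintype.card F ^ 3 + 1)))
    rcases hker.eq_bot_or_eq_top with h | h
    · refine ⟨fun {g g'} hgg => ?_⟩
      exact ((MonoidHom.ker_eq_bot_iff _).1 h) (Equiv.ext hgg)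
    · exfalso
      refine T.weyl_not_mem ?_
      have h1 : H.emb (1, weylP F) ∈ (MulAction.toPermHom G (Fin (Fintype.card F ^ 3 + 1))).ker :=
        h ▸ mem_top _
      have h3 : H.emb (1, weylP F) • η ((1 : G) : G ⧸ M) = η ((1 : G) : G ⧸ M) := by
        have := Equiv.ext_iff.1 (MonoidHom.mem_ker.1 h1) (η ((1 : G) : G ⧸ M))
        simpa using this
      rw [hsmul, Equiv.symm_apply_apply, η.injective.eq_iff] at h3
      have := QuotientGroup.eq.1 (show ((H.emb (1, weylP F) * 1 : G) : G ⧸ M) = ((1 : G) : G ⧸ M) from h3)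
      simpa using this
  · rw [MulAction.is_two_pretransitive_iff] at h2 ⊢
    intro i j k l hij hkl
    obtain ⟨g, hg1, hg2⟩ := h2 (η.symm.injective.ne hij) (η.symm.injective.ne hkl)
    exact ⟨g, by rw [hsmul, hg1, Equiv.apply_symm_apply], by rw [hsmul, hg2, Equiv.apply_symm_apply]⟩

end Cfsg.Agent.Walter.ReeTwoTrans
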