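import Cfsg.Agent.Lib.Walter.CoatomFact
import Cfsg.Agent.Lib.Walter.ReeTwoTransitive
import Cfsg.Agent.Lib.Walter.ReeAbelian
import Cfsg.Agent.Lib.EqAbConj.Janko
import Cfsg.Agent.S0252
import Cfsg.Agent.S0253
import Cfsg.Agent.S0343
import Cfsg.Agent.Lib.Perm.ThreeCycleFStar
import Cfsg.Agent.Lib.Classical.SmallIso

/-!
# Consequences of the list of simple groups with abelian Sylow 2-subgroups

Without a doubly transitive action only the order `175560` remains (S4272); with all Sylow subgroups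
abelian only `J₁` and `PSL₂(q)`, `q ≡ 0, 3, 5 (mod 8)` (S2554).
-/

set_option autoImplicit false
set_option linter.style.haveILetI false

namespace Cfsg.Agent.Walter

open scoped LinearAlgebra.Projectivization

universe u

variable {G : Type u} [Group G] [Finite G] [IsSimpleGroup G]

omit [Finite G] in
/-- `PSL₂(3)` is not a simple non-abelian group. -/
theorem card_ne_three (hG : ¬ IsMulCommutative G) {F : Type} [Field F] [Fintype F]
    (e : G ≃* Matrix.ProjectiveSpecialLinearGroup (Fin 2) F) : Fintype.card F ≠ 3 := by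
  intro hq
  obtain ⟨f, hf⟩ := Classical.SmallIso.exists_pslTwo_hom F 4 (by rw [hq])
  haveI := Perm.ThreeCycleFStar.isSolvable_perm_of_card_le_four (β := Fin 4) (by simp)
  haveI : Group.IsSolvable G := Group.isSolvable_of_isSolvable_injective (f := f.comp e.toMonoidHom) (hf.comp e.injective)
  exact hG ⟨⟨IsSimpleGroup.comm_iff_isSolvable.2 inferInstance⟩⟩

omit [Finite G] [IsSimpleGroup G] in
/-- `PSL₂` acts faithfully and doubly transitively on the projective line. -/
theorem exists_two_transitive_of_psl {F : Type} [Field F] [Fintype F]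
    (e : G ≃* Matrix.ProjectiveSpecialLinearGroup (Fin 2) F) :
    ∃ (Ω : Type) (_ : Fintype Ω) (_ : MulAction G Ω), FaithfulSMul G Ω ∧
      MulAction.IsMultiplyPretransitive G Ω 2 := by
  classical
  haveI := Fintype.ofFinite (ℙ F (Fin 2 → F))
  letI : MulAction G (ℙ F (Fin 2 → F)) := MulAction.compHom _ e.toMonoidHom
  refine ⟨ℙ F (Fin 2 → F), inferInstance, inferInstance, ⟨fun {a b} h => e.injective ?_⟩, ?_⟩
  · exact eq_of_smul_eq_smul (α := ℙ F (Fin 2 → F)) h
  · rw [MulAction.is_two_pretransitive_iff]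
    intro a b c d hab hcd
    obtain ⟨g, hg⟩ := MulAction.exists_smul_eq (Matrix.SpecialLinearGroup (Fin 2) F)
      (⟨![a, b], fun i k => by fin_cases i <;> fin_cases k <;> simp_all [eq_comm]⟩ :
        Fin 2 ↪ ℙ F (Fin 2 → F))
      (⟨![c, d], fun i k => by fin_cases i <;> fin_cases k <;> simp_all [eq_comm]⟩ :
        Fin 2 ↪ ℙ F (Fin 2 → F))
    refine ⟨e.symm (QuotientGroup.mk g), ?_, ?_⟩
    · show e (e.symm _) • a = c
      rw [e.apply_symm_apply, Matrix.ProjectiveSpecialLinearGroup.smul_proj_mk]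
      exact congrArg (fun f : Fin 2 ↪ ℙ F (Fin 2 → F) => f 0) hg
    · show e (e.symm _) • b = d
      rw [e.apply_symm_apply, Matrix.ProjectiveSpecialLinearGroup.smul_proj_mk]
      exact congrArg (fun f : Fin 2 ↪ ℙ F (Fin 2 → F) => f 1) hg

/-- S4272 from the list. -/
theorem s4272_of_known (hab : ∀ P : Sylow 2 G, ∀ a b : P, a * b = b * a) (h : NoTrans.KnownSocle G)
    (hno : ∀ (Ω : Type) [Fintype Ω] [MulAction G Ω] [FaithfulSMul G Ω],
      ¬ MulAction.IsMultiplyPretransitive G Ω 2) : Nat.card G = 175560 := by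
  rcases h with ⟨F, i1, i2, hq, ⟨e⟩⟩ | hJ | ⟨F, i1, i2, t, hq, ht, hC⟩
  · obtain ⟨Ω, _, _, h1, h2⟩ := exists_two_transitive_of_psl e
    exact absurd h2 (hno Ω)
  · exact hJ.2
  · rcases Cfsg.Agent.S0343.result hab hq t ht hC with ⟨m, hm, hF, hG⟩ | ⟨-, hJ⟩
    · obtain ⟨e⟩ := hC
      obtain ⟨Ω, _, _, h1, h2, -⟩ := ReeTwoTrans.exists_two_transitive hab hm hF t ht e
        (by rw [hF]; exact hG)
      exact absurd h2 (hno Ω)
    · exact hJ.2

/-- S2554 from the list. -/
theorem s2554_of_known (hG : ¬ IsMulCommutative G) (hA : ∀ (p : ℕ), p.Prime → ∀ (P : Sylow p G), IsMulCommutative ↥P)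
    (h : NoTrans.KnownSocle G) :
    Cfsg.Spor.IsoJ1 G ∨
      ∃ (F : Type) (_ : Field F) (_ : Fintype F), 3 < Fintype.card F ∧
        (Fintype.card F % 8 = 0 ∨ Fintype.card F % 8 = 3 ∨ Fintype.card F % 8 = 5) ∧
        Nonempty (G ≃* Matrix.ProjectiveSpecialLinearGroup (Fin 2) F) := by
  rcases h with ⟨F, i1, i2, hq, ⟨e⟩⟩ | hJ | ⟨F, i1, i2, t, hq, ht, hC⟩
  · refine Or.inr ?_
    rcases hq with ⟨n, hn, hc⟩ | hc | hc
    · rcases eq_or_lt_of_le hn with rfl | hn3
      · haveI : Fact (Nat.Prime 5) := ⟨by norm_num⟩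
        obtain ⟨e4⟩ := Cfsg.Agent.S0252.result (F := F) (by rw [hc]; norm_num)
        obtain ⟨e5⟩ := Cfsg.Agent.S0253.result (F := ZMod 5) (ZMod.card 5)
        exact ⟨ZMod 5, inferInstance, inferInstance, by rw [ZMod.card]; norm_num,
          Or.inr (Or.inr (by rw [ZMod.card])), ⟨(e.trans e4).trans e5.symm⟩⟩
      · refine ⟨F, i1, i2, ?_, Or.inl ?_, ⟨e⟩⟩
        · rw [hc]; exact (show 3 < 2 ^ 2 from by norm_num).trans_le (Nat.pow_le_pow_right (by norm_num) (by omega))
        · rw [hc]; exact Nat.mod_eq_zero_of_dvd ((show 8 = 2 ^ 3 from rfl) ▸ pow_dvd_pow 2 hn3)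
    · refine ⟨F, i1, i2, ?_, Or.inr (Or.inl hc), ⟨e⟩⟩
      have := card_ne_three hG e
      omega
    · exact ⟨F, i1, i2, by omega, Or.inr (Or.inr hc), ⟨e⟩⟩
  · exact Or.inl (EqAbConj.isoJ1_of_isJ1 hJ)
  · exact Or.inl (EqAbConj.isoJ1_of_isJ1 (isJ1_of_abelian_sylow_two_three
      (fun P a b => (hA 2 Nat.prime_two P).is_comm.comm a b)
      (fun P a b => (hA 3 Nat.prime_three P).is_comm.comm a b) hq t ht hC))

/-- The list from the two facts. -/
theorem knownSocle_of_facts (hcore : CoreFact.{u}) (hfield : FieldFact.{u}) (hG : ¬ IsMulCommutative G)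
    (S : Sylow 2 G) (hS : IsMulCommutative (S : Subgroup G)) : NoTrans.KnownSocle G :=
  (good_of_facts hcore hfield coatomFact G inferInstance hG (SEAbelian.abTwo_of_sylow S hS)).socle

/-- S4272 from the two facts. -/
theorem s4272_of_facts (hcore : CoreFact.{u}) (hfield : FieldFact.{u}) (hG : ¬ IsMulCommutative G)
    (P : Sylow 2 G) (hP : IsMulCommutative (P : Subgroup G))
    (hno : ∀ (Ω : Type) [Fintype Ω] [MulAction G Ω] [FaithfulSMul G Ω],
      ¬ MulAction.IsMultiplyPretransitive G Ω 2) : Nat.card G = 175560 :=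
  s4272_of_known (fun Q a b => Subtype.ext ((SEAbelian.abTwo_of_sylow P hP) _ Q.2 a a.2 b b.2).eq)
    (knownSocle_of_facts hcore hfield hG P hP) hno

/-- S2554 from the two facts. -/
theorem s2554_of_facts (hcore : CoreFact.{u}) (hfield : FieldFact.{u}) (hna : ¬ IsMulCommutative G)
    (hA : ∀ (p : ℕ), p.Prime → ∀ (P : Sylow p G), IsMulCommutative ↥P) :
    Cfsg.Spor.IsoJ1 G ∨
      ∃ (F : Type) (_ : Field F) (_ : Fintype F), 3 < Fintype.card F ∧
        (Fintype.card F % 8 = 0 ∨ Fintype.card F % 8 = 3 ∨ Fintype.card F % 8 = 5) ∧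
        Nonempty (G ≃* Matrix.ProjectiveSpecialLinearGroup (Fin 2) F) :=
  (inferInstance : Nonempty (Sylow 2 G)).elim fun S =>
    s2554_of_known hna hA (knownSocle_of_facts hcore hfield hna S (hA 2 Nat.prime_two S))

end Cfsg.Agent.Walter
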