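import Mathlib
import Cfsg.Agent.Lib.SEAbelian.ReduceTools
import Cfsg.Prelude.Def_Local

/-!
# The socles that have to be excluded at the strongly embedded end
-/

set_option autoImplicit false

namespace Cfsg.Agent.Walter

open Subgroup

universe u

/-- In `X` no normal simple subgroup with trivial centralizer holds all the involutions when an odd
subgroup is transitive on them and the Sylow 2-subgroups are abelian of rank at least three. -/
def NoTransSocle (X : Type u) [Group X] : Prop :=
  SEAbelian.AbTwo X → ∀ Q : Subgroup X, Odd (Nat.card ↥Q) →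
    (∀ a b : X, orderOf a = 2 → orderOf b = 2 → ∃ q ∈ Q, q * a * q⁻¹ = b) →
    (∃ A : Subgroup X, Cfsg.IsElementaryAbelian 2 A ∧ 8 ≤ Nat.card ↥A) →
    ∀ T : Subgroup X, T.Normal → IsSimpleGroup ↥T → ¬ IsMulCommutative ↥T →
      centralizer (T : Set X) = ⊥ → (∀ t : X, orderOf t = 2 → t ∈ T) → False

end Cfsg.Agent.Walter
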