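import Cfsg.Agent.Lib.Walter.Shape
import Cfsg.Agent.Lib.GW.MainFinal
import Cfsg.Agent.Lib.EqSubConj.Small
import Cfsg.Agent.Lib.CIT.SThreeTwo.RankTwo
import Cfsg.Agent.Lib.Classical.SmallIso
import Cfsg.Prelude.Def_TwoFusion

/-!
# The centraliser in the shape theorem

With `O(C(t)) = 1` the centraliser is `⟨t⟩ × E` with `PSL(2, q) ⊴ E`, `q ≡ 3, 5 (mod 8)`, `C_E(PSL(2, q)) = 1`.
-/

set_option autoImplicit false
set_option linter.unusedSectionVars false
set_option linter.style.haveILetI false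

open Subgroup
open scoped Pointwise

namespace Cfsg.Agent.Walter

universe u

variable {G : Type u} [Group G] [Finite G]

/-- A simple group with a four group as Sylow 2-subgroup. -/
theorem psl_of_four [IsSimpleGroup G] (hnc : ¬ IsMulCommutative G) (S : Sylow 2 G)
    (hel : ∀ x ∈ (S : Subgroup G), x * x = 1) (h4 : Nat.card ↥(S : Subgroup G) = 4) :
    ∃ (F : Type) (_ : Field F) (_ : Fintype F), (Fintype.card F % 8 = 3 ∨ Fintype.card F % 8 = 5) ∧
      3 < Fintype.card F ∧ Nonempty (G ≃* Matrix.ProjectiveSpecialLinearGroup (Fin 2) F) := by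
  haveI : Fact (Nat.Prime 2) := ⟨Nat.prime_two⟩
  haveI : Nontrivial ↥(S : Subgroup G) := Finite.one_lt_card_iff_nontrivial.1 (by omega)
  haveI : IsKleinFour ↥(S : Subgroup G) := ⟨h4, Monoid.exponent_eq_prime_iff Nat.prime_two |>.2
    fun x hx => orderOf_eq_prime (by rw [pow_two]; exact Subtype.ext (hel x x.2)) hx⟩
  obtain ⟨e⟩ : Nonempty (↥(S : Subgroup G) ≃* DihedralGroup 2) := IsKleinFour.nonempty_mulEquiv
  have h8 := EqSubConj.not_eight S h4
  rcases GW.simpleGW G S 2 le_rfl ⟨e⟩ with ⟨K, iK, jK, hKodd, ⟨φ⟩⟩ | ⟨⟨φ⟩⟩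
  · have h3 := CIT.SThreeTwo.three_lt_card hnc hKodd φ
    have hq := Cfsg.Agent.Classical.SmallIso.natCard_pslTwo K
    rw [Cfsg.Agent.Classical.GL2.natCard_SL_two, ← Nat.card_congr φ.toEquiv] at hq
    refine ⟨K, iK, jK, ?_, h3, ⟨φ⟩⟩
    by_contra hcon
    apply h8
    set q := Fintype.card K with hqdef
    have hq2 := Nat.odd_iff.1 hKodd
    have h16 : 16 ∣ q * ((q - 1) * (q + 1)) := by
      refine Dvd.dvd.mul_left ?_ q
      obtain ⟨k, hk⟩ : ∃ k, q = 8 * k + 1 ∨ q = 8 * k + 7 := ⟨q / 8, by omega⟩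
      rcases hk with hk | hk
      · exact ⟨k * (4 * k + 1), by rw [hk, Nat.add_sub_cancel]; ring⟩
      · exact ⟨(4 * k + 3) * (k + 1), by rw [hk, show 8 * k + 7 - 1 = 8 * k + 6 by omega]; ring⟩
    have hgcd : Nat.gcd 2 (q - 1) = 2 := Nat.gcd_eq_left (Nat.dvd_of_mod_eq_zero (by omega))
    rw [hgcd] at hq
    omega
  · exfalso
    apply h8
    rw [Nat.card_congr φ.toEquiv, nat_card_alternatingGroup]
    simp [Nat.factorial]

/-- A Sylow 2-subgroup of order two has a normal complement. -/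
theorem exists_compl_of_two {Q : Type*} [Group Q] [Finite Q] (P : Sylow 2 Q) {z : Q}
    (hz : z ∈ (P : Subgroup Q)) (hz1 : z ≠ 1) (hP : ∀ y ∈ (P : Subgroup Q), y = 1 ∨ y = z) :
    ∃ K : Subgroup Q, K.Normal ∧ z ∉ K ∧ ∀ q : Q, q ∈ K ∨ q * z⁻¹ ∈ K := by
  haveI : Fact (Nat.Prime 2) := ⟨Nat.prime_two⟩
  have hcomm : normalizer ((P : Subgroup Q) : Set Q) ≤ centralizer ((P : Subgroup Q) : Set Q) := by
    intro g hg
    refine mem_centralizer_iff.2 fun y hy => ?_
    rcases hP y hy with e | e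
    · rw [e, one_mul, mul_one]
    · rcases hP _ ((mem_normalizer_iff.1 hg y).1 hy) with e' | e'
      · rw [conj_eq_one_iff] at e'
        rw [e', one_mul, mul_one]
      · rw [← e, mul_inv_eq_iff_eq_mul] at e'
        exact e'.symm
  have hcompl := MonoidHom.ker_transferSylow_isComplement' P hcomm
  refine ⟨(MonoidHom.transferSylow P hcomm).ker, inferInstance, fun hK => hz1 ?_, fun q => ?_⟩
  · exact mem_bot.1 (hcompl.disjoint.le_bot (show z ∈ _ ⊓ (P : Subgroup Q) from ⟨hK, hz⟩))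
  · obtain ⟨⟨k, p⟩, e⟩ := hcompl.2 q
    rcases hP _ p.2 with e' | e'
    · refine Or.inl ?_
      rw [← show (k : Q) * p = q from e, e', mul_one]
      exact k.2
    · refine Or.inr ?_
      rw [← show (k : Q) * p = q from e, e', mul_inv_cancel_right]
      exact k.2

/-- The subgroup of index two. -/
theorem exists_index_two {S : Sylow 2 G} {t : G} (ht : orderOf t = 2) {C J : Subgroup G}
    (hSC : (S : Subgroup G) ≤ C) (hJC : J ≤ C) (hn : C ≤ normalizer (J : Set G))
    (hsplit : ∀ s ∈ (S : Subgroup G), s ∈ J ∨ s * t ∈ J) (htS : t ∈ (S : Subgroup G)) (htJ : t ∉ J) :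
    ∃ E : Subgroup G, E ≤ C ∧ J ≤ E ∧ t ∉ E ∧ C ≤ normalizer (E : Set G) ∧ zpowers t ⊔ E = C := by
  haveI : Fact (Nat.Prime 2) := ⟨Nat.prime_two⟩
  set J' := J.subgroupOf C
  haveI : J'.Normal := normal_subgroupOf_of_le_normalizer hn
  set π := QuotientGroup.mk' J' with hπ
  have hπs : Function.Surjective π := QuotientGroup.mk'_surjective J'
  set P := (S.subtype hSC).mapSurjective hπs
  set t' : ↥C := ⟨t, hSC htS⟩
  have hPmem : ∀ y ∈ (P : Subgroup (↥C ⧸ J')), y = 1 ∨ y = π t' := by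
    intro y hy
    rw [Sylow.coe_mapSurjective] at hy
    obtain ⟨x, hx, rfl⟩ := mem_map.1 hy
    rw [Sylow.coe_subtype, mem_subgroupOf] at hx
    rcases hsplit _ hx with e | e
    · exact Or.inl ((QuotientGroup.eq_one_iff _).2 e)
    · refine Or.inr ?_
      have h1 : π (x * t') = 1 := (QuotientGroup.eq_one_iff _).2 (show (x * t' : ↥C) ∈ J' from e)
      rw [map_mul, mul_eq_one_iff_eq_inv] at h1
      rw [h1]
      refine inv_eq_of_mul_eq_one_right ?_
      rw [← map_mul]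
      refine (QuotientGroup.eq_one_iff _).2 ?_
      show t * t ∈ J
      rw [← pow_two, orderOf_dvd_iff_pow_eq_one.1 ht.dvd]
      exact one_mem J
  obtain ⟨K, hKn, htK, hKsplit⟩ := exists_compl_of_two P (z := π t')
    (by
      rw [Sylow.coe_mapSurjective]
      exact mem_map_of_mem _ (by rw [Sylow.coe_subtype, mem_subgroupOf]; exact htS))
    (fun e => htJ ((QuotientGroup.eq_one_iff _).1 e :)) hPmem
  haveI := hKn
  refine ⟨(K.comap π).map C.subtype, map_subtype_le _, fun j hj => ?_, ?_, fun c hc => ?_, ?_⟩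
  · refine ⟨⟨j, hJC hj⟩, ?_, rfl⟩
    show π _ ∈ K
    rw [show π ⟨j, hJC hj⟩ = 1 from (QuotientGroup.eq_one_iff _).2 hj]
    exact one_mem K
  · rintro ⟨x, hx, e⟩
    obtain rfl : x = t' := Subtype.ext e
    exact htK hx
  · have := (inferInstance : (K.comap π).Normal)
    refine mem_normalizer_iff.2 fun x => ⟨?_, ?_⟩
    · rintro ⟨y, hy, rfl⟩
      exact ⟨⟨c, hc⟩ * y * ⟨c, hc⟩⁻¹, this.conj_mem y hy _, rfl⟩
    · rintro ⟨y, hy, e⟩
      refine ⟨⟨c, hc⟩⁻¹ * y * ⟨c, hc⟩, by simpa using this.conj_mem y hy (⟨c, hc⟩⁻¹ : ↥C), ?_⟩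
      show c⁻¹ * (y : G) * c = x
      rw [show ((y : ↥C) : G) = c * x * c⁻¹ from e]
      group
  · refine le_antisymm (sup_le (zpowers_le.2 (hSC htS)) (map_subtype_le _)) fun c hc => ?_
    rcases hKsplit (π ⟨c, hc⟩) with e | e
    · exact mem_sup_right ⟨⟨c, hc⟩, e, rfl⟩
    · have h1 : c * t⁻¹ ∈ (K.comap π).map C.subtype := by
        refine ⟨⟨c, hc⟩ * t'⁻¹, ?_, rfl⟩
        show π (⟨c, hc⟩ * t'⁻¹) ∈ K
        rw [map_mul, map_inv]
        exact e
      have := mul_mem (mem_sup_right (S := zpowers t) h1) (mem_sup_left (mem_zpowers t))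
      rwa [inv_mul_cancel_right] at this

namespace CompSys

variable {S : Sylow 2 G} {comps : G → Set (Subgroup G)} (h : CompSys S comps)

include h

/-- The shape of the centraliser. -/
theorem shape_centralizer [IsSimpleGroup G] (hna : ¬ IsMulCommutative G) {b : G}
    (hbS : b ∈ (S : Subgroup G)) (hb : orderOf b = 2) {L : Subgroup G} (hL : L ∈ comps b)
    (hO : ∀ t ∈ (S : Subgroup G), orderOf t = 2 → ∀ N : Subgroup G, N ≤ centralizer ({t} : Set G) →
      Odd (Nat.card ↥N) → centralizer ({t} : Set G) ≤ normalizer (N : Set G) → N = ⊥) :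
    Nat.card ↥(S : Subgroup G) = 8 ∧
      (∀ u v : G, orderOf u = 2 → orderOf v = 2 → IsConj u v) ∧
      ∃ (t : G) (E : Subgroup G), orderOf t = 2 ∧
        Cfsg.IsInternalDirectProduct (zpowers t) E (centralizer ({t} : Set G)) ∧
        ∃ E₀ : Subgroup G, E₀ ≤ E ∧ (E₀.subgroupOf E).Normal ∧
          (∃ (F : Type) (_ : Field F) (_ : Fintype F),
            (Fintype.card F % 8 = 3 ∨ Fintype.card F % 8 = 5) ∧ 3 < Fintype.card F ∧
            Nonempty (↥E₀ ≃* Matrix.ProjectiveSpecialLinearGroup (Fin 2) F)) ∧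
          E ⊓ centralizer (E₀ : Set G) = ⊥ := by
  classical
  haveI : Fact (Nat.Prime 2) := ⟨Nat.prime_two⟩
  obtain ⟨h8, hel, htr, t, htS, ht, J, hcomps, h4, hX⟩ := h.shape hna hbS hb hL
  have hJt : J ∈ comps t := hcomps ▸ rfl
  have ht1 : t ≠ 1 := fun e => by rw [e, orderOf_one] at ht; omega
  refine ⟨h8, fun u v hu hv => ?_, ?_⟩
  · have hmove : ∀ x : G, orderOf x = 2 → ∃ g : G, g * x * g⁻¹ ∈ (S : Subgroup G) := fun x hx => by
      have hP : IsPGroup 2 ↥(zpowers x) :=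
        IsPGroup.of_card (n := 1) (by rw [Nat.card_zpowers, hx, pow_one])
      obtain ⟨T, hT⟩ := hP.exists_le_sylow
      obtain ⟨g, hg⟩ := MulAction.exists_smul_eq G T S
      exact ⟨g, by rw [← hg, Sylow.coe_subgroup_smul]; exact conj_mem_conj (hT (mem_zpowers x))⟩
    obtain ⟨g, hg⟩ := hmove u hu
    obtain ⟨g', hg'⟩ := hmove v hv
    have hne : ∀ (g x : G), orderOf x = 2 → g * x * g⁻¹ ≠ 1 := fun g x hx e => by
      rw [conj_eq_one_iff] at e
      rw [e, orderOf_one] at hx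
      omega
    obtain ⟨n, -, e⟩ := htr _ hg (hne g u hu) _ hg' (hne g' v hv)
    exact ((isConj_iff.2 ⟨g, rfl⟩).trans (isConj_iff.2 ⟨n, e⟩)).trans (isConj_iff.2 ⟨g', rfl⟩).symm
  set C := centralizer ({t} : Set G)
  have hSC : (S : Subgroup G) ≤ C := h.sylow_le htS
  have hJC : J ≤ C := h.le t ht J hJt
  have hCJ : C ≤ normalizer (J : Set G) := by
    refine fun c hc => mem_normalizer_iff.2 fun x => ?_
    have hmap : ∀ d ∈ C, MulAut.conj d • J = J := fun d hd => by
      have := h.conj_comp ht hd hJt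
      rw [hcomps] at this
      exact this
    constructor
    · exact fun hx => hmap c hc ▸ conj_mem_conj hx
    · intro hx
      have := hmap c⁻¹ (inv_mem hc) ▸ conj_mem_conj (g := c⁻¹) hx
      simpa [mul_assoc] using this
  have htJ : t ∉ J := fun e => ht1 (h.meet_bot ht hJt e (h.mem_cent_self htS ht hJt).2)
  have hXt : ∀ x ∈ (S : Subgroup G) ⊓ centralizer (J : Set G), x = 1 ∨ x = t := by
    intro x hx
    rw [hX, mem_zpowers_iff_mem_range_orderOf, ht] at hx
    simp only [Finset.mem_image, Finset.mem_range] at hx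
    obtain ⟨i, hi, rfl⟩ := hx
    interval_cases i <;> simp
  have hsplit : ∀ s ∈ (S : Subgroup G), s ∈ J ∨ s * t ∈ J := fun s hs => by
    obtain ⟨w, hw, c, hc, rfl⟩ := h.split t htS ht J hJt s hs
    rcases hXt c hc with rfl | rfl
    · exact Or.inl (by rw [mul_one]; exact hw.2)
    · exact Or.inr (by rw [mul_assoc, hel c htS, mul_one]; exact hw.2)
  obtain ⟨E, hEC, hJE, htE, hEn, hsup⟩ := exists_index_two ht hSC hJC hCJ hsplit htS htJ
  -- moving 2-subgroups of `C` into `S`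
  have hmoveC : ∀ P : Subgroup G, IsPGroup 2 ↥P → P ≤ C →
      ∃ c ∈ C, MulAut.conj c • P ≤ (S : Subgroup G) := fun P hP hle => by
    obtain ⟨T, hT⟩ := (hP.of_equiv (subgroupOfEquivOfLe hle).symm).exists_le_sylow
    obtain ⟨d, hd⟩ := MulAction.exists_smul_eq ↥C T (S.subtype hSC)
    refine ⟨d, d.2, fun x hx => ?_⟩
    have hx' := mem_conj.1 hx
    have h1 : d * ⟨_, hle hx'⟩ * d⁻¹ ∈ (S.subtype hSC : Subgroup ↥C) := by
      rw [← hd, Sylow.coe_subgroup_smul]
      exact conj_mem_conj (hT (show (⟨_, hle hx'⟩ : ↥C) ∈ P.subgroupOf C from hx'))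
    rw [Sylow.coe_subtype, mem_subgroupOf] at h1
    have h2 : (d : G) * ((d : G)⁻¹ * x * d) * (d : G)⁻¹ ∈ (S : Subgroup G) := h1
    rwa [show (d : G) * ((d : G)⁻¹ * x * d) * (d : G)⁻¹ = x by group] at h2
  have hK₀ : E ⊓ centralizer (J : Set G) = ⊥ := by
    refine hO t htS ht _ (inf_le_left.trans hEC) ?_ fun c hc => ?_
    · rw [Nat.odd_iff, ← Nat.two_dvd_ne_zero]
      intro h2
      obtain ⟨⟨x, hx⟩, hx2⟩ := exists_prime_orderOf_dvd_card' 2 h2
      rw [orderOf_mk] at hx2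
      obtain ⟨c, hc, hle⟩ := hmoveC (zpowers x) (IsPGroup.of_card (n := 1) (by rw [Nat.card_zpowers, hx2, pow_one]))
        (zpowers_le.2 (hEC hx.1))
      have hmem := hle (conj_mem_conj (g := c) (mem_zpowers x))
      have hcE : c * x * c⁻¹ ∈ E := (mem_normalizer_iff.1 (hEn hc) x).1 hx.1
      have hcc : c * x * c⁻¹ ∈ centralizer (J : Set G) := mem_centralizer_comm.2 fun y hy => by
        have h' := mem_centralizer_comm.1 hx.2 _ ((mem_normalizer_iff''.1 (hCJ hc) y).1 hy)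
        calc c * x * c⁻¹ * y = c * (x * (c⁻¹ * y * c)) * c⁻¹ := by group
          _ = y * (c * x * c⁻¹) := by rw [h']; group
      rcases hXt _ ⟨hmem, hcc⟩ with e | e
      · rw [conj_eq_one_iff] at e
        rw [e, orderOf_one] at hx2
        omega
      · exact htE (e ▸ hcE)
    · refine mem_normalizer_iff.2 fun x => ?_
      rw [mem_inf, mem_inf, mem_centralizer_comm, mem_centralizer_comm, ← mem_normalizer_iff.1 (hEn hc) x]
      refine and_congr_right fun _ => ⟨fun hx y hy => ?_, fun hx y hy => ?_⟩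
      · calc c * x * c⁻¹ * y = c * (x * (c⁻¹ * y * c)) * c⁻¹ := by group
          _ = y * (c * x * c⁻¹) := by rw [hx _ ((mem_normalizer_iff''.1 (hCJ hc) y).1 hy)]; group
      · calc x * y = c⁻¹ * (c * x * c⁻¹ * (c * y * c⁻¹)) * c := by group
          _ = y * x := by rw [hx _ ((mem_normalizer_iff.1 (hCJ hc) y).1 hy)]; group
  refine ⟨t, E, ht, ⟨zpowers_le.2 (hSC htS), hEC, ?_, ?_, hsup⟩, J, hJE, ?_, ?_, hK₀⟩
  · intro a ha y hy
    obtain ⟨m, rfl⟩ := ha
    exact ((show Commute y t from mem_centralizer_one.1 (hEC hy)).zpow_right m).eq.symm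
  · refine (eq_bot_iff_forall _).2 fun x hx => ?_
    have h1 := hX.ge hx.1
    rcases hXt x h1 with e | e
    · exact e
    · exact absurd (e ▸ hx.2) htE
  · exact normal_subgroupOf_of_le_normalizer (hEC.trans hCJ)
  · haveI := (h.simple t ht J hJt).1
    -- `S ∩ J` is a Sylow subgroup of `J`
    obtain ⟨T, hT⟩ := ((S.2.to_le (inf_le_left : (S : Subgroup G) ⊓ J ≤ _)).of_equiv
      (subgroupOfEquivOfLe (inf_le_right : (S : Subgroup G) ⊓ J ≤ J)).symm).exists_le_sylow
    set T' := (T : Subgroup ↥J).map J.subtype with hT'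
    obtain ⟨c, hc, hle⟩ := hmoveC T' (T.2.map _) ((map_subtype_le _).trans hJC)
    have hle' : MulAut.conj c • T' ≤ (S : Subgroup G) ⊓ J := fun x hx => ⟨hle hx, by
      have := (map_subtype_le (T : Subgroup ↥J)) (mem_conj.1 hx)
      exact (mem_normalizer_iff''.1 (hCJ hc) x).2 this⟩
    have hcard : Nat.card ↥(T : Subgroup ↥J) ≤ 4 := by
      rw [← card_map_of_injective J.subtype_injective, ← hT', ← card_conj c T', ← h4]
      exact Subgroup.card_le_of_le hle'
    have hTeq : ((S : Subgroup G) ⊓ J).subgroupOf J = (T : Subgroup ↥J) := by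
      refine eq_of_le_of_card_ge hT (hcard.trans ?_)
      rw [Nat.card_congr (subgroupOfEquivOfLe inf_le_right).toEquiv, h4]
    exact psl_of_four (h.simple t ht J hJt).2 T
      (fun x hx => Subtype.ext (h.sq_mem htS ht hJt (by rw [← hTeq, mem_subgroupOf] at hx; exact hx)))
      (le_antisymm hcard (by
        rw [← hTeq, Nat.card_congr (subgroupOfEquivOfLe inf_le_right).toEquiv, h4]))

end CompSys

end Cfsg.Agent.Walter
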